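import Cfsg.Agent.H321.Ker.AlgFr
import Cfsg.Agent.LieClassical.SLGen

/-!
# S2187, kernel row: homomorphisms `ψ : SL_n(k) → Y` and endomorphisms of `Y` given on transvections

* `cj x` : conjugation by `x ∈ GL_n(k)` on `SL_n(k)`, `stm r e D uni` : the Frobenius map `g ↦ D g^(q) D⁻¹` resp.
  `g ↦ D (g^(q))^{-T} D⁻¹`;
* `exists_lin`, `exists_uni` : an endomorphism `φ` of `Y` with `φ (ψ (E_ij(t))) = ψ (E_{πi,πj}(c_ij t^q))` resp.
  `= ψ (E_{πj,πi}(c_ij t^q))` is `ψ g ↦ ψ (stm … g)`, `D` monomial.
-/

set_option autoImplicit false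
set_option linter.unusedSectionVars false

namespace Cfsg.Agent.H321.Ker

open Cfsg Cfsg.Geo
open scoped MatrixGroups Matrix commutatorElement
open Matrix.SpecialLinearGroup (toGL transvection)

section Defs

variable {n : ℕ} [NeZero n] {k : Type*} [Field k]

theorem toGL_mem (g : Matrix.SpecialLinearGroup (Fin n) k) : toGL g ∈ specialLinear (Fin n) k :=
  mem_SL_iff.2 g.2

theorem toGL_inj' {g h : Matrix.SpecialLinearGroup (Fin n) k} (H : toGL g = toGL h) : g = h :=
  Subtype.ext (congrArg Units.val H)

/-- restriction to `SL` of an endomorphism of `GL` preserving `SL` -/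
def resSL (T : GL (Fin n) k →* GL (Fin n) k) (hT : ∀ g ∈ specialLinear (Fin n) k, T g ∈ specialLinear (Fin n) k) :
    Matrix.SpecialLinearGroup (Fin n) k →* Matrix.SpecialLinearGroup (Fin n) k where
  toFun g := ⟨(T (toGL g)).1, mem_SL_iff.1 (hT _ (toGL_mem g))⟩
  map_one' := by
    apply Subtype.ext
    show (T (toGL 1)).1 = 1
    rw [map_one, map_one, Units.val_one]
  map_mul' g h := by
    apply Subtype.ext
    show (T (toGL (g * h))).1 = (T (toGL g)).1 * (T (toGL h)).1
    rw [map_mul, map_mul, Units.val_mul]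

theorem toGL_resSL {T : GL (Fin n) k →* GL (Fin n) k}
    {hT : ∀ g ∈ specialLinear (Fin n) k, T g ∈ specialLinear (Fin n) k} (g : Matrix.SpecialLinearGroup (Fin n) k) :
    toGL (resSL T hT g) = T (toGL g) := Units.ext rfl

theorem conj_mem_SL (x : GL (Fin n) k) {g : GL (Fin n) k} (hg : g ∈ specialLinear (Fin n) k) :
    x * g * x⁻¹ ∈ specialLinear (Fin n) k :=
  (MonoidHom.normal_ker (Matrix.GeneralLinearGroup.det : GL (Fin n) k →* kˣ)).conj_mem g hg x

/-- conjugation by an element of `GL` on `SL` -/
def cjH (x : GL (Fin n) k) : Matrix.SpecialLinearGroup (Fin n) k →* Matrix.SpecialLinearGroup (Fin n) k :=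
  resSL (MulAut.conj x).toMonoidHom fun _ hg => conj_mem_SL x hg

theorem toGL_cjH (x : GL (Fin n) k) (g : Matrix.SpecialLinearGroup (Fin n) k) :
    toGL (cjH x g) = x * toGL g * x⁻¹ := toGL_resSL g

/-- conjugation by an element of `GL` on `SL`, as an automorphism -/
def cj : GL (Fin n) k →* MulAut (Matrix.SpecialLinearGroup (Fin n) k) where
  toFun x :=
    { toFun := cjH x
      invFun := cjH x⁻¹
      left_inv := fun g => toGL_inj' (by rw [toGL_cjH, toGL_cjH]; group)
      right_inv := fun g => toGL_inj' (by rw [toGL_cjH, toGL_cjH]; group)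
      map_mul' := map_mul _ }
  map_one' := by
    apply MulEquiv.ext
    intro g
    apply toGL_inj'
    show toGL (cjH 1 g) = _
    rw [toGL_cjH]
    show _ = toGL g
    group
  map_mul' x y := by
    apply MulEquiv.ext
    intro g
    apply toGL_inj'
    show toGL (cjH (x * y) g) = toGL (cjH x (cjH y g))
    rw [toGL_cjH, toGL_cjH, toGL_cjH]
    group

theorem toGL_cj (x : GL (Fin n) k) (g : Matrix.SpecialLinearGroup (Fin n) k) :
    toGL (cj x g) = x * toGL g * x⁻¹ := toGL_cjH x g

variable (r e : ℕ) [Fact r.Prime] [CharP k r]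

/-- The standard Frobenius maps of `GL_n(k)`. -/
def stG (D : GL (Fin n) k) : Bool → (GL (Fin n) k →* GL (Fin n) k)
  | false => (MulAut.conj D).toMonoidHom.comp (fr r e)
  | true => (MulAut.conj D).toMonoidHom.comp (it.comp (fr r e))

theorem stG_mem (D : GL (Fin n) k) (uni : Bool) {g : GL (Fin n) k} (hg : g ∈ specialLinear (Fin n) k) :
    stG r e D uni g ∈ specialLinear (Fin n) k := by
  cases uni
  · exact conj_mem_SL D (fr_SL hg)
  · exact conj_mem_SL D (det_it (fr_SL hg))

/-- The standard Frobenius maps of `SL_n(k)`. -/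
def stm (D : GL (Fin n) k) (uni : Bool) :
    Matrix.SpecialLinearGroup (Fin n) k →* Matrix.SpecialLinearGroup (Fin n) k :=
  resSL (stG r e D uni) fun _ hg => stG_mem r e D uni hg

variable {r e}

theorem stG_false (D g : GL (Fin n) k) : stG r e D false g = D * fr r e g * D⁻¹ := rfl

theorem stG_true (D g : GL (Fin n) k) : stG r e D true g = D * it (fr r e g) * D⁻¹ := rfl

theorem toGL_stm (D : GL (Fin n) k) (uni : Bool) (g : Matrix.SpecialLinearGroup (Fin n) k) :
    toGL (stm r e D uni g) = stG r e D uni (toGL g) := toGL_resSL g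

end Defs

section Trans

variable {n : ℕ} [NeZero n] {k : Type*} [Field k]

/-- The monomial matrix `e_j ↦ d_j e_{π j}`. -/
def mono (π : Equiv.Perm (Fin n)) (d : Fin n → kˣ) : GL (Fin n) k :=
  ⟨Matrix.of fun i j => if i = π j then (d j : k) else 0, Matrix.of fun i j => if j = π i then ((d i)⁻¹ : kˣ).1 else 0, by
    ext i j
    rw [Matrix.mul_apply, Finset.sum_eq_single (π.symm i)]
    · simp only [Matrix.of_apply, Equiv.apply_symm_apply, if_true, Matrix.one_apply]
      by_cases h : i = j
      · subst h; simp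
      · rw [if_neg (Ne.symm h), if_neg h, mul_zero]
    · intro b _ hb
      rw [Matrix.of_apply, if_neg, zero_mul]
      rintro rfl
      exact hb (by simp)
    · simp, by
    ext i j
    rw [Matrix.mul_apply, Finset.sum_eq_single (π i)]
    · simp only [Matrix.of_apply, if_true, Matrix.one_apply, EmbeddingLike.apply_eq_iff_eq]
      by_cases h : i = j
      · subst h; simp
      · rw [if_neg h, if_neg h, mul_zero]
    · intro b _ hb
      rw [Matrix.of_apply, if_neg hb, zero_mul]
    · simp⟩

theorem mono_coe (π : Equiv.Perm (Fin n)) (d : Fin n → kˣ) (i j : Fin n) :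
    (mono π d : Matrix (Fin n) (Fin n) k) i j = if i = π j then (d j : k) else 0 := rfl

theorem coe_transvection {i j : Fin n} (hij : i ≠ j) (t : k) :
    (toGL (transvection hij t) : Matrix (Fin n) (Fin n) k) = 1 + Matrix.single i j t := rfl

theorem cj_mono (π : Equiv.Perm (Fin n)) (d : Fin n → kˣ) {i j : Fin n} (hij : i ≠ j) (t : k) :
    cj (mono π d) (transvection hij t) = transvection (π.injective.ne hij) (d i * t * ((d j)⁻¹ : kˣ)) := by
  apply toGL_inj'
  rw [toGL_cj, mul_inv_eq_iff_eq_mul]
  apply Units.ext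
  rw [Units.val_mul, Units.val_mul, coe_transvection, coe_transvection, mul_add, add_mul, mul_one, one_mul]
  congr 1
  ext a b
  rw [Matrix.mul_apply, Matrix.mul_apply, Finset.sum_eq_single i, Finset.sum_eq_single (π j)]
  · rw [mono_coe, mono_coe, Matrix.single_apply, Matrix.single_apply]
    by_cases ha : π i = a
    · by_cases hb : j = b
      · subst ha hb
        simp
      · have hb' : ¬ π j = π b := fun h => hb (π.injective h)
        simp [ha, hb]
    · have ha' : ¬ a = π i := fun h => ha h.symm
      simp [ha, ha']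
  · intro c _ hc
    rw [Matrix.single_apply, if_neg (fun h => hc h.2.symm), zero_mul]
  · simp
  · intro c _ hc
    rw [Matrix.single_apply, if_neg (fun h => hc h.1.symm), mul_zero]
  · simp

theorem fr_transvection (r e : ℕ) [Fact r.Prime] [CharP k r] {i j : Fin n} (hij : i ≠ j) (t : k) :
    fr r e (toGL (transvection hij t)) = toGL (transvection hij (t ^ r ^ e)) := by
  have hq : r ^ e ≠ 0 := pow_ne_zero _ (Fact.out : r.Prime).ne_zero
  apply Units.ext
  ext a b
  rw [fr_apply, coe_transvection, coe_transvection, Matrix.add_apply, Matrix.add_apply, Matrix.single_apply,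
    Matrix.single_apply]
  by_cases hab : a = b
  · subst hab
    have : ¬ (i = a ∧ j = a) := fun h => hij (h.1.trans h.2.symm)
    rw [if_neg this, if_neg this]
    simp
  · rw [Matrix.one_apply_ne hab]
    split_ifs
    · simp
    · simp [zero_pow hq]

theorem it_transvection {i j : Fin n} (hij : i ≠ j) (t : k) :
    it (toGL (transvection hij t)) = toGL (transvection hij.symm (-t)) := by
  rw [← inv_inj, ← map_inv]
  apply Units.ext
  have h1 : (toGL (transvection hij.symm (-t)))⁻¹ = toGL (transvection hij.symm t) := by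
    rw [← map_inv]
    congr 1
    rw [Matrix.SpecialLinearGroup.transvection_inv, neg_neg]
  rw [h1, map_inv, it_inv_coe, coe_transvection, coe_transvection, Matrix.transpose_add, Matrix.transpose_one]
  congr 1
  ext a b
  rw [Matrix.transpose_apply, Matrix.single_apply, Matrix.single_apply]
  simp only [and_comm]

theorem stm_false_transvection (r e : ℕ) [Fact r.Prime] [CharP k r] (π : Equiv.Perm (Fin n)) (d : Fin n → kˣ)
    {i j : Fin n} (hij : i ≠ j) (t : k) : stm r e (mono π d) false (transvection hij t) =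
      transvection (π.injective.ne hij) (d i * t ^ r ^ e * ((d j)⁻¹ : kˣ)) := by
  apply toGL_inj'
  rw [toGL_stm, stG_false, fr_transvection, ← toGL_cj, cj_mono]

theorem stm_true_transvection (r e : ℕ) [Fact r.Prime] [CharP k r] (π : Equiv.Perm (Fin n)) (d : Fin n → kˣ)
    {i j : Fin n} (hij : i ≠ j) (t : k) : stm r e (mono π d) true (transvection hij t) =
      transvection (π.injective.ne hij.symm) (d j * -(t ^ r ^ e) * ((d i)⁻¹ : kˣ)) := by
  apply toGL_inj'
  rw [toGL_stm, stG_true, fr_transvection, it_transvection, ← toGL_cj, cj_mono]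

/-- A multiplicative family is a coboundary. -/
theorem exists_cob (hn : 3 ≤ n) {c : Fin n → Fin n → k} (h0 : ∀ i j, i ≠ j → c i j ≠ 0)
    (h : ∀ i j l, i ≠ j → i ≠ l → j ≠ l → c i j * c j l = c i l) :
    ∃ d : Fin n → kˣ, ∀ i j, i ≠ j → c i j = d i * ((d j)⁻¹ : kˣ) := by
  have hinv : ∀ i j, i ≠ j → c i j * c j i = 1 := by
    intro i j hij
    obtain ⟨l, hli, hlj⟩ : ∃ l : Fin n, l ≠ i ∧ l ≠ j := by
      have : ((Finset.univ.erase i).erase j : Finset (Fin n)).Nonempty := by
        rw [← Finset.card_pos, Finset.card_erase_of_mem (by simp [hij.symm]), Finset.card_erase_of_mem (by simp)]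
        simp; omega
      obtain ⟨l, hl⟩ := this
      exact ⟨l, by simp at hl; exact hl.2, by simp at hl; exact hl.1⟩
    -- `c i j * c j l = c i l`, `c j i * c i l = c j l`
    have h1 := h i j l hij hli.symm hlj.symm
    have h2 := h j i l hij.symm hlj.symm hli.symm
    have h3 : c i j * c j i * c i l = 1 * c i l := by rw [mul_assoc, h2, h1, one_mul]
    exact mul_right_cancel₀ (h0 i l hli.symm) h3
  refine ⟨fun i => if hi : i = 0 then 1 else Units.mk0 (c i 0) (h0 i 0 hi), fun i j hij => ?_⟩
  beta_reduce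
  by_cases hi : i = 0
  · subst hi
    have hj : j ≠ 0 := hij.symm
    rw [dif_pos rfl, dif_neg hj, Units.val_one, one_mul, Units.val_inv_eq_inv_val, Units.val_mk0]
    exact eq_inv_of_mul_eq_one_left (hinv 0 j hij)
  · by_cases hj : j = 0
    · subst hj
      rw [dif_neg hi, dif_pos rfl, Units.val_mk0, inv_one, Units.val_one, mul_one]
    · rw [dif_neg hi, dif_neg hj, Units.val_mk0, Units.val_inv_eq_inv_val, Units.val_mk0,
        eq_mul_inv_iff_mul_eq₀ (h0 j 0 hj)]
      exact h i j 0 hij hi hj

variable {Y : Type*} [Group Y] {ψ : Matrix.SpecialLinearGroup (Fin n) k →* Y}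

theorem hom_ext_transvection (hn : 3 ≤ n) {f g : Matrix.SpecialLinearGroup (Fin n) k →* Y}
    (h : ∀ (i j : Fin n) (hij : i ≠ j) (t : k), f (transvection hij t) = g (transvection hij t)) : f = g := by
  have : Nontrivial (Fin n) := Fin.nontrivial_iff_two_le.2 (by omega)
  apply MonoidHom.ext
  intro x
  refine Cfsg.Agent.LieClassical.SLGen.transvection_induction (fun x => f x = g x) h
    (fun a b ha hb => by rw [map_mul, map_mul, ha, hb]) x

variable {r e : ℕ} [Fact r.Prime] [CharP k r] {φ : Y →* Y} {π : Equiv.Perm (Fin n)} {c : Fin n → Fin n → k}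

/-- **Linear type.** -/
theorem exists_lin (hn : 3 ≤ n) (hinj : ∀ (i j : Fin n) (hij : i ≠ j), Function.Injective fun t : k => ψ (transvection hij t))
    (h0 : ∀ i j, i ≠ j → c i j ≠ 0)
    (h : ∀ (i j : Fin n) (hij : i ≠ j) (t : k),
      φ (ψ (transvection hij t)) = ψ (transvection (π.injective.ne hij) (c i j * t ^ r ^ e))) :
    ∃ d : Fin n → kˣ, (∀ i j, i ≠ j → c i j = d i * ((d j)⁻¹ : kˣ)) ∧ ∀ g, φ (ψ g) = ψ (stm r e (mono π d) false g) := by
  have hcc : ∀ i j l, i ≠ j → i ≠ l → j ≠ l → c i j * c j l = c i l := by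
    intro i j l hij hil hjl
    have h1 : (transvection hil (1 : k) : Matrix.SpecialLinearGroup (Fin n) k) =
        ⁅transvection hij (1 : k), transvection hjl (1 : k)⁆ := by
      rw [Cfsg.Agent.LieClassical.SLGen.commutator_transvection hil, one_mul]
    have h2 := h i l hil 1
    rw [h1, map_commutatorElement, map_commutatorElement, h, h, ← map_commutatorElement,
      Cfsg.Agent.LieClassical.SLGen.commutator_transvection (π.injective.ne hil)] at h2
    have h3 := hinj _ _ _ h2
    simpa using h3
  obtain ⟨d, hd⟩ := exists_cob hn h0 hcc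
  refine ⟨d, hd, fun g => ?_⟩
  have : φ.comp ψ = ψ.comp (stm r e (mono π d) false) := by
    refine hom_ext_transvection hn fun i j hij t => ?_
    rw [MonoidHom.comp_apply, MonoidHom.comp_apply, h, stm_false_transvection, hd i j hij]
    congr 2
    ring
  exact DFunLike.congr_fun this g

/-- **Unitary type.** -/
theorem exists_uni (hn : 3 ≤ n) (hinj : ∀ (i j : Fin n) (hij : i ≠ j), Function.Injective fun t : k => ψ (transvection hij t))
    (h0 : ∀ i j, i ≠ j → c i j ≠ 0)
    (h : ∀ (i j : Fin n) (hij : i ≠ j) (t : k),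
      φ (ψ (transvection hij t)) = ψ (transvection (π.injective.ne hij.symm) (c i j * t ^ r ^ e))) :
    ∃ d : Fin n → kˣ, (∀ i j, i ≠ j → c i j = -(d j * ((d i)⁻¹ : kˣ))) ∧
      ∀ g, φ (ψ g) = ψ (stm r e (mono π d) true g) := by
  have hcc : ∀ i j l, i ≠ j → i ≠ l → j ≠ l → (-c i j) * (-c j l) = -c i l := by
    intro i j l hij hil hjl
    have h1 : (transvection hil (1 : k) : Matrix.SpecialLinearGroup (Fin n) k) =
        ⁅transvection hij (1 : k), transvection hjl (1 : k)⁆ := by
      rw [Cfsg.Agent.LieClassical.SLGen.commutator_transvection hil, one_mul]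
    have h2 := h i l hil 1
    rw [h1, map_commutatorElement, map_commutatorElement, h, h, ← map_commutatorElement, ← commutatorElement_inv,
      Cfsg.Agent.LieClassical.SLGen.commutator_transvection (π.injective.ne hil.symm),
      Matrix.SpecialLinearGroup.transvection_inv] at h2
    have h3 := hinj _ _ _ h2
    simp only [one_pow, mul_one] at h3
    rw [neg_mul_neg, ← h3]
    ring
  obtain ⟨d, hd⟩ := exists_cob (c := fun i j => -c i j) hn (fun i j hij => neg_ne_zero.2 (h0 i j hij)) hcc
  have hd' : ∀ i j, i ≠ j → c i j = -(d⁻¹ j * ((d⁻¹ i)⁻¹ : kˣ)) := by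
    intro i j hij
    have := hd i j hij
    rw [Pi.inv_apply, Pi.inv_apply, inv_inv, mul_comm, ← this, neg_neg]
  refine ⟨d⁻¹, hd', fun g => ?_⟩
  have : φ.comp ψ = ψ.comp (stm r e (mono π d⁻¹) true) := by
    refine hom_ext_transvection hn fun i j hij t => ?_
    rw [MonoidHom.comp_apply, MonoidHom.comp_apply, h, stm_true_transvection, hd' i j hij]
    congr 2
    ring
  exact DFunLike.congr_fun this g

end Trans

end Cfsg.Agent.H321.Ker
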