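import Cfsg.Agent.H321.Ker.Alg
import Cfsg.Agent.H321.Ker.AlgTr

/-!
# S2187, kernel row, for a homomorphism `ψ : SL_p(k) → Y`

* `gen_hom_of` : `σ ∘ ψ = ψ ∘ stm`, `ya`, `yb` fixed by `σ`, commuting, acting on the image as `cj a`, `cj b`,
  `a * b ≠ b * a`, `ya ^ p`, `yb ^ p` centralise the image; then a subgroup of `Y` containing the fixed `ψ g` which commute
  with some `ya ^ i * yb ^ j`, not `p ∣ i ∧ p ∣ j`, contains all fixed `ψ g`.
* `gen_cyclic_of` : `y` acts diagonally, `b` cyclically on the transvections.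
-/

set_option autoImplicit false
set_option linter.unusedSectionVars false

universe u

namespace Cfsg.Agent.H321.Ker

open Cfsg Cfsg.Geo
open scoped MatrixGroups Matrix commutatorElement
open Matrix.SpecialLinearGroup (toGL transvection)

section Cent

variable {n : ℕ} [NeZero n] {k : Type*} [Field k]

/-- A matrix commuting with all transvections is scalar. -/
theorem scalar_of_comm {x : GL (Fin n) k}
    (h : ∀ (i j : Fin n) (hij : i ≠ j) (t : k), x * toGL (transvection hij t) = toGL (transvection hij t) * x) :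
    x ∈ scalars (Fin n) k := by
  have h1 : (x : Matrix (Fin n) (Fin n) k) ∈ Set.range (Matrix.scalar (Fin n)) := by
    refine Matrix.mem_range_scalar_of_commute_transvectionStruct fun t => ?_
    have := congrArg (fun z : GL (Fin n) k => (z : Matrix (Fin n) (Fin n) k)) (h t.i t.j t.hij t.c)
    exact this.symm
  obtain ⟨c, hc⟩ := h1
  have hc0 : c ≠ 0 := by
    rintro rfl
    rw [map_zero] at hc
    have h2 : (x : Matrix (Fin n) (Fin n) k) * (x⁻¹ : GL (Fin n) k).1 = 1 := by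
      rw [← Units.val_mul, mul_inv_cancel, Units.val_one]
    rw [← hc, zero_mul] at h2
    have := congrFun (congrFun h2 0) 0
    simp at this
  rw [mem_scalars_iff]
  exact ⟨Units.mk0 c hc0, by rw [← hc, Matrix.scalar_apply, Units.val_mk0, Matrix.smul_one_eq_diagonal]⟩

theorem perfect (hn : 3 ≤ n) : commutator (Matrix.SpecialLinearGroup (Fin n) k) = ⊤ :=
  Cfsg.Agent.LieClassical.SLGen.commutator_eq_top (by simpa using hn)

/-- two homomorphisms of a perfect group which are equal modulo the centre are equal -/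
theorem hom_eq_of_center {P S : Type*} [Group P] [Group S] (hP : commutator P = ⊤) {f g : P →* S}
    (h : ∀ x, f x * (g x)⁻¹ ∈ Subgroup.center S) (x : P) : f x = g x := by
  have hz0 : ∀ x, ∃ z ∈ Subgroup.center S, f x = z * g x := fun x => ⟨_, h x, by group⟩
  have h1 : commutator P ≤ f.eqLocus g := by
    rw [commutator_def, Subgroup.commutator_le]
    intro x _ y _
    show f ⁅x, y⁆ = g ⁅x, y⁆
    obtain ⟨z, hz, hx⟩ := hz0 x
    obtain ⟨w, hw, hy⟩ := hz0 y
    rw [map_commutatorElement, map_commutatorElement, hx, hy]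
    have hzc := Subgroup.mem_center_iff.1 hz
    have hwc := Subgroup.mem_center_iff.1 hw
    rw [commutatorElement_def, commutatorElement_def]
    calc z * g x * (w * g y) * (z * g x)⁻¹ * (w * g y)⁻¹ =
          z * (g x * w) * g y * ((g x)⁻¹ * z⁻¹) * ((g y)⁻¹ * w⁻¹) := by simp only [mul_inv_rev, mul_assoc]
      _ = z * (w * g x) * g y * (z⁻¹ * (g x)⁻¹) * (w⁻¹ * (g y)⁻¹) := by
          rw [hwc (g x), Subgroup.mem_center_iff.1 (inv_mem hz) (g x)⁻¹, Subgroup.mem_center_iff.1 (inv_mem hw) (g y)⁻¹]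
      _ = (z * w) * ((g x * g y) * z⁻¹) * (g x)⁻¹ * w⁻¹ * (g y)⁻¹ := by simp only [mul_assoc]
      _ = (z * w) * (z⁻¹ * (g x * g y)) * (g x)⁻¹ * w⁻¹ * (g y)⁻¹ := by
          rw [Subgroup.mem_center_iff.1 (inv_mem hz) (g x * g y)]
      _ = (w * z) * (z⁻¹ * (g x * g y)) * (g x)⁻¹ * w⁻¹ * (g y)⁻¹ := by rw [hwc z]
      _ = w * ((g x * g y * (g x)⁻¹) * w⁻¹) * (g y)⁻¹ := by
          simp only [mul_assoc, mul_inv_cancel_left]
      _ = w * (w⁻¹ * (g x * g y * (g x)⁻¹)) * (g y)⁻¹ := by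
          rw [Subgroup.mem_center_iff.1 (inv_mem hw) (g x * g y * (g x)⁻¹)]
      _ = _ := by rw [mul_inv_cancel_left]
  rw [hP] at h1
  exact h1 (Subgroup.mem_top x)

/-- The kernel of a homomorphism which is not trivial on the transvections is central. -/
theorem ker_le_center (hn : 3 ≤ n) {Y : Type*} [Group Y] {ψ : Matrix.SpecialLinearGroup (Fin n) k →* Y}
    (hψ : ∃ g, ψ g ≠ 1) : ψ.ker ≤ Subgroup.center (Matrix.SpecialLinearGroup (Fin n) k) := by
  have : Nontrivial (Fin n) := Fin.nontrivial_iff_two_le.2 (by omega)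
  have hs : IsSimpleGroup (Matrix.ProjectiveSpecialLinearGroup (Fin n) k) :=
    Cfsg.Agent.LieClassical.SLGen.psl_isSimpleGroup (by simpa using hn)
  set q := QuotientGroup.mk' (Subgroup.center (Matrix.SpecialLinearGroup (Fin n) k)) with hq
  have hN : (ψ.ker.map q).Normal := Subgroup.Normal.map inferInstance _ (QuotientGroup.mk'_surjective _)
  rcases hN.eq_bot_or_eq_top with h | h
  · rwa [Subgroup.map_eq_bot_iff, QuotientGroup.ker_mk'] at h
  · exfalso
    obtain ⟨g, hg⟩ := hψ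
    -- `SL = ker * center`, so `ψ` has abelian image
    have h1 : ψ.ker ⊔ Subgroup.center (Matrix.SpecialLinearGroup (Fin n) k) = ⊤ := by
      rw [← QuotientGroup.ker_mk' (Subgroup.center (Matrix.SpecialLinearGroup (Fin n) k)), ← hq, ← Subgroup.comap_map_eq,
        h, Subgroup.comap_top]
    have hc : ∀ x y, ψ x * ψ y = ψ y * ψ x := by
      intro x y
      have hx : x ∈ ψ.ker ⊔ Subgroup.center (Matrix.SpecialLinearGroup (Fin n) k) := by rw [h1]; trivial
      obtain ⟨u, hu, z, hz, rfl⟩ := Subgroup.mem_sup_of_normal_right.1 hx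
      have hu' : ψ u = 1 := hu
      rw [map_mul, hu', one_mul, ← map_mul, ← map_mul, Subgroup.mem_center_iff.1 hz y]
    apply hg
    have h2 : commutator (Matrix.SpecialLinearGroup (Fin n) k) ≤ ψ.ker := by
      rw [commutator_def, Subgroup.commutator_le]
      intro x _ y _
      rw [MonoidHom.mem_ker, map_commutatorElement, commutatorElement_def, hc x y]
      group
    rw [perfect hn] at h2
    exact h2 (Subgroup.mem_top g)

/-- Two endomorphisms of `SL_n(k)` with the same image in `Y` are equal. -/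
theorem eq_of_psi (hn : 3 ≤ n) {Y : Type*} [Group Y] {ψ : Matrix.SpecialLinearGroup (Fin n) k →* Y}
    (hψ : ∃ g, ψ g ≠ 1) {f g : Matrix.SpecialLinearGroup (Fin n) k →* Matrix.SpecialLinearGroup (Fin n) k}
    (h : ∀ x, ψ (f x) = ψ (g x)) (x : Matrix.SpecialLinearGroup (Fin n) k) : f x = g x := by
  refine hom_eq_of_center (perfect hn) (fun x => ker_le_center hn hψ ?_) x
  rw [MonoidHom.mem_ker, map_mul, map_inv, h, mul_inv_cancel]

end Cent

section Main

variable {p : ℕ} [hp : Fact p.Prime] [NeZero p] {k : Type u} [Field k] [IsAlgClosed k] {r e : ℕ} [Fact r.Prime]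
  [CharP k r] {Y : Type*} [Group Y]

/-- An element of `GL` whose conjugation commutes with `stm` is mapped to a multiple of itself. -/
theorem stG_eq_sc {n : ℕ} [NeZero n] {D : GL (Fin n) k} {uni : Bool} {a : GL (Fin n) k}
    (h : ∀ g, stm r e D uni (cj a g) = cj a (stm r e D uni g)) : ∃ l, stG r e D uni a = sc n l * a := by
  set T := stG r e D uni with hT
  have h1 : ∀ g : Matrix.SpecialLinearGroup (Fin n) k, T a * T (toGL g) * (T a)⁻¹ = a * T (toGL g) * a⁻¹ := by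
    intro g
    have h2 := congrArg toGL (h g)
    rw [toGL_stm, toGL_cj, toGL_cj, toGL_stm, map_mul, map_mul, map_inv] at h2
    exact h2
  have h3 : D⁻¹ * (a⁻¹ * T a) * D ∈ scalars (Fin n) k := by
    refine scalar_of_comm fun i j hij t => ?_
    -- find a preimage of the transvection
    obtain ⟨g, hg⟩ : ∃ g : Matrix.SpecialLinearGroup (Fin n) k, T (toGL g) = D * toGL (transvection hij t) * D⁻¹ := by
      have hq : 0 < r ^ e := pow_pos (Fact.out : r.Prime).pos e
      cases uni with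
      | false =>
        obtain ⟨s, hs⟩ := IsAlgClosed.exists_pow_nat_eq t hq
        exact ⟨transvection hij s, by rw [hT, stG_false, fr_transvection, hs]⟩
      | true =>
        obtain ⟨s, hs⟩ := IsAlgClosed.exists_pow_nat_eq (-t) hq
        exact ⟨transvection hij.symm s, by rw [hT, stG_true, fr_transvection, hs, it_transvection, neg_neg]⟩
    have h4 := h1 g
    rw [hg] at h4
    have h5 : D⁻¹ * (a⁻¹ * T a) * D * toGL (transvection hij t) =
        D⁻¹ * a⁻¹ * (T a * (D * toGL (transvection hij t) * D⁻¹) * (T a)⁻¹) * T a * D := by group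
    rw [h5, h4]
    group
  have h6 : a⁻¹ * T a ∈ scalars (Fin n) k := by
    have := conj_mem_scalars (x := D) h3
    have e1 : D * (D⁻¹ * (a⁻¹ * T a) * D) * D⁻¹ = a⁻¹ * T a := by group
    rwa [e1] at this
  obtain ⟨l, hl⟩ := mem_scalars_iff_sc.1 h6
  refine ⟨l, ?_⟩
  rw [sc_comm, ← hl]
  group

theorem scalar_of_cj {n : ℕ} [NeZero n] {x : GL (Fin n) k} (h : ∀ g, cj x g = g) : x ∈ scalars (Fin n) k := by
  refine scalar_of_comm fun i j hij t => ?_
  have := congrArg toGL (h (transvection hij t))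
  rw [toGL_cj, mul_inv_eq_iff_eq_mul] at this
  exact this

theorem mem_closure_pair {a b : GL (Fin p) k} {ζ : kˣ} (hab : a * b = sc p ζ * (b * a))
    (hap : a ^ p ∈ scalars (Fin p) k) (hbp : b ^ p ∈ scalars (Fin p) k) {f : GL (Fin p) k}
    (hf : f ∈ Subgroup.closure {a, b}) : ∃ (i j : ℕ) (z : kˣ), f = sc p z * (a ^ i * b ^ j) := by
  have hp0 : 0 < p := hp.1.pos
  -- commutation rules
  have hba : b * a = sc p ζ⁻¹ * (a * b) := by
    rw [hab, ← mul_assoc, ← sc_mul, inv_mul_cancel, sc_one, one_mul]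
  have hbai : ∀ i : ℕ, b * a ^ i = sc p (ζ⁻¹ ^ i) * (a ^ i * b) := by
    intro i
    induction i with
    | zero => rw [pow_zero, pow_zero, sc_one, mul_one, one_mul, one_mul]
    | succ m ih =>
      calc b * a ^ (m + 1) = (b * a ^ m) * a := by rw [pow_succ]; group
        _ = sc p (ζ⁻¹ ^ m) * (a ^ m * (b * a)) := by rw [ih]; group
        _ = sc p (ζ⁻¹ ^ m) * ((a ^ m * sc p ζ⁻¹) * (a * b)) := by rw [hba]; group
        _ = sc p (ζ⁻¹ ^ m) * sc p ζ⁻¹ * (a ^ (m + 1) * b) := by rw [← sc_comm ζ⁻¹ (a ^ m), pow_succ]; group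
        _ = _ := by rw [← sc_mul, ← pow_succ]
  have hinv : ∀ {x : GL (Fin p) k}, x ^ p ∈ scalars (Fin p) k → ∃ z, x⁻¹ = sc p z * x ^ (p - 1) := by
    intro x hx
    obtain ⟨z, hz⟩ := mem_scalars_iff_sc.1 hx
    refine ⟨z⁻¹, ?_⟩
    have h1 : x ^ (p - 1) * x = sc p z := by rw [← pow_succ, Nat.sub_add_cancel hp0, hz]
    rw [inv_eq_iff_mul_eq_one, sc_inv, ← sc_inv, ← mul_assoc, ← sc_comm z⁻¹ x, mul_assoc, ← pow_succ', Nat.sub_add_cancel hp0,
      hz, ← sc_mul, inv_mul_cancel, sc_one]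
  let S : Set (GL (Fin p) k) := {f | ∃ (i j : ℕ) (z : kˣ), f = sc p z * (a ^ i * b ^ j)}
  have ha : ∀ f ∈ S, a * f ∈ S := by
    rintro _ ⟨i, j, z, rfl⟩
    refine ⟨i + 1, j, z, ?_⟩
    rw [← mul_assoc, ← sc_comm z a, pow_succ']
    group
  have hb : ∀ f ∈ S, b * f ∈ S := by
    rintro _ ⟨i, j, z, rfl⟩
    refine ⟨i, j + 1, z * ζ⁻¹ ^ i, ?_⟩
    calc b * (sc p z * (a ^ i * b ^ j)) = sc p z * ((b * a ^ i) * b ^ j) := by
          rw [← mul_assoc, ← sc_comm z b]; group
      _ = sc p z * (sc p (ζ⁻¹ ^ i) * (a ^ i * b) * b ^ j) := by rw [hbai]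
      _ = sc p z * sc p (ζ⁻¹ ^ i) * (a ^ i * b ^ (j + 1)) := by rw [pow_succ' b]; group
      _ = _ := by rw [← sc_mul]
  have hs : ∀ (w : kˣ), ∀ f ∈ S, sc p w * f ∈ S := by
    rintro w _ ⟨i, j, z, rfl⟩
    exact ⟨i, j, w * z, by rw [sc_mul, mul_assoc]⟩
  have hpow : ∀ {x : GL (Fin p) k}, (∀ f ∈ S, x * f ∈ S) → ∀ (m : ℕ), ∀ f ∈ S, x ^ m * f ∈ S := by
    intro x hx m
    induction m with
    | zero => intro f hf; rwa [pow_zero, one_mul]
    | succ m ih => intro f hf; rw [pow_succ', mul_assoc]; exact hx _ (ih f hf)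
  have hxi : ∀ {x : GL (Fin p) k}, x ^ p ∈ scalars (Fin p) k → (∀ f ∈ S, x * f ∈ S) → ∀ f ∈ S, x⁻¹ * f ∈ S := by
    intro x hxp hx f hf
    obtain ⟨z, hz⟩ := hinv hxp
    rw [hz, mul_assoc]
    exact hs z _ (hpow hx _ f hf)
  have key : ∀ f ∈ Subgroup.closure {a, b}, ∀ g ∈ S, f * g ∈ S := by
    intro f hf
    induction hf using Subgroup.closure_induction_left with
    | one => intro g hg; rwa [one_mul]
    | mul_left x hx y hy ih =>
      intro g hg
      rw [mul_assoc]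
      rcases hx with rfl | rfl
      · exact ha _ (ih g hg)
      · exact hb _ (ih g hg)
    | inv_mul_cancel x hx y hy ih =>
      intro g hg
      rw [mul_assoc]
      rcases hx with rfl | rfl
      · exact hxi hap ha _ (ih g hg)
      · exact hxi hbp hb _ (ih g hg)
  have h1 : (1 : GL (Fin p) k) ∈ S := ⟨0, 0, 1, by rw [sc_one]; simp⟩
  have := key f hf 1 h1
  rwa [mul_one] at this

/-- **Kernel row for `ψ : SL_p(k) → Y`.** -/
theorem gen_hom_of (h2 : p ≠ 2) (L : LinFacts.{u} p) (U : UniFacts.{u} p) (h7 : 7 ≤ p ∨ r ≠ 2) (he : 0 < e)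
    {ψ : Matrix.SpecialLinearGroup (Fin p) k →* Y} (hψ : ∃ g, ψ g ≠ 1) {σ : Y →* Y} {D : GL (Fin p) k} {uni : Bool}
    (hσ : ∀ g, σ (ψ g) = ψ (stm r e D uni g)) {ya yb : Y} (hya : σ ya = ya) (hyb : σ yb = yb)
    (hcomm : ya * yb = yb * ya) (hpa : ∀ g, ya ^ p * ψ g = ψ g * ya ^ p) (hpb : ∀ g, yb ^ p * ψ g = ψ g * yb ^ p)
    {a b : GL (Fin p) k} (ha : ∀ g, ya * ψ g * ya⁻¹ = ψ (cj a g)) (hb : ∀ g, yb * ψ g * yb⁻¹ = ψ (cj b g))
    (hab : a * b ≠ b * a) {M : Subgroup Y}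
    (hM : ∀ i j : ℕ, ¬ (p ∣ i ∧ p ∣ j) → ∀ g, stm r e D uni g = g →
      ya ^ i * yb ^ j * ψ g = ψ g * (ya ^ i * yb ^ j) → ψ g ∈ M)
    {g : Matrix.SpecialLinearGroup (Fin p) k} (hg : stm r e D uni g = g) : ψ g ∈ M := by
  have hn : 3 ≤ p := by have := hp.1.two_le; omega
  -- `cj a`, `cj b` commute with `stm`
  have hT : ∀ {y : Y} {x : GL (Fin p) k}, σ y = y → (∀ g, y * ψ g * y⁻¹ = ψ (cj x g)) →
      ∃ l, stG r e D uni x = sc p l * x := by
    intro y x hy hx
    refine stG_eq_sc fun g => ?_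
    refine eq_of_psi hn hψ (f := (stm r e D uni).comp (cj x).toMonoidHom) (g := (cj x).toMonoidHom.comp (stm r e D uni))
      (fun g => ?_) g
    show ψ (stm r e D uni (cj x g)) = ψ (cj x (stm r e D uni g))
    rw [← hσ, ← hx, map_mul, map_mul, map_inv, hy, hσ, hx]
  obtain ⟨l, hl⟩ := hT hya ha
  obtain ⟨m, hm⟩ := hT hyb hb
  -- the commutator is scalar
  have hc : a * b * (b * a)⁻¹ ∈ scalars (Fin p) k := by
    refine scalar_of_cj fun g => ?_
    refine eq_of_psi hn hψ (f := (cj (a * b * (b * a)⁻¹)).toMonoidHom) (g := MonoidHom.id _) (fun g => ?_) g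
    show ψ (cj (a * b * (b * a)⁻¹) g) = ψ g
    have h3 : ∀ {y : Y} {x : GL (Fin p) k}, (∀ g, y * ψ g * y⁻¹ = ψ (cj x g)) → ∀ g, y⁻¹ * ψ g * y = ψ (cj x⁻¹ g) := by
      intro y x hx g
      have h4 := hx (cj x⁻¹ g)
      rw [← MulAut.mul_apply, ← map_mul, mul_inv_cancel, map_one, MulAut.one_apply] at h4
      rw [← h4]
      group
    rw [mul_inv_rev, map_mul, map_mul, map_mul, MulAut.mul_apply, MulAut.mul_apply, MulAut.mul_apply, ← ha, ← hb, ← h3 ha,
      ← h3 hb]
    calc ya * (yb * (ya⁻¹ * (yb⁻¹ * ψ g * yb) * ya) * yb⁻¹) * ya⁻¹ =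
          (ya * yb) * (yb * ya)⁻¹ * ψ g * ((ya * yb) * (yb * ya)⁻¹)⁻¹ := by group
      _ = ψ g := by rw [hcomm]; group
  obtain ⟨ζ, hζ⟩ := mem_scalars_iff_sc.1 hc
  have hab' : a * b = sc p ζ * (b * a) := by rw [← hζ, inv_mul_cancel_right]
  have hζ1 : ζ ≠ 1 := by
    rintro rfl
    exact hab (by rw [hab', sc_one, one_mul])
  have hpow : ∀ {y : Y} {x : GL (Fin p) k}, (∀ g, y * ψ g * y⁻¹ = ψ (cj x g)) → ∀ (i : ℕ) g,
      y ^ i * ψ g * (y ^ i)⁻¹ = ψ (cj (x ^ i) g) := by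
    intro y x hx i
    induction i with
    | zero => intro g; rw [pow_zero, pow_zero, map_one, MulAut.one_apply]; group
    | succ i ih =>
      intro g
      rw [pow_succ' x, map_mul, MulAut.mul_apply, ← hx, ← ih, pow_succ']
      group
  have hxp : ∀ {y : Y} {x : GL (Fin p) k}, (∀ g, y * ψ g * y⁻¹ = ψ (cj x g)) → (∀ g, y ^ p * ψ g = ψ g * y ^ p) →
      x ^ p ∈ scalars (Fin p) k := by
    intro y x hx hy
    refine scalar_of_cj fun g => ?_
    refine eq_of_psi hn hψ (f := (cj (x ^ p)).toMonoidHom) (g := MonoidHom.id _) (fun g => ?_) g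
    show ψ (cj (x ^ p) g) = ψ g
    rw [← hpow hx, hy, mul_inv_cancel_right]
  have hap := hxp ha hpa
  have hbp := hxp hb hpb
  -- the theorem in `GL`
  let M' : Subgroup (GL (Fin p) k) := (M.comap ψ).map toGL
  have hstd : Std r e D uni (stG r e D uni) := by
    cases uni
    · exact ⟨fun _ _ => rfl, fun h => by cases h⟩
    · exact ⟨fun h => (by cases h), fun _ _ => rfl⟩
  have hfin : toGL g ∈ M' := by
    refine gen_alg_of h2 L U h7 he hstd hζ1 hab' hap hbp hl hm (M := M') ?_ (toGL_mem g) ?_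
    · intro f hf hfs x hx hxτ hxf
      obtain ⟨i, j, z, rfl⟩ := mem_closure_pair hab' hap hbp hf
      have hij : ¬ (p ∣ i ∧ p ∣ j) := by
        rintro ⟨⟨i, rfl⟩, ⟨j, rfl⟩⟩
        apply hfs
        refine (scalars (Fin p) k).mul_mem (sc_mem z) ((scalars (Fin p) k).mul_mem ?_ ?_)
        · rw [pow_mul]; exact (scalars (Fin p) k).pow_mem hap _
        · rw [pow_mul]; exact (scalars (Fin p) k).pow_mem hbp _
      set x' : Matrix.SpecialLinearGroup (Fin p) k := ⟨x.1, mem_SL_iff.1 hx⟩ with hx'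
      have hxx : toGL x' = x := Units.ext rfl
      refine ⟨x', ?_, hxx⟩
      refine hM i j hij x' (toGL_inj' (by rw [toGL_stm, hxx, hxτ])) ?_
      have h5 : cj (a ^ i * b ^ j) x' = x' := by
        apply toGL_inj'
        rw [toGL_cj, hxx, mul_inv_eq_iff_eq_mul]
        have h6 : sc p z * (x * (a ^ i * b ^ j)) = sc p z * (a ^ i * b ^ j * x) := by
          rw [← mul_assoc, sc_comm z x, mul_assoc, hxf, mul_assoc]
        exact (mul_left_cancel h6).symm
      have h6 : ya ^ i * yb ^ j * ψ x' * (ya ^ i * yb ^ j)⁻¹ = ψ x' := by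
        conv_rhs => rw [← h5]
        rw [map_mul, MulAut.mul_apply, ← hpow ha, ← hpow hb]
        group
      rw [mul_inv_eq_iff_eq_mul] at h6
      exact h6
    · rw [← toGL_stm, hg]
  obtain ⟨x, hx, hxg⟩ := hfin
  rw [← toGL_inj' hxg]
  exact hx

/-- The centre of `SL_p(k)` has exponent `p`. -/
theorem center_pow {z : Matrix.SpecialLinearGroup (Fin p) k} (hz : z ∈ Subgroup.center _) : z ^ p = 1 := by
  obtain ⟨c, hc, hc'⟩ := Matrix.SpecialLinearGroup.mem_center_iff.1 hz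
  apply Subtype.ext
  rw [Fintype.card_fin] at hc
  rw [Matrix.SpecialLinearGroup.coe_pow, ← hc', ← map_pow, hc, map_one, Matrix.SpecialLinearGroup.coe_one]

/-- **Kernel row for `ψ : SL_p(k) → Y`, `r`-elements.** -/
theorem gen_hom_unip_of (h2 : p ≠ 2) (L : LinFacts.{u} p) (U : UniFacts.{u} p) (h7 : 7 ≤ p ∨ r ≠ 2) (hpr : p ≠ r) (he : 0 < e)
    {ψ : Matrix.SpecialLinearGroup (Fin p) k →* Y} (hψ : ∃ g, ψ g ≠ 1) {σ : Y →* Y} {D : GL (Fin p) k} {uni : Bool}
    (hσ : ∀ g, σ (ψ g) = ψ (stm r e D uni g)) {ya yb : Y} (hya : σ ya = ya) (hyb : σ yb = yb)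
    (hcomm : ya * yb = yb * ya) (hpa : ∀ g, ya ^ p * ψ g = ψ g * ya ^ p) (hpb : ∀ g, yb ^ p * ψ g = ψ g * yb ^ p)
    {a b : GL (Fin p) k} (ha : ∀ g, ya * ψ g * ya⁻¹ = ψ (cj a g)) (hb : ∀ g, yb * ψ g * yb⁻¹ = ψ (cj b g))
    (hab : a * b ≠ b * a) {M : Subgroup Y}
    (hM : ∀ i j : ℕ, ¬ (p ∣ i ∧ p ∣ j) → ∀ g, σ (ψ g) = ψ g →
      ya ^ i * yb ^ j * ψ g = ψ g * (ya ^ i * yb ^ j) → ψ g ∈ M)
    {g : Matrix.SpecialLinearGroup (Fin p) k} (hg : σ (ψ g) = ψ g) {m : ℕ} (hm : ψ g ^ r ^ m = 1) : ψ g ∈ M := by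
  have hn : 3 ≤ p := by have := hp.1.two_le; omega
  -- replace `g` by a power
  have hcop : Nat.Coprime (r ^ m) p :=
    Nat.Coprime.pow_left _ ((Nat.coprime_primes Fact.out hp.1).2 (Ne.symm hpr))
  obtain ⟨N, hN1, hN2⟩ := Nat.chineseRemainder hcop 1 0
  have hN3 : p ∣ N := (Nat.modEq_zero_iff_dvd).1 hN2
  have h1 : ψ (g ^ N) = ψ g := by
    rw [map_pow]
    have h3 : ψ g ^ N = ψ g ^ 1 := by
      rw [pow_eq_pow_iff_modEq]
      exact hN1.of_dvd (orderOf_dvd_of_pow_eq_one hm)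
    rw [h3, pow_one]
  have h3 : stm r e D uni (g ^ N) = g ^ N := by
    obtain ⟨z, hz⟩ : ∃ z, stm r e D uni g = g * z := ⟨g⁻¹ * stm r e D uni g, by group⟩
    have hzc : z ∈ Subgroup.center (Matrix.SpecialLinearGroup (Fin p) k) := by
      refine ker_le_center hn hψ ?_
      have h4 : ψ (stm r e D uni g) = ψ g := by rw [← hσ, hg]
      rw [hz, map_mul] at h4
      exact mul_eq_left.1 h4
    obtain ⟨N', rfl⟩ := hN3
    have hgz : Commute g z := (Subgroup.mem_center_iff.1 hzc g)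
    rw [map_pow, hz, hgz.mul_pow, pow_mul z, center_pow hzc, one_pow, mul_one]
  rw [← h1]
  refine gen_hom_of h2 L U h7 he hψ hσ hya hyb hcomm hpa hpb ha hb hab (M := M) ?_ h3
  intro i j hij x hx hc
  exact hM i j hij x (by rw [hσ, hx]) hc

theorem diag_comm_cycle {d d' : Fin p → kˣ}
    (h : mono (Equiv.refl (Fin p)) d * mono (Equiv.addRight (1 : Fin p)) d' =
      mono (Equiv.addRight (1 : Fin p)) d' * mono (Equiv.refl (Fin p)) d) (i : Fin p) : d i = d 0 := by
  have h1 : ∀ i : Fin p, d (i + 1) = d i := by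
    intro i
    have h2 : ((mono (Equiv.refl (Fin p)) d * mono (Equiv.addRight (1 : Fin p)) d' : GL (Fin p) k) :
        Matrix (Fin p) (Fin p) k) (i + 1) i = ((mono (Equiv.addRight (1 : Fin p)) d' * mono (Equiv.refl (Fin p)) d :
        GL (Fin p) k) : Matrix (Fin p) (Fin p) k) (i + 1) i := by rw [h]
    rw [Units.val_mul, Units.val_mul, Matrix.mul_apply, Matrix.mul_apply, Finset.sum_eq_single (i + 1),
      Finset.sum_eq_single i] at h2
    · simp only [mono_coe, Equiv.refl_apply, Equiv.coe_addRight, if_true] at h2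
      rw [mul_comm] at h2
      exact Units.ext (mul_left_cancel₀ (d' i).ne_zero h2)
    · intro b _ hb
      rw [mono_coe (Equiv.refl (Fin p)), if_neg (show ¬ b = Equiv.refl (Fin p) i from hb), mul_zero]
    · simp
    · intro b _ hb
      rw [mono_coe (Equiv.refl (Fin p)), if_neg (show ¬ i + 1 = Equiv.refl (Fin p) b from fun h => hb h.symm), zero_mul]
    · simp
  have h2 : ∀ (m : ℕ) (hm : m < p), d ⟨m, hm⟩ = d 0 := by
    intro m
    induction m with
    | zero => intro _; rfl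
    | succ m ih =>
      intro hm
      have h3 : (⟨m + 1, hm⟩ : Fin p) = ⟨m, by omega⟩ + 1 := by
        apply Fin.ext
        rw [Fin.val_add, Fin.val_one']
        rw [Nat.add_mod_mod, Nat.mod_eq_of_lt hm]
      rw [h3, h1, ih]
  exact h2 i i.2

/-- **Kernel row, cyclic form.** `σ` of linear (`uni = false`) or unitary type on the transvections, `y` diagonal, `b`
cyclic. -/
theorem gen_cyclic_of (h2 : p ≠ 2) (L : LinFacts.{u} p) (U : UniFacts.{u} p) (h7 : 7 ≤ p ∨ r ≠ 2) (he : 0 < e)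
    {ψ : Matrix.SpecialLinearGroup (Fin p) k →* Y}
    (hinj : ∀ (i j : Fin p) (hij : i ≠ j), Function.Injective fun t : k => ψ (transvection hij t))
    {σ : Y →* Y} {π : Equiv.Perm (Fin p)} {s : Fin p → Fin p → k} (hs0 : ∀ i j, i ≠ j → s i j ≠ 0)
    (hσ : (∀ (i j : Fin p) (hij : i ≠ j) (t : k),
        σ (ψ (transvection hij t)) = ψ (transvection (π.injective.ne hij) (s i j * t ^ r ^ e))) ∨
      (∀ (i j : Fin p) (hij : i ≠ j) (t : k),
        σ (ψ (transvection hij t)) = ψ (transvection (π.injective.ne hij.symm) (s i j * t ^ r ^ e))))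
    {y b : Y} (hy : σ y = y) (hb : σ b = b) (hcomm : y * b = b * y)
    (hyp : ∀ g, y ^ p * ψ g = ψ g * y ^ p) (hbp : ∀ g, b ^ p * ψ g = ψ g * b ^ p)
    {w c : Fin p → Fin p → k} (hw0 : ∀ i j, i ≠ j → w i j ≠ 0) (hc0 : ∀ i j, i ≠ j → c i j ≠ 0)
    (hyψ : ∀ (i j : Fin p) (hij : i ≠ j) (t : k),
      y * ψ (transvection hij t) * y⁻¹ = ψ (transvection hij (w i j * t)))
    (hbψ : ∀ (i j : Fin p) (hij : i ≠ j) (t : k),
      b * ψ (transvection hij t) * b⁻¹ = ψ (transvection (add_left_injective (1 : Fin p) |>.ne hij) (c i j * t)))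
    (hw : ∃ i j, i ≠ j ∧ w i j ≠ 1) {M : Subgroup Y}
    (hM : ∀ i j : ℕ, ¬ (p ∣ i ∧ p ∣ j) → ∀ g, σ (ψ g) = ψ g →
      y ^ i * b ^ j * ψ g = ψ g * (y ^ i * b ^ j) → ψ g ∈ M)
    {g : Matrix.SpecialLinearGroup (Fin p) k} (hg : σ (ψ g) = ψ g) {m : ℕ} (hm : ψ g ^ r ^ m = 1) : ψ g ∈ M := by
  have hn : 3 ≤ p := by have := hp.1.two_le; omega
  have h01 : (0 : Fin p) ≠ 1 := by
    intro h
    have := congrArg Fin.val h
    rw [Fin.val_zero, Fin.val_one'] at this
    rw [Nat.mod_eq_of_lt (by omega)] at this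
    omega
  have hψ : ∃ g, ψ g ≠ 1 := by
    refine ⟨transvection h01 1, fun h => ?_⟩
    have h3 : ψ (transvection h01 (1 : k)) = ψ (transvection h01 (0 : k)) := by
      have h4 : transvection h01 (0 : k) = 1 := toGL_inj' (Units.ext (by rw [toGL_transvection]; simp))
      rw [h, h4, map_one]
    exact one_ne_zero (hinj 0 1 h01 h3)
  -- `σ`
  obtain ⟨D, uni, hD⟩ : ∃ (D : GL (Fin p) k) (uni : Bool), ∀ g, σ (ψ g) = ψ (stm r e D uni g) := by
    rcases hσ with h | h
    · obtain ⟨d, -, hd⟩ := exists_lin hn hinj hs0 h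
      exact ⟨_, _, hd⟩
    · obtain ⟨d, -, hd⟩ := exists_uni hn hinj hs0 h
      exact ⟨_, _, hd⟩
  have hst : ∀ (x : GL (Fin p) k) g, stm r 0 x false g = cj x g := by
    intro x g
    apply toGL_inj'
    rw [toGL_stm, stG_false, toGL_cj]
    have : fr r 0 (toGL g) = toGL g := by
      apply Units.ext
      ext i j
      rw [fr_apply, pow_zero, pow_one]
    rw [this]
  obtain ⟨dy, hdy, hyd⟩ := exists_lin (r := r) (e := 0) (φ := (MulAut.conj y).toMonoidHom) (π := Equiv.refl _) (c := w) hn hinj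
    hw0 (fun i j hij t => by
      show y * ψ (transvection hij t) * y⁻¹ = _
      rw [hyψ, pow_zero, pow_one]
      rfl)
  obtain ⟨db, hdb, hbd⟩ := exists_lin (r := r) (e := 0) (φ := (MulAut.conj b).toMonoidHom)
    (π := Equiv.addRight (1 : Fin p)) (c := c) hn hinj hc0 (fun i j hij t => by
      show b * ψ (transvection hij t) * b⁻¹ = _
      rw [hbψ, pow_zero, pow_one]
      rfl)
  have hne : mono (Equiv.refl (Fin p)) dy * mono (Equiv.addRight (1 : Fin p)) db ≠
      mono (Equiv.addRight (1 : Fin p)) db * mono (Equiv.refl (Fin p)) dy := by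
    intro h
    obtain ⟨i, j, hij, hwij⟩ := hw
    apply hwij
    rw [hdy i j hij, diag_comm_cycle h i, diag_comm_cycle h j, Units.mul_inv]
  -- `p ≠ r`
  have hpr : p ≠ r := by
    rintro rfl
    obtain ⟨i, j, hij, hwij⟩ := hw
    apply hwij
    have h3 : ∀ m : ℕ, y ^ m * ψ (transvection hij 1) * (y ^ m)⁻¹ = ψ (transvection hij (w i j ^ m)) := by
      intro m
      induction m with
      | zero => simp
      | succ m ih =>
        calc y ^ (m + 1) * ψ (transvection hij 1) * (y ^ (m + 1))⁻¹ =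
              y * (y ^ m * ψ (transvection hij 1) * (y ^ m)⁻¹) * y⁻¹ := by rw [pow_succ']; group
          _ = _ := by rw [ih, hyψ, ← pow_succ']
    have h4 := h3 p
    rw [hyp, mul_inv_cancel_right] at h4
    have h5 : (1 : k) = w i j ^ p := hinj i j hij h4
    have h6 : (w i j - 1) ^ p = 0 := by rw [sub_pow_char, one_pow, ← h5, sub_self]
    exact sub_eq_zero.1 (pow_eq_zero_iff hp.1.ne_zero |>.1 h6)
  exact gen_hom_unip_of h2 L U h7 hpr he hψ hD hy hb hcomm hyp hbp (fun g => by rw [← hst]; exact hyd g)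
    (fun g => by rw [← hst]; exact hbd g) hne hM hg hm

end Main

end Cfsg.Agent.H321.Ker
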