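import Cfsg.Agent.H321.Ker.Cent

/-!
# S2187, kernel row: the field generated by the shift
-/

set_option autoImplicit false
set_option linter.unusedSectionVars false

namespace Cfsg.Agent.H321.Ker

open Cfsg Cfsg.Geo
open scoped MatrixGroups Matrix

variable {n : ℕ} [NeZero n] {F : Type*} [Field F]

theorem val_succ (i : Fin n) : ((i + 1 : Fin n) : ℕ) = ((i : ℕ) + 1) % n := by
  rw [Fin.val_add, Fin.val_one', Nat.add_mod_mod]

theorem Bm_apply (β : Fˣ) (i j : Fin n) :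
    (Bm n β : Matrix (Fin n) (Fin n) F) i j = if i = j + 1 then (if i = 0 then (β : F) else 1) else 0 := rfl

theorem Dm_coe (ζ : Fˣ) : (Dm n ζ : Matrix (Fin n) (Fin n) F) = Matrix.diagonal fun i : Fin n => ((ζ ^ (i : ℕ) : Fˣ) : F) := rfl

theorem tor_coe (c : Fˣ) : (tor n c : Matrix (Fin n) (Fin n) F) =
    Matrix.diagonal fun i : Fin n => if (i : ℕ) = 0 then (c : F) else if (i : ℕ) = 1 then ((c⁻¹ : Fˣ) : F) else 1 := rfl

theorem Bm_succ (β : Fˣ) (k : ℕ) (hk : k + 1 < n) :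
    (Bm n β : Matrix (Fin n) (Fin n) F) ⟨k + 1, hk⟩ ⟨k, by omega⟩ = 1 := by
  have h1 : ((⟨k, by omega⟩ : Fin n) + 1) = ⟨k + 1, hk⟩ := by
    apply Fin.ext
    rw [val_succ]
    exact Nat.mod_eq_of_lt hk
  rw [Bm_apply, h1, if_pos rfl, if_neg]
  intro h
  have := congrArg Fin.val h
  simp at this

theorem Bm_mulVec_single (β : Fˣ) (j : Fin n) :
    (Bm n β : Matrix (Fin n) (Fin n) F) *ᵥ Pi.single j 1 = (if j + 1 = 0 then (β : F) else 1) • Pi.single (j + 1) 1 := by
  funext i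
  rw [Matrix.mulVec_single_one, Matrix.col_apply, Bm_apply, Pi.smul_apply, Pi.single_apply]
  by_cases h : i = j + 1
  · subst h; simp
  · simp [h]

theorem Bm_pow_mulVec (β : Fˣ) (k : ℕ) (hk : k < n) :
    (Bm n β : Matrix (Fin n) (Fin n) F) ^ k *ᵥ Pi.single 0 1 = Pi.single ⟨k, hk⟩ 1 := by
  induction k with
  | zero =>
    rw [pow_zero, Matrix.one_mulVec]
    congr 1
  | succ k ih =>
    rw [pow_succ', ← Matrix.mulVec_mulVec, ih (by omega), Bm_mulVec_single]
    have h1 : ((⟨k, by omega⟩ : Fin n) + 1) = ⟨k + 1, hk⟩ := by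
      apply Fin.ext
      rw [val_succ]
      exact Nat.mod_eq_of_lt hk
    rw [h1, if_neg, one_smul]
    intro h
    have := congrArg Fin.val h
    simp at this

theorem Bm_pow_n (β : Fˣ) : (Bm n β : Matrix (Fin n) (Fin n) F) ^ n = (β : F) • 1 := by
  have hn : 0 < n := Nat.pos_of_ne_zero (NeZero.ne n)
  have h0 : (Bm n β : Matrix (Fin n) (Fin n) F) ^ n *ᵥ Pi.single 0 1 = (β : F) • Pi.single 0 1 := by
    obtain ⟨m, rfl⟩ : ∃ m, n = m + 1 := ⟨n - 1, by omega⟩
    rw [pow_succ', ← Matrix.mulVec_mulVec, Bm_pow_mulVec β m (by omega), Bm_mulVec_single]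
    have h1 : ((⟨m, by omega⟩ : Fin (m + 1)) + 1) = 0 := by
      apply Fin.ext
      rw [val_succ]
      simp
    rw [h1, if_pos rfl]
  apply Matrix.ext_of_mulVec_single
  intro j
  have hj := Bm_pow_mulVec β (j : ℕ) j.2
  rw [Fin.eta] at hj
  rw [← hj, Matrix.mulVec_mulVec, ← pow_add, add_comm, pow_add, ← Matrix.mulVec_mulVec, h0, Matrix.mulVec_smul,
    Matrix.smul_mulVec, Matrix.one_mulVec]

/-- The algebra generated by the shift. -/
noncomputable def Kf (n : ℕ) [NeZero n] (β : Fˣ) : Subalgebra F (Matrix (Fin n) (Fin n) F) :=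
  Algebra.adjoin F {(Bm n β : Matrix (Fin n) (Fin n) F)}

theorem mem_Kf {β : Fˣ} {x : Matrix (Fin n) (Fin n) F} :
    x ∈ Kf n β ↔ ∃ f : Polynomial F, Polynomial.aeval (Bm n β : Matrix (Fin n) (Fin n) F) f = x := by
  unfold Kf
  rw [Algebra.adjoin_singleton_eq_range_aeval, AlgHom.mem_range]

theorem Bm_mem_Kf (β : Fˣ) : (Bm n β : Matrix (Fin n) (Fin n) F) ∈ Kf n β :=
  Algebra.subset_adjoin rfl

theorem Kf_comm {β : Fˣ} {x y : Matrix (Fin n) (Fin n) F} (hx : x ∈ Kf n β) (hy : y ∈ Kf n β) : x * y = y * x := by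
  obtain ⟨f, rfl⟩ := mem_Kf.1 hx
  obtain ⟨g, rfl⟩ := mem_Kf.1 hy
  rw [← map_mul, ← map_mul, mul_comm]

theorem Kf_eq_zero {β : Fˣ} {x : Matrix (Fin n) (Fin n) F} (hx : x ∈ Kf n β) (h : x *ᵥ Pi.single 0 1 = 0) : x = 0 := by
  apply Matrix.ext_of_mulVec_single
  intro j
  have hj := Bm_pow_mulVec β (j : ℕ) j.2
  rw [Fin.eta] at hj
  rw [← hj, Matrix.mulVec_mulVec, Kf_comm hx (Subalgebra.pow_mem _ (Bm_mem_Kf β) _), ← Matrix.mulVec_mulVec, h,
    Matrix.mulVec_zero, Matrix.zero_mulVec]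

theorem finrank_Kf (β : Fˣ) : Module.finrank F (Kf n β) = n := by
  let φ : Kf n β →ₗ[F] (Fin n → F) :=
    { toFun := fun x => (x : Matrix (Fin n) (Fin n) F) *ᵥ Pi.single 0 1
      map_add' := fun x y => by
        change ((x : Matrix (Fin n) (Fin n) F) + (y : Matrix (Fin n) (Fin n) F)) *ᵥ _ = _
        rw [Matrix.add_mulVec]
      map_smul' := fun c x => by
        change (c • (x : Matrix (Fin n) (Fin n) F)) *ᵥ _ = _
        rw [Matrix.smul_mulVec]; rfl }
  have hφ : Function.Bijective φ := by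
    constructor
    · rw [injective_iff_map_eq_zero]
      intro x hx
      exact Subtype.ext (Kf_eq_zero x.2 hx)
    · intro v
      refine ⟨∑ j : Fin n, v j • ⟨(Bm n β : Matrix (Fin n) (Fin n) F) ^ (j : ℕ), Subalgebra.pow_mem _ (Bm_mem_Kf β) _⟩, ?_⟩
      rw [map_sum]
      have : ∀ j : Fin n, φ (v j • ⟨(Bm n β : Matrix (Fin n) (Fin n) F) ^ (j : ℕ), Subalgebra.pow_mem _ (Bm_mem_Kf β) _⟩) =
          v j • Pi.single j 1 := by
        intro j
        rw [map_smul]
        congr 1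
        exact Bm_pow_mulVec β (j : ℕ) j.2
      rw [Finset.sum_congr rfl fun j _ => this j]
      funext i
      simp [Finset.sum_apply, Pi.single_apply]
  rw [LinearEquiv.finrank_eq (LinearEquiv.ofBijective φ hφ), Module.finrank_fin_fun]

theorem isField_Kf (hp : n.Prime) {β : Fˣ} (hβ : ∀ x : F, x ^ n ≠ β) : IsFieldSubalgebra n (Kf n β) where
  comm := fun x hx y hy => Kf_comm hx hy
  inv := by
    intro x hx hx0
    obtain ⟨f, rfl⟩ := mem_Kf.1 hx
    have hirr : Irreducible (Polynomial.X ^ n - Polynomial.C (β : F)) :=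
      X_pow_sub_C_irreducible_of_prime hp fun b => hβ b
    have hz : Polynomial.aeval (Bm n β : Matrix (Fin n) (Fin n) F) (Polynomial.X ^ n - Polynomial.C (β : F)) = 0 := by
      rw [map_sub, map_pow, Polynomial.aeval_X, Polynomial.aeval_C, Bm_pow_n, Algebra.algebraMap_eq_smul_one, sub_self]
    have hcop : IsCoprime (Polynomial.X ^ n - Polynomial.C (β : F)) f := by
      rw [Irreducible.coprime_iff_not_dvd hirr]
      rintro ⟨g, rfl⟩
      exact hx0 (by rw [map_mul, hz, zero_mul])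
    obtain ⟨u, v, huv⟩ := hcop
    refine ⟨Polynomial.aeval (Bm n β : Matrix (Fin n) (Fin n) F) v, mem_Kf.2 ⟨v, rfl⟩, ?_⟩
    have := congrArg (Polynomial.aeval (Bm n β : Matrix (Fin n) (Fin n) F)) huv
    rw [map_add, map_mul, map_mul, hz, mul_zero, zero_add, map_one] at this
    rw [← map_mul, mul_comm, map_mul, this]
  finrank_eq := finrank_Kf β

/-- An element normalising the field `F[B]` multiplies `B` by a root of unity. -/
theorem conj_Bm (hp : n.Prime) {ζ β : Fˣ} (hζ : ζ ^ n = 1) (hζ1 : ζ ≠ 1) (hβ : ∀ x : F, x ^ n ≠ β) {g : GL (Fin n) F}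
    (hg : g ∈ subalgebraNormalizer (Kf n β)) :
    ∃ k : ℕ, (g : Matrix (Fin n) (Fin n) F) * Bm n β * ((g⁻¹ : GL (Fin n) F) : Matrix (Fin n) (Fin n) F) =
      ((ζ ^ k : Fˣ) : F) • (Bm n β : Matrix (Fin n) (Fin n) F) := by
  set B : Matrix (Fin n) (Fin n) F := (Bm n β : Matrix (Fin n) (Fin n) F) with hB
  have hBi : B * ((β⁻¹ : Fˣ) : F) • B ^ (n - 1) = 1 := by
    rw [Matrix.mul_smul, ← pow_succ', Nat.sub_add_cancel hp.one_lt.le, Bm_pow_n, smul_smul, Units.inv_mul, one_smul]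
  set C : Matrix (Fin n) (Fin n) F := ((β⁻¹ : Fˣ) : F) • B ^ (n - 1) with hC
  have hCm : C ∈ Kf n β := Subalgebra.smul_mem _ (Subalgebra.pow_mem _ (Bm_mem_Kf β) _) _
  have hgg : ((g⁻¹ : GL (Fin n) F) : Matrix (Fin n) (Fin n) F) * (g : Matrix (Fin n) (Fin n) F) = 1 := by
    rw [← Units.val_mul, inv_mul_cancel, Units.val_one]
  have hgg' : (g : Matrix (Fin n) (Fin n) F) * ((g⁻¹ : GL (Fin n) F) : Matrix (Fin n) (Fin n) F) = 1 := by
    rw [← Units.val_mul, mul_inv_cancel, Units.val_one]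
  set y : Matrix (Fin n) (Fin n) F := (g : Matrix (Fin n) (Fin n) F) * B *
    ((g⁻¹ : GL (Fin n) F) : Matrix (Fin n) (Fin n) F) with hy
  have hym : y ∈ Kf n β := (hg B).1 (Bm_mem_Kf β)
  have hyk : ∀ k : ℕ, y ^ k = (g : Matrix (Fin n) (Fin n) F) * B ^ k *
      ((g⁻¹ : GL (Fin n) F) : Matrix (Fin n) (Fin n) F) := by
    intro k
    induction k with
    | zero => rw [pow_zero, pow_zero, mul_one, hgg']
    | succ k ih =>
      rw [pow_succ, ih, hy, pow_succ]
      calc _ = (g : Matrix (Fin n) (Fin n) F) * B ^ k * (((g⁻¹ : GL (Fin n) F) : Matrix (Fin n) (Fin n) F) *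
            (g : Matrix (Fin n) (Fin n) F)) * B * ((g⁻¹ : GL (Fin n) F) : Matrix (Fin n) (Fin n) F) := by
              simp only [mul_assoc]
        _ = _ := by rw [hgg, mul_one, mul_assoc (g : Matrix (Fin n) (Fin n) F)]
  have hyn : y ^ n = (β : F) • 1 := by
    rw [hyk, hB, Bm_pow_n, Matrix.mul_smul, mul_one, Matrix.smul_mul, hgg']
  have hwm : y * C ∈ Kf n β := Subalgebra.mul_mem _ hym hCm
  have hCn : (β : F) • C ^ n = 1 := by
    have h1 : (B * C) ^ n = 1 := by rw [hBi, one_pow]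
    rw [(show Commute B C from Kf_comm (Bm_mem_Kf β) hCm).mul_pow, hB, Bm_pow_n, Matrix.smul_mul, one_mul] at h1
    exact h1
  have hwn : (y * C) ^ n = 1 := by
    rw [(show Commute y C from Kf_comm hym hCm).mul_pow, hyn, Matrix.smul_mul, one_mul, hCn]
  have hprim : IsPrimitiveRoot (ζ : F) n := by
    rw [IsPrimitiveRoot.coe_units_iff]
    have : Fact n.Prime := ⟨hp⟩
    have := IsPrimitiveRoot.orderOf ζ
    rwa [orderOf_eq_prime hζ hζ1] at this
  have hprod : (∏ z ∈ Polynomial.nthRootsFinset n (1 : F), (Polynomial.X - Polynomial.C z)) = Polynomial.X ^ n - 1 :=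
    (Polynomial.X_pow_sub_one_eq_prod hp.pos hprim).symm
  have hdet : ∏ z ∈ Polynomial.nthRootsFinset n (1 : F), (y * C - z • 1).det = 0 := by
    let φ : Polynomial F →* F := (Matrix.detMonoidHom (n := Fin n) (R := F)).comp
      ((Polynomial.aeval (y * C) : Polynomial F →ₐ[F] Matrix (Fin n) (Fin n) F) : Polynomial F →* Matrix (Fin n) (Fin n) F)
    have h1 : φ (∏ z ∈ Polynomial.nthRootsFinset n (1 : F), (Polynomial.X - Polynomial.C z)) = 0 := by
      rw [hprod]
      change (Polynomial.aeval (y * C) (Polynomial.X ^ n - 1 : Polynomial F)).det = 0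
      rw [map_sub, map_pow, Polynomial.aeval_X, map_one, hwn, sub_self, Matrix.det_zero]
    rw [map_prod] at h1
    rw [← h1]
    refine Finset.prod_congr rfl fun z _ => ?_
    change _ = (Polynomial.aeval (y * C) (Polynomial.X - Polynomial.C z : Polynomial F)).det
    rw [map_sub, Polynomial.aeval_X, Polynomial.aeval_C, Algebra.algebraMap_eq_smul_one]
  obtain ⟨z, hz, hz0⟩ := Finset.prod_eq_zero_iff.1 hdet
  have hw : y * C = z • 1 := by
    by_contra hne
    obtain ⟨x, hx, hx1⟩ := (isField_Kf hp hβ).inv (y * C - z • 1)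
      (Subalgebra.sub_mem _ hwm (Subalgebra.smul_mem _ (Subalgebra.one_mem _) _)) (sub_ne_zero.2 hne)
    have := congrArg Matrix.det hx1
    rw [Matrix.det_mul, hz0, zero_mul, Matrix.det_one] at this
    exact zero_ne_one this
  rw [Polynomial.mem_nthRootsFinset hp.pos] at hz
  obtain ⟨k, -, hk⟩ := hprim.eq_pow_of_pow_eq_one hz
  refine ⟨k, ?_⟩
  rw [Units.val_pow_eq_pow_val, hk]
  calc y = y * C * B := by rw [mul_assoc, Kf_comm hCm (Bm_mem_Kf β), hBi, mul_one]
    _ = z • B := by rw [hw, Matrix.smul_mul, one_mul]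

theorem Bm_not_scalar (hn : 2 ≤ n) (β : Fˣ) : Bm n β ∉ scalars (Fin n) F := by
  intro h
  obtain ⟨c, hc⟩ := (mem_scalars_iff _).1 h
  have h1 := congrFun (congrFun hc (0 + 1)) 0
  rw [Bm_apply, if_pos rfl, Matrix.smul_apply, Matrix.one_apply_ne, smul_zero] at h1
  · split_ifs at h1 with h2
    · exact β.ne_zero h1
    · exact one_ne_zero h1
  · intro h2
    have := congrArg Fin.val h2
    rw [val_succ] at this
    simp only [Fin.val_zero, zero_add] at this
    rw [Nat.mod_eq_of_lt (by omega)] at this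
    omega

theorem Dm_not_scalar (hn : 2 ≤ n) {ζ : Fˣ} (hζ : ζ ≠ 1) : Dm n ζ ∉ scalars (Fin n) F := by
  intro h
  obtain ⟨c, hc⟩ := (mem_scalars_iff _).1 h
  rw [Dm_coe] at hc
  have h1 := congrFun (congrFun hc ⟨0, by omega⟩) ⟨0, by omega⟩
  have h2 := congrFun (congrFun hc ⟨1, by omega⟩) ⟨1, by omega⟩
  simp only [Matrix.diagonal_apply_eq, Matrix.smul_apply, Matrix.one_apply_eq, smul_eq_mul, mul_one, pow_zero,
    Units.val_one, pow_one] at h1 h2
  exact hζ (Units.ext (by rw [h2, ← h1, Units.val_one]))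

/-- A diagonal element of `G` is in `Mc`. -/
theorem mem_Mc_diag (hn : 2 ≤ n) {G : Subgroup (GL (Fin n) F)} {ζ β : Fˣ} (hζ : ζ ≠ 1) {g : GL (Fin n) F} (hg : g ∈ G)
    (d : Fin n → F) (h : (g : Matrix (Fin n) (Fin n) F) = Matrix.diagonal d) : g ∈ Mc G (Hs n ζ β) := by
  refine mem_Mc hg (Dm_mem ζ β) (Dm_not_scalar hn hζ) ?_
  apply Units.ext
  rw [Units.val_mul, Units.val_mul, h, Dm_coe, Matrix.diagonal_mul_diagonal, Matrix.diagonal_mul_diagonal]
  congr 1; funext i; rw [mul_comm]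

theorem det_tor (hn : 2 ≤ n) (c : Fˣ) : (tor n c : Matrix (Fin n) (Fin n) F).det = 1 := by
  rw [tor_coe, Matrix.det_diagonal]
  obtain ⟨m, rfl⟩ : ∃ m, n = m + 2 := ⟨n - 2, by omega⟩
  rw [Fin.prod_univ_succ, Fin.prod_univ_succ]
  simp

theorem tor_mem_SL (hn : 2 ≤ n) (c : Fˣ) : tor n c ∈ specialLinear (Fin n) F := by
  unfold specialLinear
  rw [MonoidHom.mem_ker]
  apply Units.ext
  rw [Matrix.GeneralLinearGroup.val_det_apply, det_tor hn, Units.val_one]

/-- If `tor c` multiplies the shift by a scalar then `c³ = 1`. -/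
theorem tor_conj_Bm (hn : 3 ≤ n) {c : Fˣ} {β : Fˣ} {z : F}
    (h : (tor n c : Matrix (Fin n) (Fin n) F) * Bm n β * (((tor n c)⁻¹ : GL (Fin n) F) : Matrix (Fin n) (Fin n) F) =
      z • (Bm n β : Matrix (Fin n) (Fin n) F)) : c ^ 3 = 1 := by
  have h' : (tor n c : Matrix (Fin n) (Fin n) F) * Bm n β = z • (Bm n β : Matrix (Fin n) (Fin n) F) * tor n c := by
    rw [← h, mul_assoc _ _ (tor n c : Matrix (Fin n) (Fin n) F), ← Units.val_mul _ (tor n c), inv_mul_cancel,
      Units.val_one, mul_one]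
  rw [tor_coe, Matrix.smul_mul] at h'
  have h1 := congrFun (congrFun h' ⟨1, by omega⟩) ⟨0, by omega⟩
  have h2 := congrFun (congrFun h' ⟨2, by omega⟩) ⟨1, by omega⟩
  rw [Matrix.diagonal_mul, Matrix.smul_apply, Matrix.mul_diagonal, Bm_succ β 0 (by omega)] at h1
  rw [Matrix.diagonal_mul, Matrix.smul_apply, Matrix.mul_diagonal, Bm_succ β 1 (by omega)] at h2
  simp only [one_ne_zero, if_false, if_true, mul_one, one_mul, smul_eq_mul, OfNat.ofNat_ne_zero,
    OfNat.ofNat_ne_one] at h1 h2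
  -- h1 : c⁻¹ = z * c, h2 : 1 = z * c⁻¹
  apply Units.ext
  rw [Units.val_pow_eq_pow_val, Units.val_one]
  have h3 : z = c := by
    have := congrArg (· * (c : F)) h2
    simp only [one_mul, mul_assoc, Units.inv_mul, mul_one] at this
    exact this.symm
  rw [h3] at h1
  have := congrArg (· * (c : F)) h1
  simp only [Units.inv_mul] at this
  rw [pow_succ, pow_two, ← this]

/-- If a maximal subgroup `L` of `G` normalises `Mc G H`, and some non-scalar element of `Mc G H` is outside `L`,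
then `Mc G H = G` (normal subgroups of `G` being scalar or everything). -/
theorem Mc_eq_of_max {ι : Type} [Fintype ι] [DecidableEq ι] {G L H : Subgroup (GL ι F)} (hmax : IsMaximalIn G L)
    (hL : ∀ g ∈ L, ∀ x ∈ Mc G H, g * x * g⁻¹ ∈ Mc G H)
    (hqs : ∀ N : Subgroup (GL ι F), N ≤ G → (∀ g ∈ G, ∀ x ∈ N, g * x * g⁻¹ ∈ N) → N ≤ scalars ι F ∨ N = G)
    {t : GL ι F} (htM : t ∈ Mc G H) (htL : t ∉ L) (hts : t ∉ scalars ι F) : Mc G H = G := by
  set M := Mc G H with hM
  have hMG : M ≤ G := Mc_le _ _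
  rcases hmax.2 (M ⊔ L) le_sup_right (sup_le hMG hmax.1.le) with h | h
  · exact absurd (h ▸ Subgroup.mem_sup_left htM) htL
  · have hnorm : ∀ g ∈ G, ∀ x ∈ M, g * x * g⁻¹ ∈ M := by
      have h1 : M ⊔ L ≤ Subgroup.normalizer (M : Set (GL ι F)) := by
        refine sup_le Subgroup.le_normalizer ?_
        intro g hg
        rw [Subgroup.mem_normalizer_iff]
        intro x
        refine ⟨fun hx => hL g hg x hx, fun hx => ?_⟩
        have := hL g⁻¹ (L.inv_mem hg) _ hx
        simpa [mul_assoc] using this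
      intro g hg x hx
      rw [← h] at hg
      exact (Subgroup.mem_normalizer_iff.1 (h1 hg) x).1 hx
    rcases hqs M hMG hnorm with h1 | h1
    · exact absurd (h1 htM) hts
    · exact h1

end Cfsg.Agent.H321.Ker
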