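import Cfsg.Agent.H321.Ker.MainU
import Cfsg.Agent.S5636
import Cfsg.Agent.S5640
import Cfsg.Agent.S5643
import Cfsg.Agent.S5658
import Cfsg.Agent.S5661
import Cfsg.Agent.S5669
import Cfsg.Agent.S5774
import Cfsg.Agent.S5777
import Cfsg.Agent.S5792
import Cfsg.Agent.S5795
import Cfsg.Agent.S5807
import Cfsg.Agent.S5810
import Cfsg.Agent.S5852
import Cfsg.Agent.S5855

/-!
# S2187, kernel row: the maximality facts from the proved statements
-/

set_option autoImplicit false
set_option linter.unusedSectionVars false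

universe u

namespace Cfsg.Agent.H321.Ker

open Cfsg Cfsg.Geo
open scoped MatrixGroups Matrix

section Arith

theorem min_field {F : Type*} [Field F] [Fintype F] {z r e : ℕ} (hz : z.Prime) (hne : z ≠ r)
    (h : IsMinimalFieldFor z r e F) : 0 < e ∧ e ∣ z - 1 ∧ orderOf (r : ZMod z) = e := by
  obtain ⟨hr, hchar, hcard, hdvd, hmin⟩ := h
  have : Fact z.Prime := ⟨hz⟩
  have : Fact r.Prime := ⟨hr⟩
  have he : 0 < e := by
    rcases Nat.eq_zero_or_pos e with h | h
    · subst h
      have := Fintype.one_lt_card (α := F)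
      rw [hcard, pow_zero] at this
      omega
    · exact h
  have hr0 : (r : ZMod z) ≠ 0 := by
    rw [Ne, ZMod.natCast_eq_zero_iff]
    intro h
    exact hne ((Nat.prime_dvd_prime_iff_eq hz hr).1 h)
  have h1 : orderOf (r : ZMod z) ∣ z - 1 := orderOf_dvd_of_pow_eq_one (ZMod.pow_card_sub_one_eq_one hr0)
  have h2 : orderOf (r : ZMod z) ∣ e := (dvd_pow_sub_one_iff e).1 hdvd
  have h3 : orderOf (r : ZMod z) = e := by
    have h4 := Nat.le_of_dvd he h2
    have h5 : 0 < orderOf (r : ZMod z) := Nat.pos_of_dvd_of_pos h1 (by have := hz.two_le; omega)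
    by_contra hcon
    exact hmin _ h5 (by omega) ((dvd_pow_sub_one_iff _).2 dvd_rfl)
  exact ⟨he, h3 ▸ h1, h3⟩

theorem exists_half {r e q : ℕ} (hr : r.Prime) (h : r ^ e = q ^ 2) : ∃ f, e = 2 * f ∧ q = r ^ f := by
  have h1 : q ∣ r ^ e := by rw [h]; exact Dvd.intro_left q (by ring)
  obtain ⟨f, -, hf⟩ := (Nat.dvd_prime_pow hr).1 h1
  refine ⟨f, ?_, hf⟩
  have : r ^ e = r ^ (2 * f) := by rw [h, hf, ← pow_mul, mul_comm]
  exact Nat.pow_right_injective hr.two_le this

end Arith

theorem isFormRational {F : Type*} [Field F] {p q : ℕ} (F₀ : Subfield F) :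
    IsFormRationalStructure (hermForm p F q) F₀ 1 1 := by
  intro u v hu hv
  rw [Units.val_one, Matrix.one_mulVec, Matrix.one_mulVec, one_mul]
  exact sum_mem fun i _ => mul_mem (hu i) (pow_mem (hv i) _)

theorem le_similarity {F : Type*} [Field F] {p q : ℕ} {R : Subgroup (GL (Fin p) F)} (h : R ≤ GU p F q) :
    R ≤ similarityGroup (hermForm p F q) := by
  intro g hg
  exact ⟨1, fun u v => by rw [Units.val_one, one_mul]; exact h hg u v⟩

theorem prime_cases {p : ℕ} (hp : p.Prime) (h2 : p ≠ 2) : p = 3 ∨ p = 5 ∨ p = 7 ∨ p = 11 ∨ 13 ≤ p := by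
  by_contra hcon
  push Not at hcon
  obtain ⟨h3, h5, h7, h11, h13⟩ := hcon
  have := hp.two_le
  interval_cases p <;> first | omega | (revert hp; decide)

/-- The residue of `r` modulo a small prime. -/
theorem mod_of_dvd {z r d : ℕ} (h : z ∣ r ^ d - 1) (hr : 0 < r) (hz : 1 < z) : (r % z) ^ d % z = 1 := by
  have h1 : 1 ≤ r ^ d := Nat.one_le_pow _ _ hr
  have h2 : 1 ≡ r ^ d [MOD z] := (Nat.modEq_iff_dvd' h1).2 h
  rw [← Nat.pow_mod, ← h2, Nat.mod_eq_of_lt hz]

theorem not_mod {z r d : ℕ} (h : ¬ z ∣ r ^ d - 1) (hr : 0 < r) (hz : 1 < z) : (r % z) ^ d % z ≠ 1 := by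
  intro h1
  apply h
  have h0 : 1 ≤ r ^ d := Nat.one_le_pow _ _ hr
  rw [← Nat.modEq_iff_dvd' h0]
  change 1 % z = r ^ d % z
  rw [Nat.pow_mod, h1, Nat.mod_eq_of_lt hz]

theorem linFacts {p : ℕ} (hp : p.Prime) (h2 : p ≠ 2) : LinFacts.{u} p := by
  rcases prime_cases hp h2 with rfl | rfl | rfl | rfl | h13
  · refine ⟨?_, ?_, ?_⟩
    · intro F _ _ h4 K hK
      exact (Cfsg.Agent.S5774.result (F := F)).2.2.1 (h4 rfl) K hK
    · intro F _ _ R hR
      obtain ⟨r, e, hne, hmin, h⟩ := hR.field
      rcases h with ⟨-, he, hc, -⟩ | ⟨h, -⟩ | ⟨h, -⟩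
      · rw [hc] at hmin
        obtain ⟨he0, hed, -⟩ := min_field hp hne hmin
        have he1 : e = 1 := by
          have := Nat.le_of_dvd (by norm_num) hed
          rcases he with ⟨a, ha⟩
          omega
        subst he1
        refine (Cfsg.Agent.S5774.result (F := F)).2.2.2.2.1 r R hmin.1 (by rw [hmin.2.2.1, pow_one]) ?_ hR
        have h9 := hmin.2.2.2.1
        rw [pow_one] at h9
        have := hmin.1.two_le
        omega
      · omega
      · omega
    · intro F _ _ σ f hf
      exact (Cfsg.Agent.S5774.result (F := F)).2.2.2.2.2.2 σ f hf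
  · refine ⟨?_, ?_, ?_⟩
    · intro F _ _ h4 K hK
      exact (Cfsg.Agent.S5792.result (F := F)).2.2.1 K hK
    · intro F _ _ R hR
      obtain ⟨r, e, hne, hmin, h⟩ := hR.field
      rcases h with ⟨-, he, hc, -⟩ | ⟨h, -⟩ | ⟨h, -⟩
      · rw [hc] at hmin
        obtain ⟨he0, hed, -⟩ := min_field hp hne hmin
        have he1 : e = 1 := by
          have := Nat.le_of_dvd (by norm_num) hed
          rcases he with ⟨a, ha⟩
          interval_cases e <;> omega
        subst he1
        refine (Cfsg.Agent.S5792.result (F := F)).2.2.2.2.1 ⟨r, hmin.1, by rw [hmin.2.2.1, pow_one], ?_⟩ R hR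
        have h9 := hmin.2.2.2.1
        rw [pow_one] at h9
        have := hmin.1.two_le
        omega
      · omega
      · omega
    · intro F _ _ σ f hf
      exact (Cfsg.Agent.S5792.result (F := F)).2.2.2.2.2.2 σ f hf
  · refine ⟨?_, ?_, ?_⟩
    · intro F _ _ h4 K hK
      exact (Cfsg.Agent.S5807.result (F := F)).2.2.1 K hK
    · intro F _ _ R hR
      obtain ⟨r, e, hne, hmin, h⟩ := hR.field
      rcases h with ⟨-, he, hc, -⟩ | ⟨h, -⟩ | ⟨h, -⟩
      · rw [hc] at hmin
        obtain ⟨he0, hed, -⟩ := min_field hp hne hmin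
        have hr2 := hmin.1.two_le
        have he1 : e = 1 ∨ e = 3 := by
          have := Nat.le_of_dvd (by norm_num) hed
          rcases he with ⟨a, ha⟩
          interval_cases e <;> omega
        refine (Cfsg.Agent.S5807.result (F := F)).2.2.2.2.1 ⟨r, hmin.1, hmin.2.1, ?_⟩ R hR
        rcases he1 with rfl | rfl
        · left
          refine ⟨by rw [hmin.2.2.1, pow_one], ?_⟩
          have h9 := hmin.2.2.2.1
          rw [pow_one] at h9
          omega
        · right
          refine ⟨hmin.2.2.1, ?_⟩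
          have h1 := mod_of_dvd hmin.2.2.2.1 (by omega) (by norm_num)
          have h2 := not_mod (hmin.2.2.2.2 1 (by norm_num) (by norm_num)) (by omega) (by norm_num)
          have h3 : r % 7 < 7 := Nat.mod_lt _ (by norm_num)
          generalize r % 7 = t at h1 h2 h3
          interval_cases t <;> simp_all
      · omega
      · omega
    · intro F _ _ σ f hf
      exact (Cfsg.Agent.S5807.result (F := F)).2.2.2.2.2.2 σ f hf
  · refine ⟨?_, ?_, ?_⟩
    · intro F _ _ h4 K hK
      exact (Cfsg.Agent.S5852.result (F := F)).2.2.1 K hK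
    · intro F _ _ R hR
      obtain ⟨r, e, hne, hmin, h⟩ := hR.field
      rcases h with ⟨-, he, hc, -⟩ | ⟨h, -⟩ | ⟨h, -⟩
      · rw [hc] at hmin
        obtain ⟨he0, hed, -⟩ := min_field hp hne hmin
        have hr2 := hmin.1.two_le
        have he1 : e = 1 ∨ e = 5 := by
          have := Nat.le_of_dvd (by norm_num) hed
          rcases he with ⟨a, ha⟩
          interval_cases e <;> omega
        refine (Cfsg.Agent.S5852.result (F := F)).2.2.2.2.1 ⟨r, hmin.1, hmin.2.1, ?_⟩ R hR
        rcases he1 with rfl | rfl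
        · left
          refine ⟨by rw [hmin.2.2.1, pow_one], ?_⟩
          have h9 := hmin.2.2.2.1
          rw [pow_one] at h9
          omega
        · right
          refine ⟨hmin.2.2.1, ?_⟩
          have h1 := mod_of_dvd hmin.2.2.2.1 (by omega) (by norm_num)
          have h2 := not_mod (hmin.2.2.2.2 1 (by norm_num) (by norm_num)) (by omega) (by norm_num)
          have h3 : r % 11 < 11 := Nat.mod_lt _ (by norm_num)
          generalize r % 11 = t at h1 h2 h3
          interval_cases t <;> simp_all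
      · omega
      · omega
    · intro F _ _ σ f hf
      exact (Cfsg.Agent.S5852.result (F := F)).2.2.2.2.2.2 σ f hf
  · refine ⟨?_, ?_, ?_⟩
    · intro F _ _ _ K hK
      exact Cfsg.Agent.S5636.result p h13 p hp K hK
    · intro F _ _ R hR
      exact Cfsg.Agent.S5640.result p h13 p R hR
    · intro F _ _ σ f hf
      exact Cfsg.Agent.S5643.result p h13 σ f hf

theorem uniFacts {p : ℕ} (hp : p.Prime) (h2 : p ≠ 2) : UniFacts.{u} p := by
  rcases prime_cases hp h2 with rfl | rfl | rfl | rfl | h13
  · refine ⟨?_, ?_, ?_⟩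
    · intro F _ _ q hF h35 hq K hK hK'
      exact (Cfsg.Agent.S5777.result q hF hq).2.2.2.1 (h35 rfl).1 (h35 rfl).2 K hK hK'
    · intro F _ _ q hF hq F₀ s hs hso hc hP
      exact (Cfsg.Agent.S5777.result q hF hq).2.2.2.2.1 F₀ s 1 hs hso hc hP
    · intro F _ _ q hF hq R r e hR habs hRU hne hmin hc hZ
      obtain ⟨he0, hed, -⟩ := min_field hp hne hmin
      obtain ⟨f, rfl, rfl⟩ := exists_half hmin.1 (hmin.2.2.1.symm.trans hF)
      have hf1 : f = 1 := by
        have := Nat.le_of_dvd (by norm_num) hed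
        omega
      subst hf1
      rw [pow_one] at hq
      have hr2 := hmin.1.two_le
      have h1 := mod_of_dvd hmin.2.2.2.1 (by omega) (by norm_num)
      have h2 := not_mod (hmin.2.2.2.2 1 (by norm_num) (by norm_num)) (by omega) (by norm_num)
      have h3 : r % 3 < 3 := Nat.mod_lt _ (by norm_num)
      have h4 : r % 3 = 2 := by
        generalize r % 3 = t at h1 h2 h3
        interval_cases t <;> simp_all
      have h11 : 11 ≤ r := by
        have h5 := hq rfl
        by_contra hlt
        have h6 : r = 8 := by omega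
        have := hmin.1
        rw [h6] at this
        revert this; decide
      exact (Cfsg.Agent.S5777.result _ hF (by rw [pow_one]; omega)).2.2.2.2.2.2 r R hmin.1 (by rw [pow_one]) h4 h11 hR habs
        (le_similarity hRU) (by rw [hc]; norm_num) hZ
  · refine ⟨?_, ?_, ?_⟩
    · intro F _ _ q hF h35 hq K hK hK'
      exact (Cfsg.Agent.S5795.result q hF).2.2.2.1 hq K hK hK'
    · intro F _ _ q hF hq F₀ s hs hso hc hP
      exact (Cfsg.Agent.S5795.result q hF).2.2.2.2.1 F₀ s 1 hs hso hc hP
    · intro F _ _ q hF hq R r e hR habs hRU hne hmin hc hZ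
      obtain ⟨he0, hed, -⟩ := min_field hp hne hmin
      obtain ⟨f, rfl, rfl⟩ := exists_half hmin.1 (hmin.2.2.1.symm.trans hF)
      have hr2 := hmin.1.two_le
      have hf1 : f = 1 ∨ f = 2 := by
        have := Nat.le_of_dvd (by norm_num) hed
        omega
      refine (Cfsg.Agent.S5795.result _ hF).2.2.2.2.2.2 r R hmin.1 hmin.2.1 ?_ hR habs
        (le_similarity hRU) (by rw [hc]; norm_num) hZ
      have h1 := mod_of_dvd hmin.2.2.2.1 (by omega) (by norm_num)
      have h3 : r % 5 < 5 := Nat.mod_lt _ (by norm_num)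
      rcases hf1 with rfl | rfl
      · left
        refine ⟨pow_one _, ?_⟩
        have h2 := not_mod (hmin.2.2.2.2 1 (by norm_num) (by norm_num)) (by omega) (by norm_num)
        generalize r % 5 = t at h1 h2 h3
        interval_cases t <;> simp_all
      · right
        refine ⟨rfl, ?_⟩
        have h2 := not_mod (hmin.2.2.2.2 2 (by norm_num) (by norm_num)) (by omega) (by norm_num)
        generalize r % 5 = t at h1 h2 h3
        interval_cases t <;> simp_all
  · refine ⟨?_, ?_, ?_⟩
    · intro F _ _ q hF h35 hq K hK hK'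
      exact (Cfsg.Agent.S5810.result q hF).2.2.2.1 K hK hK'
    · intro F _ _ q hF hq F₀ s hs hso hc hP
      exact (Cfsg.Agent.S5810.result q hF).2.2.2.2.1 F₀ s 1 hs hso hc hP
    · intro F _ _ q hF hq R r e hR habs hRU hne hmin hc hZ
      obtain ⟨he0, hed, -⟩ := min_field hp hne hmin
      obtain ⟨f, rfl, rfl⟩ := exists_half hmin.1 (hmin.2.2.1.symm.trans hF)
      have hr2 := hmin.1.two_le
      have hf1 : f = 1 ∨ f = 3 := by
        have := Nat.le_of_dvd (by norm_num) hed
        have : f ≤ 3 := by omega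
        interval_cases f <;> omega
      refine (Cfsg.Agent.S5810.result _ hF).2.2.2.2.2.2 r R hmin.1 hmin.2.1 ?_ hR habs
        (le_similarity hRU) (by rw [hc]; norm_num) hZ
      have h1 := mod_of_dvd hmin.2.2.2.1 (by omega) (by norm_num)
      have h3 : r % 7 < 7 := Nat.mod_lt _ (by norm_num)
      rcases hf1 with rfl | rfl
      · left
        refine ⟨pow_one _, ?_⟩
        have h2 := not_mod (hmin.2.2.2.2 1 (by norm_num) (by norm_num)) (by omega) (by norm_num)
        generalize r % 7 = t at h1 h2 h3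
        interval_cases t <;> simp_all
      · right
        refine ⟨rfl, ?_⟩
        have h2 := not_mod (hmin.2.2.2.2 2 (by norm_num) (by norm_num)) (by omega) (by norm_num)
        have h2' := not_mod (hmin.2.2.2.2 3 (by norm_num) (by norm_num)) (by omega) (by norm_num)
        generalize r % 7 = t at h1 h2 h2' h3
        interval_cases t <;> simp_all
  · refine ⟨?_, ?_, ?_⟩
    · intro F _ _ q hF h35 hq K hK hK'
      exact (Cfsg.Agent.S5855.result q hF).2.2.2.1 K hK hK'
    · intro F _ _ q hF hq F₀ s hs hso hc hP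
      exact (Cfsg.Agent.S5855.result q hF).2.2.2.2.1 F₀ s 1 hs hso hc hP
    · intro F _ _ q hF hq R r e hR habs hRU hne hmin hc hZ
      obtain ⟨he0, hed, -⟩ := min_field hp hne hmin
      obtain ⟨f, rfl, rfl⟩ := exists_half hmin.1 (hmin.2.2.1.symm.trans hF)
      have hr2 := hmin.1.two_le
      have hf1 : f = 1 ∨ f = 5 := by
        have := Nat.le_of_dvd (by norm_num) hed
        have : f ≤ 5 := by omega
        interval_cases f <;> omega
      refine (Cfsg.Agent.S5855.result _ hF).2.2.2.2.2.2 r R hmin.1 hmin.2.1 ?_ hR habs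
        hRU (by rw [hc]; norm_num) hZ
      have h1 := mod_of_dvd hmin.2.2.2.1 (by omega) (by norm_num)
      have h3 : r % 11 < 11 := Nat.mod_lt _ (by norm_num)
      rcases hf1 with rfl | rfl
      · left
        refine ⟨pow_one _, ?_⟩
        have h2 := not_mod (hmin.2.2.2.2 1 (by norm_num) (by norm_num)) (by omega) (by norm_num)
        generalize r % 11 = t at h1 h2 h3
        interval_cases t <;> simp_all
      · right
        refine ⟨rfl, ?_⟩
        have h2 := not_mod (hmin.2.2.2.2 2 (by norm_num) (by norm_num)) (by omega) (by norm_num)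
        have h2' := not_mod (hmin.2.2.2.2 5 (by norm_num) (by norm_num)) (by omega) (by norm_num)
        generalize r % 11 = t at h1 h2 h2' h3
        interval_cases t <;> simp_all
  · refine ⟨?_, ?_, ?_⟩
    · intro F _ _ q hF h35 hq K hK hK'
      exact Cfsg.Agent.S5669.result p q hF h13 p hp (hp.odd_of_ne_two h2) K hK hK'
    · intro F _ _ q hF hq F₀ s hs hso hc hP
      exact Cfsg.Agent.S5658.result p q hF h13 F₀ s hs hso hc 1 hP
    · intro F _ _ q hF hq R r e hR habs hRU hne hmin hc hZ
      exact Cfsg.Agent.S5661.result p q hF h13 p R r e 1 hR habs hRU hne (by rw [hZ]; exact hmin)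
        (Or.inl ⟨hp.odd_of_ne_two h2, hZ, le_rfl, by rw [hc]⟩)

end Cfsg.Agent.H321.Ker
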