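import Cfsg.Agent.H321.Ker.Core
import Cfsg.Agent.H321.Ker.Facts

/-!
# S2187, kernel row: the final theorems in matrix form
-/

set_option autoImplicit false

universe u

namespace Cfsg.Agent.H321.Ker

open Cfsg Cfsg.Geo
open scoped MatrixGroups Matrix

variable {p : ℕ} [hp : Fact p.Prime]

/-- **Kernel row, linear case**: if `H ≤ GL_p(F)` contains `a`, `b` with `a b = ζ b a`, `ζ ≠ 1`, `a ^ p`, `b ^ p`
scalar, then `SL_p(F)` is generated by the centralisers of the non-scalar elements of `H`. -/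
theorem gen_SL (h2 : p ≠ 2) {F : Type u} [Field F] [Fintype F]
    (h7 : 7 ≤ p ∨ (2 : F) ≠ 0) {H : Subgroup (GL (Fin p) F)} {a b : GL (Fin p) F} (haH : a ∈ H) (hbH : b ∈ H)
    {ζ : Fˣ} (hζ1 : ζ ≠ 1)
    (hab : (a : Matrix (Fin p) (Fin p) F) * b = (ζ : F) • ((b : Matrix (Fin p) (Fin p) F) * a))
    (ha : a ^ p ∈ scalars (Fin p) F) (hb : b ^ p ∈ scalars (Fin p) F) :
    Mc (specialLinear (Fin p) F) H = specialLinear (Fin p) F :=
  gen_SL_of h2 (linFacts hp.1 h2) (uniFacts hp.1 h2) h7 haH hbH hζ1 hab ha hb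

/-- **Kernel row, unitary case.** -/
theorem gen_SU (h2 : p ≠ 2) {F : Type u} [Field F] [Fintype F] {q : ℕ}
    (hF : Fintype.card F = q ^ 2)
    (h7 : 7 ≤ p ∨ (2 : F) ≠ 0) {H : Subgroup (GL (Fin p) F)} {a b : GL (Fin p) F} (haH : a ∈ H) (hbH : b ∈ H)
    (hau : a ∈ GU p F q) (hbu : b ∈ GU p F q) {ζ : Fˣ} (hζ1 : ζ ≠ 1)
    (hab : (a : Matrix (Fin p) (Fin p) F) * b = (ζ : F) • ((b : Matrix (Fin p) (Fin p) F) * a))
    (ha : a ^ p ∈ scalars (Fin p) F) (hb : b ^ p ∈ scalars (Fin p) F) :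
    Mc (GU p F q ⊓ specialLinear (Fin p) F) H = GU p F q ⊓ specialLinear (Fin p) F :=
  gen_SU_of h2 (uniFacts hp.1 h2) hF h7 haH hbH hau hbu hζ1 hab ha hb

end Cfsg.Agent.H321.Ker
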