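import Cfsg.Prelude.Def_GeometricClasses
import Cfsg.Prelude.Def_LieClassical
import Mathlib

/-!
# S2187, kernel row: the groups generated by the centralisers (modulo scalars) of a Heisenberg group

`Mg G H` is generated by the elements of `G` centralising modulo scalars some non-scalar element of `H`.
`Dm ζ = diag(1, ζ, ζ², …)`, `Bm β` = cyclic shift with `Bm β ^ n = β`, `tor c = diag(c, c⁻¹, 1, …, 1)`.
-/

set_option autoImplicit false
set_option linter.unusedSectionVars false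

namespace Cfsg.Agent.H321.Ker

open Cfsg Cfsg.Geo
open scoped MatrixGroups Matrix

section General

variable {ι : Type} [Fintype ι] [DecidableEq ι] {F : Type*} [Field F]

/-- The subgroup of `G` generated by the centralisers modulo scalars of the non-scalar elements of `H`. -/
def Mg (G H : Subgroup (GL ι F)) : Subgroup (GL ι F) :=
  Subgroup.closure {g | g ∈ G ∧ ∃ f ∈ H, f ∉ scalars ι F ∧ g * f * g⁻¹ * f⁻¹ ∈ scalars ι F}

theorem mem_Mg {G H : Subgroup (GL ι F)} {g f : GL ι F} (hg : g ∈ G) (hf : f ∈ H) (hs : f ∉ scalars ι F)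
    (h : g * f * g⁻¹ * f⁻¹ ∈ scalars ι F) : g ∈ Mg G H :=
  Subgroup.subset_closure ⟨hg, f, hf, hs, h⟩

theorem Mg_le (G H : Subgroup (GL ι F)) : Mg G H ≤ G :=
  (Subgroup.closure_le _).2 fun _ h => h.1

theorem Mg_mono {G G' H H' : Subgroup (GL ι F)} (hG : G ≤ G') (hH : H ≤ H') : Mg G H ≤ Mg G' H' :=
  Subgroup.closure_mono fun _ ⟨hg, f, hf, hs, h⟩ => ⟨hG hg, f, hH hf, hs, h⟩

theorem conj_mem_scalars {s x : GL ι F} (hs : s ∈ scalars ι F) : x * s * x⁻¹ ∈ scalars ι F :=
  (scalars_normal (ι := ι) (F := F)).conj_mem s hs x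

/-- Conjugation by `x` maps `Mg G H` into `Mg G' H'` if it maps `G` into `G'` and `H` into `H'`. -/
theorem conj_Mg {G G' H H' : Subgroup (GL ι F)} {x : GL ι F} (hG : ∀ g ∈ G, x * g * x⁻¹ ∈ G')
    (hH : ∀ g ∈ H, x * g * x⁻¹ ∈ H') {g : GL ι F} (hg : g ∈ Mg G H) : x * g * x⁻¹ ∈ Mg G' H' := by
  have h1 : Mg G H ≤ (Mg G' H').comap (MulAut.conj x).toMonoidHom := by
    refine (Subgroup.closure_le _).2 ?_
    rintro y ⟨hy, f, hf, hs, hc⟩
    refine mem_Mg (f := x * f * x⁻¹) (hG y hy) (hH f hf) ?_ ?_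
    · intro h
      apply hs
      have := conj_mem_scalars (x := x⁻¹) h
      simpa [mul_assoc] using this
    · have := conj_mem_scalars (x := x) hc
      simpa [mul_assoc] using this
  exact h1 hg

end General

section Matrices

variable {n : ℕ} [NeZero n] {F : Type*} [Field F]

/-- `diag(1, ζ, ζ², …, ζ^(n-1))`. -/
def Dm (n : ℕ) (ζ : Fˣ) : GL (Fin n) F :=
  ⟨Matrix.diagonal fun i => ((ζ ^ (i : ℕ) : Fˣ) : F), Matrix.diagonal fun i => (((ζ ^ (i : ℕ))⁻¹ : Fˣ) : F), by
    rw [Matrix.diagonal_mul_diagonal, ← Matrix.diagonal_one]; congr 1; funext i; simp, by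
    rw [Matrix.diagonal_mul_diagonal, ← Matrix.diagonal_one]; congr 1; funext i; simp⟩

/-- `diag(c, c⁻¹, 1, …, 1)`. -/
def tor (n : ℕ) (c : Fˣ) : GL (Fin n) F :=
  ⟨Matrix.diagonal fun i => if (i : ℕ) = 0 then (c : F) else if (i : ℕ) = 1 then ((c⁻¹ : Fˣ) : F) else 1,
    Matrix.diagonal fun i => if (i : ℕ) = 0 then ((c⁻¹ : Fˣ) : F) else if (i : ℕ) = 1 then (c : F) else 1, by
    rw [Matrix.diagonal_mul_diagonal, ← Matrix.diagonal_one]; congr 1; funext i; split_ifs <;> simp, by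
    rw [Matrix.diagonal_mul_diagonal, ← Matrix.diagonal_one]; congr 1; funext i; split_ifs <;> simp⟩

/-- The weighted cyclic shift: `e_j ↦ e_{j+1}` for `j < n - 1`, `e_{n-1} ↦ β e_0`. -/
def Bm (n : ℕ) [NeZero n] (β : Fˣ) : GL (Fin n) F :=
  ⟨Matrix.of fun i j => if i = j + 1 then (if i = 0 then (β : F) else 1) else 0,
    Matrix.of fun i j => if j = i + 1 then (if j = 0 then ((β⁻¹ : Fˣ) : F) else 1) else 0, by
    ext i j
    rw [Matrix.mul_apply, Finset.sum_eq_single (i - 1)]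
    · simp only [Matrix.of_apply, sub_add_cancel, if_true, Matrix.one_apply]
      by_cases h : i = j
      · subst h; simp only [if_true]; split_ifs <;> simp
      · rw [if_neg (Ne.symm h), if_neg h, mul_zero]
    · intro k _ hk
      rw [Matrix.of_apply, if_neg, zero_mul]
      rintro rfl
      exact hk (by simp)
    · simp, by
    ext i j
    rw [Matrix.mul_apply, Finset.sum_eq_single (i + 1)]
    · simp only [Matrix.of_apply, if_true, Matrix.one_apply, add_left_inj]
      by_cases h : i = j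
      · subst h; simp only [if_true]; split_ifs <;> simp
      · rw [if_neg h, if_neg h, mul_zero]
    · intro k _ hk
      rw [Matrix.of_apply, if_neg hk, zero_mul]
    · simp⟩

/-- The Heisenberg group with the scalars. -/
def Hs (n : ℕ) [NeZero n] (ζ β : Fˣ) : Subgroup (GL (Fin n) F) :=
  Subgroup.closure {Dm n ζ, Bm n β} ⊔ scalars (Fin n) F

theorem Dm_mem (ζ β : Fˣ) : Dm n ζ ∈ Hs n ζ β := (le_sup_left : _ ≤ Hs n ζ β) (Subgroup.subset_closure (by simp))

theorem Bm_mem (ζ β : Fˣ) : Bm n β ∈ Hs n ζ β := (le_sup_left : _ ≤ Hs n ζ β) (Subgroup.subset_closure (by simp))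

theorem scalars_le_Hs (ζ β : Fˣ) : scalars (Fin n) F ≤ Hs n ζ β := le_sup_right

end Matrices

end Cfsg.Agent.H321.Ker
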