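import Cfsg.Agent.H321.Ker.Base

/-!
# S2187, kernel row: honest centralisers

`Mc G H` is generated by the elements of `G` commuting with some non-scalar element of `H` (honest centralisers, not
modulo scalars); `Mc G H ≤ Mg G H`.
-/

set_option autoImplicit false
set_option linter.unusedSectionVars false

namespace Cfsg.Agent.H321.Ker

open Cfsg Cfsg.Geo
open scoped MatrixGroups Matrix

variable {ι : Type} [Fintype ι] [DecidableEq ι] {F : Type*} [Field F]

/-- The subgroup of `G` generated by the centralisers of the non-scalar elements of `H`. -/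
def Mc (G H : Subgroup (GL ι F)) : Subgroup (GL ι F) :=
  Subgroup.closure {g | g ∈ G ∧ ∃ f ∈ H, f ∉ scalars ι F ∧ g * f = f * g}

theorem mem_Mc {G H : Subgroup (GL ι F)} {g f : GL ι F} (hg : g ∈ G) (hf : f ∈ H) (hs : f ∉ scalars ι F)
    (h : g * f = f * g) : g ∈ Mc G H :=
  Subgroup.subset_closure ⟨hg, f, hf, hs, h⟩

theorem Mc_le (G H : Subgroup (GL ι F)) : Mc G H ≤ G :=
  (Subgroup.closure_le _).2 fun _ h => h.1

theorem Mc_mono {G G' H H' : Subgroup (GL ι F)} (hG : G ≤ G') (hH : H ≤ H') : Mc G H ≤ Mc G' H' :=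
  Subgroup.closure_mono fun _ ⟨hg, f, hf, hs, h⟩ => ⟨hG hg, f, hH hf, hs, h⟩

theorem Mc_le_Mg (G H : Subgroup (GL ι F)) : Mc G H ≤ Mg G H := by
  refine Subgroup.closure_mono fun g ⟨hg, f, hf, hs, h⟩ => ⟨hg, f, hf, hs, ?_⟩
  rw [h, mul_inv_cancel_right, mul_inv_cancel]
  exact one_mem _

/-- Conjugation by `x` maps `Mc G H` into `Mc G' H'` if it maps `G` into `G'` and `H` into `H'`. -/
theorem conj_Mc {G G' H H' : Subgroup (GL ι F)} {x : GL ι F} (hG : ∀ g ∈ G, x * g * x⁻¹ ∈ G')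
    (hH : ∀ g ∈ H, x * g * x⁻¹ ∈ H') {g : GL ι F} (hg : g ∈ Mc G H) : x * g * x⁻¹ ∈ Mc G' H' := by
  have h1 : Mc G H ≤ (Mc G' H').comap (MulAut.conj x).toMonoidHom := by
    refine (Subgroup.closure_le _).2 ?_
    rintro y ⟨hy, f, hf, hs, hc⟩
    refine mem_Mc (f := x * f * x⁻¹) (hG y hy) (hH f hf) ?_ ?_
    · intro h
      apply hs
      have := conj_mem_scalars (x := x⁻¹) h
      simpa [mul_assoc] using this
    · change x * y * x⁻¹ * (x * f * x⁻¹) = x * f * x⁻¹ * (x * y * x⁻¹)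
      calc x * y * x⁻¹ * (x * f * x⁻¹) = x * (y * f) * x⁻¹ := by group
        _ = x * (f * y) * x⁻¹ := by rw [hc]
        _ = _ := by group
  exact h1 hg

end Cfsg.Agent.H321.Ker
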