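import Cfsg.Agent.H321.Ker.MainL
import Cfsg.Agent.H783.NormF
import Cfsg.Agent.H973.KerSU.Main
import Cfsg.Agent.H5.Heis.Mat

/-!
# S2187, kernel row: the theorems for an arbitrary Heisenberg pair, from the maximality facts
-/

set_option autoImplicit false
set_option linter.unusedSectionVars false

universe u

namespace Cfsg.Agent.H321.Ker

open Cfsg Cfsg.Geo
open scoped MatrixGroups Matrix
open Cfsg.Agent.LieClassical.HermBasic
open Cfsg.Agent.H918 (SUg)

theorem Mc_sup_scalars {ι : Type} [Fintype ι] [DecidableEq ι] {F : Type*} [Field F] (G H : Subgroup (GL ι F)) :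
    Mc G (H ⊔ scalars ι F) = Mc G H := by
  refine le_antisymm ?_ (Mc_mono le_rfl le_sup_left)
  refine (Subgroup.closure_le _).2 ?_
  rintro g ⟨hg, f, hf, hs, h⟩
  obtain ⟨x, hx, z, hz, rfl⟩ := Subgroup.mem_sup_of_normal_right.1 hf
  have hzc : ∀ y : GL ι F, z * y = y * z := by
    intro y
    obtain ⟨c, hc⟩ := (mem_scalars_iff _).1 hz
    apply Units.ext
    rw [Units.val_mul, Units.val_mul, hc, Matrix.smul_mul, one_mul, Matrix.mul_smul, mul_one]
  refine mem_Mc (f := x) hg hx (fun h1 => hs ((scalars ι F).mul_mem h1 hz)) ?_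
  have : g * x * z = x * g * z := by rw [mul_assoc, h, mul_assoc, hzc g, mul_assoc]
  exact mul_right_cancel this

variable {p : ℕ} [hp : Fact p.Prime]

theorem heisFacts (h2 : p ≠ 2) : haveI : NeZero p := ⟨hp.1.ne_zero⟩; HeisFacts.{u} p := by
  have : NeZero p := ⟨hp.1.ne_zero⟩
  intro F _ _ ζ hζ hζ1
  exact Cfsg.Agent.H5.Heis.heis h2 ζ hζ hζ1

theorem suThreeFive : SUThreeFive.{u} := by
  intro F _ _ hF ζ β hζ hζ1 hβ
  exact Cfsg.Agent.H973.KerSU.su35 hF ζ β hζ hζ1 hβ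

/-- **Kernel row, linear case.** -/
theorem gen_SL_of (h2 : p ≠ 2) (L : LinFacts.{u} p) (U : UniFacts.{u} p) {F : Type u} [Field F] [Fintype F]
    (h7 : 7 ≤ p ∨ (2 : F) ≠ 0) {H : Subgroup (GL (Fin p) F)} {a b : GL (Fin p) F} (haH : a ∈ H) (hbH : b ∈ H)
    {ζ : Fˣ} (hζ1 : ζ ≠ 1)
    (hab : (a : Matrix (Fin p) (Fin p) F) * b = (ζ : F) • ((b : Matrix (Fin p) (Fin p) F) * a))
    (ha : a ^ p ∈ scalars (Fin p) F) (hb : b ^ p ∈ scalars (Fin p) F) :
    Mc (specialLinear (Fin p) F) H = specialLinear (Fin p) F := by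
  have : NeZero p := ⟨hp.1.ne_zero⟩
  obtain ⟨P, ζ', β, hζ', hζp, hβ, hP⟩ := Cfsg.Agent.H783.NormF.normalForm h2 hζ1 hab ha hb
  have h1 : Mc (specialLinear (Fin p) F) (Hs p ζ' β) = specialLinear (Fin p) F := by
    rcases hβ with rfl | hβ
    · exact SL_split h2 L U (heisFacts h2) (fun _ => suThreeFive) hζp hζ' h7
    · exact SL_nonsplit h2 L hζp hζ' hβ h7
  refine le_antisymm (Mc_le _ _) ?_
  rw [← Mc_sup_scalars]
  have hSn : ∀ (x g : GL (Fin p) F), g ∈ specialLinear (Fin p) F → x * g * x⁻¹ ∈ specialLinear (Fin p) F :=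
    fun x g hg => (MonoidHom.normal_ker (Matrix.GeneralLinearGroup.det : GL (Fin p) F →* Fˣ)).conj_mem g hg x
  intro g hg
  have h3 : P⁻¹ * g * P ∈ Mc (specialLinear (Fin p) F) (Hs p ζ' β) := by
    rw [h1]
    have := hSn P⁻¹ g hg
    rwa [inv_inv] at this
  have h4 : P * (P⁻¹ * g * P) * P⁻¹ ∈ Mc (specialLinear (Fin p) F) (H ⊔ scalars (Fin p) F) := by
    refine conj_Mc (hSn P) (fun h hh => ?_) h3
    have h5 : Subgroup.closure {a, b} ≤ H := by
      rw [Subgroup.closure_le]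
      rintro x (rfl | rfl)
      · exact haH
      · exact hbH
    exact (sup_le_sup_right h5 _) (hP h hh)
  have h6 : P * (P⁻¹ * g * P) * P⁻¹ = g := by group
  rwa [h6] at h4

/-- **Kernel row, unitary case.** -/
theorem gen_SU_of (h2 : p ≠ 2) (U : UniFacts.{u} p) {F : Type u} [Field F] [Fintype F] {q : ℕ}
    (hF : Fintype.card F = q ^ 2)
    (h7 : 7 ≤ p ∨ (2 : F) ≠ 0) {H : Subgroup (GL (Fin p) F)} {a b : GL (Fin p) F} (haH : a ∈ H) (hbH : b ∈ H)
    (hau : a ∈ GU p F q) (hbu : b ∈ GU p F q) {ζ : Fˣ} (hζ1 : ζ ≠ 1)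
    (hab : (a : Matrix (Fin p) (Fin p) F) * b = (ζ : F) • ((b : Matrix (Fin p) (Fin p) F) * a))
    (ha : a ^ p ∈ scalars (Fin p) F) (hb : b ^ p ∈ scalars (Fin p) F) :
    Mc (GU p F q ⊓ specialLinear (Fin p) F) H = GU p F q ⊓ specialLinear (Fin p) F := by
  have : NeZero p := ⟨hp.1.ne_zero⟩
  have hp0 : 0 < p := hp.1.pos
  -- `ζ` has norm one and order `p`
  have hab' : a * b = sc p ζ * (b * a) := by
    apply Units.ext
    rw [Units.val_mul, Units.val_mul, sc_coe, Matrix.smul_mul, one_mul, Units.val_mul, hab]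
  have hq : ζ ^ (q + 1) = 1 := by
    have h3 : sc p ζ ∈ GU p F q := by
      have : sc p ζ = a * b * (b * a)⁻¹ := by rw [hab', mul_inv_cancel_right]
      rw [this]
      exact (GU p F q).mul_mem ((GU p F q).mul_mem hau hbu) ((GU p F q).inv_mem ((GU p F q).mul_mem hbu hau))
    rw [mem_GU_iff] at h3
    have h4 := h3 (Pi.single ⟨0, hp0⟩ 1) (Pi.single ⟨0, hp0⟩ 1)
    rw [sc_coe, Matrix.smul_mulVec, Matrix.one_mulVec, herm_smul_left, herm_smul_right, herm_single_right hF,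
      Pi.single_eq_same, one_pow, mul_one, mul_one] at h4
    exact norm_iff.1 h4
  have hζp : ζ ^ p = 1 := by
    have h3 : a ^ p * b = sc p (ζ ^ p) * (b * a ^ p) := by
      have := zpow_comm (z := sc p ζ) (fun g => sc_comm ζ g) hab' p 1
      rw [zpow_one, zpow_natCast, mul_one, zpow_neg, zpow_natCast, ← sc_pow] at this
      rw [this]; group
    obtain ⟨z, hz⟩ := mem_scalars_iff_sc.1 ha
    rw [hz, sc_comm z b] at h3
    have h4 : sc p (ζ ^ p) = 1 := by
      have := mul_right_cancel (b := b * sc p z) (show 1 * (b * sc p z) = sc p (ζ ^ p) * (b * sc p z) by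
        rw [one_mul]; exact h3)
      exact this.symm
    have h5 : (sc p (ζ ^ p) : Matrix (Fin p) (Fin p) F) ⟨0, hp0⟩ ⟨0, hp0⟩ = 1 := by rw [h4]; simp
    rw [sc_coe, Matrix.smul_apply, Matrix.one_apply_eq, smul_eq_mul, mul_one] at h5
    exact Units.ext h5
  obtain ⟨P, ζ', β, hPU, hζ', hζp', hβ, hβq, hP⟩ :=
    Cfsg.Agent.H783.NormF.normalFormU h2 hF hζ1 hq hau hbu hab ha hb
  have hpq : p ∣ q + 1 := by rw [← orderOf_zeta hζp hζ1]; exact orderOf_dvd_of_pow_eq_one hq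
  have hq' : ζ' ^ (q + 1) = 1 := by
    obtain ⟨k, hk⟩ := hpq
    rw [hk, pow_mul, hζp', one_pow]
  have h1 : Mc (SUg p F q) (Hs p ζ' β) = SUg p F q := by
    rcases hβ with rfl | hβ
    · exact SU_split h2 U (heisFacts h2) (fun _ => suThreeFive) _ hF hζp' hζ' hq' h7 rfl
    · exact SU_nonsplit h2 U (fun _ => suThreeFive) hF hζp' hζ' hq' hβq hβ h7
  refine le_antisymm (Mc_le _ _) ?_
  rw [← Mc_sup_scalars]
  have hSn : ∀ (x g : GL (Fin p) F), x ∈ GU p F q → g ∈ SUg p F q → x * g * x⁻¹ ∈ SUg p F q :=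
    fun x g hx hg => ⟨(GU p F q).mul_mem ((GU p F q).mul_mem hx hg.1) ((GU p F q).inv_mem hx),
      (MonoidHom.normal_ker (Matrix.GeneralLinearGroup.det : GL (Fin p) F →* Fˣ)).conj_mem g hg.2 x⟩
  intro g hg
  have h3 : P⁻¹ * g * P ∈ Mc (SUg p F q) (Hs p ζ' β) := by
    rw [h1]
    have := hSn P⁻¹ g ((GU p F q).inv_mem hPU) hg
    rwa [inv_inv] at this
  have h4 : P * (P⁻¹ * g * P) * P⁻¹ ∈ Mc (SUg p F q) (H ⊔ scalars (Fin p) F) := by
    refine conj_Mc (fun x hx => hSn P x hPU hx) (fun h hh => ?_) h3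
    have h5 : Subgroup.closure {a, b} ≤ H := by
      rw [Subgroup.closure_le]
      rintro x (rfl | rfl)
      · exact haH
      · exact hbH
    exact (sup_le_sup_right h5 _) (hP h hh)
  have h6 : P * (P⁻¹ * g * P) * P⁻¹ = g := by group
  rwa [h6] at h4

end Cfsg.Agent.H321.Ker
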