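import Cfsg.Agent.H321.Ker.AlgFr
import Cfsg.Agent.H321.Ker.Core

/-!
# S2187, kernel row, algebraic form

`k` algebraically closed of characteristic `r`, `τ` a Frobenius map of `GL_p(k)` : `g ↦ D g^(q) D⁻¹` or
`g ↦ D (g^(q))^{-T} D⁻¹`, `q = r ^ e`, `e > 0`; `a b = ζ b a`, `ζ ≠ 1`, `a ^ p`, `b ^ p` scalars, `τ a ∈ k^* a`,
`τ b ∈ k^* b`. Then the `τ`-fixed points of `SL_p(k)` are generated by those which commute with a non-scalar element of
`⟨a, b⟩`.
-/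

set_option autoImplicit false
set_option linter.unusedSectionVars false

universe u

namespace Cfsg.Agent.H321.Ker

open Cfsg Cfsg.Geo
open scoped MatrixGroups Matrix
open Cfsg.Agent.LieClassical.HermBasic
open Cfsg.Agent.H918 (SUg)

/-- A Frobenius map of `GL_n(k)`. -/
structure Std {n : ℕ} [NeZero n] {k : Type u} [Field k] (r e : ℕ) [Fact r.Prime] [CharP k r] (D : GL (Fin n) k)
    (uni : Bool) (τ : GL (Fin n) k →* GL (Fin n) k) : Prop where
  lin : uni = false → ∀ g, τ g = D * fr r e g * D⁻¹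
  uni : uni = true → ∀ g, τ g = D * it (fr r e g) * D⁻¹

section

variable {n : ℕ} [NeZero n] {k : Type u} [Field k] [IsAlgClosed k] {r e : ℕ} [Fact r.Prime] [CharP k r]

/-- roots in `k` -/
theorem exists_root {m : ℕ} (hm : 0 < m) (z : kˣ) : ∃ w : kˣ, w ^ m = z := by
  obtain ⟨w, hw⟩ := IsAlgClosed.exists_pow_nat_eq (z : k) hm
  have hw0 : w ≠ 0 := by
    rintro rfl
    rw [zero_pow hm.ne'] at hw
    exact z.ne_zero hw.symm
  exact ⟨Units.mk0 w hw0, Units.ext (by rw [Units.val_pow_eq_pow_val, Units.val_mk0, hw])⟩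

/-- The centralisers in `G` of non-scalar elements of `H`, conjugated and extended. -/
theorem map_closure {F₀ : Subfield k} {x : GL (Fin n) k} {a b : GL (Fin n) k} {a₀ b₀ : GL (Fin n) F₀} {μ ν : kˣ}
    (ha : x * ex n F₀ a₀ * x⁻¹ = sc n μ * a) (hb : x * ex n F₀ b₀ * x⁻¹ = sc n ν * b) {f : GL (Fin n) F₀}
    (hf : f ∈ Subgroup.closure {a₀, b₀}) :
    ∃ f' ∈ Subgroup.closure {a, b}, ∃ z, x * ex n F₀ f * x⁻¹ = sc n z * f' := by
  have hl : Subgroup.closure {a, b} ≤ Subgroup.closure {a, b} ⊔ scalars (Fin n) k := le_sup_left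
  have hr : scalars (Fin n) k ≤ Subgroup.closure {a, b} ⊔ scalars (Fin n) k := le_sup_right
  have h1 : Subgroup.closure {a₀, b₀} ≤
      (Subgroup.closure {a, b} ⊔ scalars (Fin n) k).comap ((MulAut.conj x).toMonoidHom.comp (ex n F₀)) := by
    rw [Subgroup.closure_le]
    rintro y (rfl | rfl)
    · show x * ex n F₀ y * x⁻¹ ∈ Subgroup.closure {a, b} ⊔ scalars (Fin n) k
      rw [ha]
      exact (Subgroup.closure {a, b} ⊔ scalars (Fin n) k).mul_mem (hr (sc_mem μ))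
        (hl (Subgroup.subset_closure (by simp)))
    · show x * ex n F₀ y * x⁻¹ ∈ Subgroup.closure {a, b} ⊔ scalars (Fin n) k
      rw [hb]
      exact (Subgroup.closure {a, b} ⊔ scalars (Fin n) k).mul_mem (hr (sc_mem ν))
        (hl (Subgroup.subset_closure (by simp)))
  have h2 : x * ex n F₀ f * x⁻¹ ∈ Subgroup.closure {a, b} ⊔ scalars (Fin n) k := h1 hf
  obtain ⟨f', hf', z, hz, h3⟩ := Subgroup.mem_sup_of_normal_right.1 h2
  obtain ⟨c, rfl⟩ := mem_scalars_iff_sc.1 hz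
  exact ⟨f', hf', c, by rw [← h3, sc_comm]⟩

theorem not_scalar_conj {F₀ : Subfield k} {x : GL (Fin n) k} {f : GL (Fin n) F₀} (hf : f ∉ scalars (Fin n) F₀)
    {f' : GL (Fin n) k} {z : kˣ} (h : x * ex n F₀ f * x⁻¹ = sc n z * f') : f' ∉ scalars (Fin n) k := by
  intro hs
  apply ex_not_scalar hf
  have h1 : x * ex n F₀ f * x⁻¹ ∈ scalars (Fin n) k := by
    rw [h]
    exact (scalars (Fin n) k).mul_mem (sc_mem z) hs
  have := conj_mem_scalars (x := x⁻¹) h1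
  simpa [mul_assoc] using this

/-- descent: from a generation theorem over `F₀` to one over `k`. -/
theorem descent {F₀ : Subfield k} {x : GL (Fin n) k} {a b : GL (Fin n) k} {a₀ b₀ : GL (Fin n) F₀} {μ ν : kˣ}
    (ha : x * ex n F₀ a₀ * x⁻¹ = sc n μ * a) (hb : x * ex n F₀ b₀ * x⁻¹ = sc n ν * b)
    {G₀ : Subgroup (GL (Fin n) F₀)} {M : Subgroup (GL (Fin n) k)}
    (hgen : Mc G₀ (Subgroup.closure {a₀, b₀}) = G₀)
    (hM : ∀ f ∈ Subgroup.closure {a, b}, f ∉ scalars (Fin n) k → ∀ g₀ ∈ G₀,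
      x * ex n F₀ g₀ * x⁻¹ * f = f * (x * ex n F₀ g₀ * x⁻¹) → x * ex n F₀ g₀ * x⁻¹ ∈ M)
    {g₀ : GL (Fin n) F₀} (hg : g₀ ∈ G₀) : x * ex n F₀ g₀ * x⁻¹ ∈ M := by
  have h1 : Mc G₀ (Subgroup.closure {a₀, b₀}) ≤ M.comap ((MulAut.conj x).toMonoidHom.comp (ex n F₀)) := by
    refine (Subgroup.closure_le _).2 ?_
    rintro y ⟨hy, f, hf, hs, hc⟩
    show x * ex n F₀ y * x⁻¹ ∈ M
    obtain ⟨f', hf', z, hz⟩ := map_closure ha hb hf
    refine hM f' hf' (not_scalar_conj hs hz) y hy ?_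
    have h2 : ex n F₀ y * ex n F₀ f = ex n F₀ f * ex n F₀ y := by rw [← map_mul, hc, map_mul]
    have h3 : (x * ex n F₀ y * x⁻¹) * (sc n z * f') = (sc n z * f') * (x * ex n F₀ y * x⁻¹) := by
      rw [← hz]
      calc x * ex n F₀ y * x⁻¹ * (x * ex n F₀ f * x⁻¹) = x * (ex n F₀ y * ex n F₀ f) * x⁻¹ := by group
        _ = _ := by rw [h2]; group
    have h4 : sc n z * ((x * ex n F₀ y * x⁻¹) * f') = sc n z * (f' * (x * ex n F₀ y * x⁻¹)) := by
      rw [← mul_assoc, sc_comm, mul_assoc, h3, mul_assoc]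
    exact mul_left_cancel h4
  have h2 : g₀ ∈ Mc G₀ (Subgroup.closure {a₀, b₀}) := by rw [hgen]; exact hg
  exact h1 h2

end

section Main

variable {p : ℕ} [hp : Fact p.Prime] [NeZero p] {k : Type u} [Field k] [IsAlgClosed k] {r e : ℕ} [Fact r.Prime]
  [CharP k r]

theorem comm_ex {F₀ : Subfield k} {x : GL (Fin p) k} {a b : GL (Fin p) k} {a₀ b₀ : GL (Fin p) F₀} {μ ν ζ : kˣ}
    (ha : x * ex p F₀ a₀ * x⁻¹ = sc p μ * a) (hb : x * ex p F₀ b₀ * x⁻¹ = sc p ν * b) (hζ1 : ζ ≠ 1)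
    (hab : a * b = sc p ζ * (b * a)) (hap : a ^ p ∈ scalars (Fin p) k) (hbp : b ^ p ∈ scalars (Fin p) k) :
    (∃ ζ₀ : F₀ˣ, ζ₀ ≠ 1 ∧ (a₀ : Matrix (Fin p) (Fin p) F₀) * b₀ =
      (ζ₀ : F₀) • ((b₀ : Matrix (Fin p) (Fin p) F₀) * a₀)) ∧ a₀ ^ p ∈ scalars (Fin p) F₀ ∧
      b₀ ^ p ∈ scalars (Fin p) F₀ := by
  have hconj : ∀ y : GL (Fin p) k, x⁻¹ * (x * y * x⁻¹) * x = y := fun y => by group
  have hpow : ∀ {c : GL (Fin p) k} {c₀ : GL (Fin p) F₀} {m : kˣ}, x * ex p F₀ c₀ * x⁻¹ = sc p m * c →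
      c ^ p ∈ scalars (Fin p) k → c₀ ^ p ∈ scalars (Fin p) F₀ := by
    intro c c₀ m hc hcp
    by_contra hcon
    refine not_scalar_conj (x := x) (z := m ^ p) (f' := c ^ p) hcon ?_ hcp
    rw [map_pow, ← conj_pow, hc]
    have h1 : Commute (sc p m) c := sc_comm m c
    rw [h1.mul_pow, sc_pow]
  refine ⟨?_, hpow ha hap, hpow hb hbp⟩
  have h1 : ex p F₀ (a₀ * b₀ * (b₀ * a₀)⁻¹) = sc p ζ := by
    have h2 : x * ex p F₀ (a₀ * b₀ * (b₀ * a₀)⁻¹) * x⁻¹ = sc p ζ := by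
      have h3 : x * ex p F₀ (a₀ * b₀ * (b₀ * a₀)⁻¹) * x⁻¹ = (x * ex p F₀ a₀ * x⁻¹) * (x * ex p F₀ b₀ * x⁻¹) *
          ((x * ex p F₀ b₀ * x⁻¹) * (x * ex p F₀ a₀ * x⁻¹))⁻¹ := by
        simp only [map_mul, map_inv]
        group
      rw [h3, ha, hb]
      have h4 : sc p μ * a * (sc p ν * b) = sc p μ * sc p ν * (a * b) := by
        rw [mul_assoc, mul_assoc, ← mul_assoc a, ← sc_comm ν a, mul_assoc (sc p ν)]
      have h5 : sc p ν * b * (sc p μ * a) = sc p μ * sc p ν * (b * a) := by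
        rw [mul_assoc, ← mul_assoc b, ← sc_comm μ b, mul_assoc (sc p μ), ← mul_assoc, sc_comm ν (sc p μ)]
      rw [h4, h5, hab, mul_inv_rev (sc p μ * sc p ν), ← mul_assoc, mul_assoc (sc p μ * sc p ν), mul_assoc (sc p ζ),
        mul_inv_cancel, mul_one, ← sc_mul, sc_comm (μ * ν) (sc p ζ), mul_inv_cancel_right]
    have h6 := hconj (ex p F₀ (a₀ * b₀ * (b₀ * a₀)⁻¹))
    rw [h2, ← sc_comm, mul_assoc, inv_mul_cancel, mul_one] at h6
    exact h6.symm
  set c := a₀ * b₀ * (b₀ * a₀)⁻¹ with hc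
  have h2 : c ∈ scalars (Fin p) F₀ := by
    by_contra hcon
    exact ex_not_scalar hcon (by rw [h1]; exact sc_mem ζ)
  obtain ⟨ζ₀, hζ₀⟩ := mem_scalars_iff_sc.1 h2
  refine ⟨ζ₀, ?_, ?_⟩
  · rintro rfl
    rw [hζ₀, sc_one, map_one] at h1
    have h3 : ((1 : GL (Fin p) k) : Matrix (Fin p) (Fin p) k) 0 0 = (sc p ζ : Matrix (Fin p) (Fin p) k) 0 0 := by
      rw [h1]
    rw [sc_coe, Units.val_one, Matrix.smul_apply, Matrix.one_apply_eq, smul_eq_mul, mul_one] at h3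
    exact hζ1 (Units.ext h3.symm)
  · have h3 : a₀ * b₀ = sc p ζ₀ * (b₀ * a₀) := by rw [← hζ₀, hc, inv_mul_cancel_right]
    rw [← Units.val_mul, h3, Units.val_mul, sc_coe, Matrix.smul_mul, one_mul, Units.val_mul]

/-- **Kernel row, algebraic form.** -/
theorem gen_alg_of (h2 : p ≠ 2) (L : LinFacts.{u} p) (U : UniFacts.{u} p) (h7 : 7 ≤ p ∨ r ≠ 2) (he : 0 < e)
    {D : GL (Fin p) k} {uni : Bool} {τ : GL (Fin p) k →* GL (Fin p) k} (hτ : Std r e D uni τ)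
    {a b : GL (Fin p) k} {ζ : kˣ} (hζ1 : ζ ≠ 1) (hab : a * b = sc p ζ * (b * a))
    (hap : a ^ p ∈ scalars (Fin p) k) (hbp : b ^ p ∈ scalars (Fin p) k) {l m : kˣ} (hτa : τ a = sc p l * a)
    (hτb : τ b = sc p m * b) {M : Subgroup (GL (Fin p) k)}
    (hM : ∀ f ∈ Subgroup.closure {a, b}, f ∉ scalars (Fin p) k → ∀ g ∈ specialLinear (Fin p) k, τ g = g →
      g * f = f * g → g ∈ M) {g : GL (Fin p) k} (hg : g ∈ specialLinear (Fin p) k) (hτg : τ g = g) : g ∈ M := by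
  classical
  have hr1 := (Fact.out : r.Prime).one_lt
  have hq : 1 < r ^ e := Nat.one_lt_pow he.ne' hr1
  have h2k : ∀ F₀ : Subfield k, 7 ≤ p ∨ (2 : F₀) ≠ 0 := by
    intro F₀
    refine h7.imp_right fun hr h => hr ?_
    have h3 : ((2 : ℕ) : k) = 0 := by
      have h4 : (((2 : ℕ) : F₀) : k) = 0 := by
        rw [Nat.cast_ofNat, h]; rfl
      rw [← h4]; push_cast; rfl
    rw [CharP.cast_eq_zero_iff k r] at h3
    exact (Nat.prime_dvd_prime_iff_eq Fact.out Nat.prime_two).1 h3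
  cases uni with
  | false =>
    have hτ' := hτ.lin rfl
    obtain ⟨x, hx⟩ := lang_fr (r := r) he D
    have hfx : ∀ y : GL (Fin p) k, fr r e (x⁻¹ * y * x) = x⁻¹ * τ y * x := by
      intro y
      rw [hτ', map_mul, map_mul, map_inv, hx]
      group
    have hfix : ∀ {c : GL (Fin p) k} {s : kˣ}, τ c = sc p s * c → ∃ (c₀ : GL (Fin p) (Fk r e : Subfield k)) (t : kˣ),
        x * ex p (Fk r e) c₀ * x⁻¹ = sc p t * c := by
      intro c s hc
      obtain ⟨t, ht⟩ := exists_root (show 0 < r ^ e - 1 by omega) s⁻¹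
      have h3 : fr r e (sc p t * (x⁻¹ * c * x)) = sc p t * (x⁻¹ * c * x) := by
        rw [map_mul, hfx, hc, fr_sc]
        have h4 : t ^ r ^ e * s = t := by
          calc t ^ r ^ e * s = t ^ (r ^ e - 1 + 1) * s := by rw [Nat.sub_add_cancel hq.le]
            _ = _ := by rw [pow_succ, ht, mul_assoc, mul_comm t s, inv_mul_cancel_left]
        calc sc p (t ^ r ^ e) * (x⁻¹ * (sc p s * c) * x) = sc p (t ^ r ^ e) * ((x⁻¹ * sc p s) * c * x) := by
              simp only [mul_assoc]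
          _ = sc p (t ^ r ^ e) * sc p s * (x⁻¹ * c * x) := by rw [← sc_comm s x⁻¹]; simp only [mul_assoc]
          _ = _ := by rw [← sc_mul, h4]
      obtain ⟨c₀, hc₀⟩ := exists_ex h3
      refine ⟨c₀, t, ?_⟩
      rw [hc₀, ← mul_assoc x, ← sc_comm t x]
      group
    obtain ⟨a₀, μ, ha⟩ := hfix hτa
    obtain ⟨b₀, ν, hb⟩ := hfix hτb
    obtain ⟨⟨ζ₀, hζ₀, hab₀⟩, hap₀, hbp₀⟩ := comm_ex ha hb hζ1 hab hap hbp
    have := finite_Fk (k := k) (r := r) he
    let _ : Fintype (Fk r e : Subfield k) := Fintype.ofFinite _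
    have hgen := gen_SL_of h2 L U (h2k _) (H := Subgroup.closure {a₀, b₀}) (Subgroup.subset_closure (by simp))
      (Subgroup.subset_closure (by simp)) hζ₀ hab₀ hap₀ hbp₀
    obtain ⟨g₀, hg₀⟩ := exists_ex (g := x⁻¹ * g * x) (by rw [hfx, hτg])
    have hg₀S : g₀ ∈ specialLinear (Fin p) (Fk r e : Subfield k) := by
      have h3 : ex p (Fk r e) g₀ ∈ specialLinear (Fin p) k := by
        rw [hg₀]
        have := (MonoidHom.normal_ker (Matrix.GeneralLinearGroup.det : GL (Fin p) k →* kˣ)).conj_mem g hg x⁻¹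
        rwa [inv_inv] at this
      rw [mem_SL_iff] at h3 ⊢
      have h4 : (ex p (Fk r e) g₀ : Matrix (Fin p) (Fin p) k) =
        ((Fk r e : Subfield k).subtype : (Fk r e : Subfield k) →+* k).mapMatrix
          (g₀ : Matrix (Fin p) (Fin p) (Fk r e : Subfield k)) := rfl
      rw [h4, ← RingHom.map_det] at h3
      exact Subtype.ext h3
    have h5 := descent ha hb hgen (M := M) (fun f hf hs g₀ hg₀ hc => by
      refine hM f hf hs _ ?_ ?_ hc
      · exact (MonoidHom.normal_ker (Matrix.GeneralLinearGroup.det : GL (Fin p) k →* kˣ)).conj_mem _ (ex_SL hg₀) x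
      · have h6 := hfx (x * ex p (Fk r e) g₀ * x⁻¹)
        have h7 : x⁻¹ * (x * ex p (Fk r e) g₀ * x⁻¹) * x = ex p (Fk r e) g₀ := by group
        rw [h7, fr_ex] at h6
        calc τ (x * ex p (Fk r e) g₀ * x⁻¹) = x * (x⁻¹ * τ (x * ex p (Fk r e) g₀ * x⁻¹) * x) * x⁻¹ := by group
          _ = _ := by rw [← h6]) hg₀S
    rw [hg₀] at h5
    have h6 : x * (x⁻¹ * g * x) * x⁻¹ = g := by group
    rwa [h6] at h5
  | true =>
    have hτ' := hτ.uni rfl
    obtain ⟨x, hx⟩ := lang_it (r := r) he D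
    have he2 : 0 < e + e := by omega
    have hfx : ∀ y : GL (Fin p) k, it (fr r e (x⁻¹ * y * x)) = x⁻¹ * τ y * x := by
      intro y
      rw [hτ', map_mul, map_mul, map_mul, map_mul, map_inv, map_inv, hx]
      group
    have hctct : ∀ g : GL (Fin p) k, it (fr r e (it (fr r e g))) = fr r (e + e) g := by
      intro g
      rw [← it_fr, it_it, fr_fr]
    have hex : ∀ {c : GL (Fin p) k}, it (fr r e c) = c → ∃ c₀ : GL (Fin p) (Fk r (e + e) : Subfield k),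
        c₀ ∈ GU p (Fk r (e + e) : Subfield k) (r ^ e) ∧ ex p (Fk r (e + e)) c₀ = c := by
      intro c hc
      obtain ⟨c₀, hc₀⟩ := exists_ex (r := r) (e := e + e) (g := c) (by rw [← hctct, hc, hc])
      exact ⟨c₀, mem_GU_of_it (by rw [hc₀, hc]), hc₀⟩
    have hfix : ∀ {c : GL (Fin p) k} {s : kˣ}, τ c = sc p s * c → ∃ (c₀ : GL (Fin p) (Fk r (e + e) : Subfield k))
        (t : kˣ), c₀ ∈ GU p (Fk r (e + e) : Subfield k) (r ^ e) ∧ x * ex p (Fk r (e + e)) c₀ * x⁻¹ = sc p t * c := by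
      intro c s hc
      obtain ⟨t, ht⟩ := exists_root (show 0 < r ^ e + 1 by omega) s
      have h3 : it (fr r e (sc p t * (x⁻¹ * c * x))) = sc p t * (x⁻¹ * c * x) := by
        rw [map_mul, map_mul, hfx, hc, fr_sc, it_sc]
        have h4 : (t ^ r ^ e)⁻¹ * s = t := by
          rw [← ht, pow_succ, inv_mul_cancel_left]
        calc sc p (t ^ r ^ e)⁻¹ * (x⁻¹ * (sc p s * c) * x) = sc p (t ^ r ^ e)⁻¹ * ((x⁻¹ * sc p s) * c * x) := by
              simp only [mul_assoc]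
          _ = sc p (t ^ r ^ e)⁻¹ * sc p s * (x⁻¹ * c * x) := by rw [← sc_comm s x⁻¹]; simp only [mul_assoc]
          _ = _ := by rw [← sc_mul, h4]
      obtain ⟨c₀, hcU, hc₀⟩ := hex h3
      refine ⟨c₀, t, hcU, ?_⟩
      rw [hc₀, ← mul_assoc x, ← sc_comm t x]
      group
    obtain ⟨a₀, μ, haU, ha⟩ := hfix hτa
    obtain ⟨b₀, ν, hbU, hb⟩ := hfix hτb
    obtain ⟨⟨ζ₀, hζ₀, hab₀⟩, hap₀, hbp₀⟩ := comm_ex ha hb hζ1 hab hap hbp
    have := finite_Fk (k := k) (r := r) he2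
    let _ : Fintype (Fk r (e + e) : Subfield k) := Fintype.ofFinite _
    have hcard : Fintype.card (Fk r (e + e) : Subfield k) = (r ^ e) ^ 2 := by
      rw [← Nat.card_eq_fintype_card, card_Fk_alg he2, ← pow_mul, mul_two]
    have hgen := gen_SU_of h2 U hcard (h2k _) (H := Subgroup.closure {a₀, b₀}) (Subgroup.subset_closure (by simp))
      (Subgroup.subset_closure (by simp)) haU hbU hζ₀ hab₀ hap₀ hbp₀
    obtain ⟨g₀, hg₀U, hg₀⟩ := hex (c := x⁻¹ * g * x) (by rw [hfx, hτg])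
    have hg₀S : g₀ ∈ specialLinear (Fin p) (Fk r (e + e) : Subfield k) := by
      have h3 : ex p (Fk r (e + e)) g₀ ∈ specialLinear (Fin p) k := by
        rw [hg₀]
        have := (MonoidHom.normal_ker (Matrix.GeneralLinearGroup.det : GL (Fin p) k →* kˣ)).conj_mem g hg x⁻¹
        rwa [inv_inv] at this
      rw [mem_SL_iff] at h3 ⊢
      have h4 : (ex p (Fk r (e + e)) g₀ : Matrix (Fin p) (Fin p) k) =
        ((Fk r (e + e) : Subfield k).subtype : (Fk r (e + e) : Subfield k) →+* k).mapMatrix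
          (g₀ : Matrix (Fin p) (Fin p) (Fk r (e + e) : Subfield k)) := rfl
      rw [h4, ← RingHom.map_det] at h3
      exact Subtype.ext h3
    have h5 := descent ha hb hgen (M := M) (fun f hf hs g₀ hg₀ hc => by
      refine hM f hf hs _ ?_ ?_ hc
      · exact (MonoidHom.normal_ker (Matrix.GeneralLinearGroup.det : GL (Fin p) k →* kˣ)).conj_mem _ (ex_SL hg₀.2) x
      · have h6 := hfx (x * ex p (Fk r (e + e)) g₀ * x⁻¹)
        have h7 : x⁻¹ * (x * ex p (Fk r (e + e)) g₀ * x⁻¹) * x = ex p (Fk r (e + e)) g₀ := by group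
        rw [h7, it_of_mem_GU hg₀.1] at h6
        calc τ (x * ex p (Fk r (e + e)) g₀ * x⁻¹) =
              x * (x⁻¹ * τ (x * ex p (Fk r (e + e)) g₀ * x⁻¹) * x) * x⁻¹ := by group
          _ = _ := by rw [← h6]) ⟨hg₀U, hg₀S⟩
    rw [hg₀] at h5
    have h6 : x * (x⁻¹ * g * x) * x⁻¹ = g := by group
    rwa [h6] at h5

end Main

end Cfsg.Agent.H321.Ker
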