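import Mathlib

/-!
# S2187, kernel row: the subfields of a finite field
-/

set_option autoImplicit false
set_option linter.unusedSectionVars false

namespace Cfsg.Agent.H321.Ker

variable {F : Type*} [Field F] (r : ℕ) [Fact r.Prime] [CharP F r]

/-- The fixed field of `x ↦ x^(r^k)`. -/
def Fk (k : ℕ) : Subfield F := RingHom.eqLocusField (iterateFrobenius F r k) (RingHom.id F)

variable {r}

theorem mem_Fk {k : ℕ} {x : F} : x ∈ (Fk r k : Subfield F) ↔ x ^ r ^ k = x := Iff.rfl

theorem card_Fk [Fintype F] {m k : ℕ} (hm : Fintype.card F = r ^ m) (hk : k ∣ m) (hk0 : 0 < k) :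
    Nat.card (Fk r k : Subfield F) = r ^ k := by
  classical
  have hr : 1 < r := (Fact.out : r.Prime).one_lt
  have h1 : 1 < r ^ k := Nat.one_lt_pow hk0.ne' hr
  set Q := r ^ k with hQ
  have hker : Nat.card (powMonoidHom (Q - 1) : Fˣ →* Fˣ).ker = Q - 1 := by
    rw [IsCyclic.card_powMonoidHom_ker, Nat.card_eq_fintype_card, Fintype.card_units, hm]
    exact Nat.gcd_eq_right (Nat.pow_sub_one_dvd_pow_sub_one r hk)
  have e : (Fk r k : Subfield F) ≃ Option (powMonoidHom (Q - 1) : Fˣ →* Fˣ).ker := by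
    refine
      { toFun := fun x => if h : x.1 = 0 then none else some ⟨Units.mk0 x.1 h, ?_⟩
        invFun := fun o => o.elim 0 (fun u => ⟨((u.1 : Fˣ) : F), ?_⟩)
        left_inv := fun x => ?_
        right_inv := fun o => ?_ }
    · rw [MonoidHom.mem_ker]
      ext
      simp only [powMonoidHom_apply, Units.val_pow_eq_pow_val, Units.val_mk0, Units.val_one]
      have : x.1 ^ (Q - 1) * x.1 = 1 * x.1 := by
        rw [← pow_succ, Nat.sub_add_cancel (by omega), hQ, mem_Fk.1 x.2, one_mul]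
      exact mul_right_cancel₀ h this
    · have := u.2
      rw [MonoidHom.mem_ker, powMonoidHom_apply] at this
      have h3 : ((u.1 : Fˣ) : F) ^ (Q - 1) = 1 := by
        rw [← Units.val_pow_eq_pow_val, this, Units.val_one]
      rw [mem_Fk, ← hQ]
      calc ((u.1 : Fˣ) : F) ^ Q = ((u.1 : Fˣ) : F) ^ (Q - 1 + 1) := by
            rw [Nat.sub_add_cancel (by omega)]
        _ = _ := by rw [pow_succ, h3, one_mul]
    · by_cases h : x.1 = 0
      · simp only [h, dite_true, Option.elim]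
        exact Subtype.ext h.symm
      · simp only [h, dite_false, Option.elim]
        exact Subtype.ext rfl
    · cases o with
      | none => simp
      | some u => simp
  rw [Nat.card_congr e, Finite.card_option, hker]
  omega

/-- A `p`-th root of unity lies in `Fk k` if `p ∣ r^k - 1`. -/
theorem mem_Fk_of_dvd {p k : ℕ} {ζ : F} (hζ : ζ ^ p = 1) (h : p ∣ r ^ k - 1) : ζ ∈ (Fk r k : Subfield F) := by
  have hr : 0 < r ^ k := pow_pos (Fact.out : r.Prime).pos k
  rw [mem_Fk]
  obtain ⟨m, hm⟩ := h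
  calc ζ ^ r ^ k = ζ ^ (r ^ k - 1 + 1) := by rw [Nat.sub_add_cancel hr]
    _ = ζ := by rw [hm, pow_succ, pow_mul, hζ, one_pow, one_mul]

theorem card_eq_pow [Fintype F] : ∃ m : ℕ, 0 < m ∧ Fintype.card F = r ^ m := by
  obtain ⟨m, hp, hm⟩ := FiniteField.card F r
  exact ⟨m, m.pos, hm⟩

/-- `p ∣ r^d - 1` iff the order of `r` modulo `p` divides `d`. -/
theorem dvd_pow_sub_one_iff {p : ℕ} (d : ℕ) : p ∣ r ^ d - 1 ↔ orderOf (r : ZMod p) ∣ d := by
  have hr : 0 < r ^ d := pow_pos (Fact.out : r.Prime).pos d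
  rw [← ZMod.natCast_eq_zero_iff, Nat.cast_sub hr, Nat.cast_pow, Nat.cast_one, sub_eq_zero,
    ← orderOf_dvd_iff_pow_eq_one]

end Cfsg.Agent.H321.Ker
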