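import Cfsg.Agent.H321.Ker.Descent
import Cfsg.Agent.H321.Ker.Tower
import Cfsg.Agent.H192.Lang
import Cfsg.Agent.ClassicalGeometry.HermOrthonormal
import Cfsg.Agent.ClassicalGeometry.GUBasic

/-!
# S2187, kernel row, algebraic form: Frobenius maps of `GL_n(k)`, `k` algebraically closed

`fr r e` : entrywise `r^e`-th power, `it` : inverse transpose.
* `lang_fr` : `D = x (fr x)⁻¹`, `lang_it` : `D = x (it (fr x))⁻¹` (Lang's theorem);
* `exists_ex` : the fixed points of `fr r e` are the matrices over `Fk r e`, `card_Fk_alg` : `|Fk r e| = r ^ e`;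
* `mem_GU_of_it` : the fixed points of `it ∘ fr r e` are the unitary matrices over `Fk r (2 * e)`.
-/

set_option autoImplicit false
set_option linter.unusedSectionVars false

namespace Cfsg.Agent.H321.Ker

open Cfsg Cfsg.Geo
open scoped MatrixGroups Matrix
open Cfsg.Agent.LieClassical.HermBasic

section Basic

variable {n : ℕ} [NeZero n] {k : Type*} [Field k]

/-- inverse transpose -/
def it : GL (Fin n) k →* GL (Fin n) k where
  toFun g := ⟨((g⁻¹ : GL (Fin n) k) : Matrix (Fin n) (Fin n) k)ᵀ, (g : Matrix (Fin n) (Fin n) k)ᵀ, by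
    rw [← Matrix.transpose_mul, ← Units.val_mul, mul_inv_cancel, Units.val_one, Matrix.transpose_one], by
    rw [← Matrix.transpose_mul, ← Units.val_mul, inv_mul_cancel, Units.val_one, Matrix.transpose_one]⟩
  map_one' := by
    apply Units.ext
    show (((1 : GL (Fin n) k)⁻¹ : GL (Fin n) k) : Matrix (Fin n) (Fin n) k)ᵀ = 1
    rw [inv_one, Units.val_one, Matrix.transpose_one]
  map_mul' g h := by
    apply Units.ext
    show (((g * h)⁻¹ : GL (Fin n) k) : Matrix (Fin n) (Fin n) k)ᵀ =
      ((g⁻¹ : GL (Fin n) k) : Matrix (Fin n) (Fin n) k)ᵀ * ((h⁻¹ : GL (Fin n) k) : Matrix (Fin n) (Fin n) k)ᵀ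
    rw [mul_inv_rev, Units.val_mul, Matrix.transpose_mul]

theorem it_coe (g : GL (Fin n) k) : (it g : Matrix (Fin n) (Fin n) k) =
    ((g⁻¹ : GL (Fin n) k) : Matrix (Fin n) (Fin n) k)ᵀ := rfl

theorem it_inv_coe (g : GL (Fin n) k) : ((it g)⁻¹ : GL (Fin n) k).1 = (g : Matrix (Fin n) (Fin n) k)ᵀ := rfl

theorem it_it (g : GL (Fin n) k) : it (it g) = g := by
  apply Units.ext
  rw [it_coe, it_inv_coe, Matrix.transpose_transpose]

theorem it_sc (z : kˣ) : it (sc n z) = sc n z⁻¹ := by
  apply Units.ext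
  rw [it_coe, ← sc_inv, sc_coe, Matrix.transpose_smul, Matrix.transpose_one]

theorem det_it {g : GL (Fin n) k} (hg : g ∈ specialLinear (Fin n) k) : it g ∈ specialLinear (Fin n) k := by
  have h1 := (specialLinear (Fin n) k).inv_mem hg
  rw [mem_SL_iff] at h1 ⊢
  rw [it_coe, Matrix.det_transpose, h1]

variable (r e : ℕ) [Fact r.Prime] [CharP k r]

/-- entrywise `r^e`-th power -/
def fr : GL (Fin n) k →* GL (Fin n) k := Matrix.GeneralLinearGroup.map (iterateFrobenius k r e)

variable {r e}

theorem fr_apply (g : GL (Fin n) k) (i j : Fin n) :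
    (fr r e g : Matrix (Fin n) (Fin n) k) i j = (g : Matrix (Fin n) (Fin n) k) i j ^ r ^ e := rfl

theorem fr_coe (g : GL (Fin n) k) :
    (fr r e g : Matrix (Fin n) (Fin n) k) = (g : Matrix (Fin n) (Fin n) k).map (· ^ r ^ e) := rfl

theorem fr_sc (z : kˣ) : fr r e (sc n z) = sc n (z ^ r ^ e) := by
  apply Units.ext
  ext i j
  have hq : r ^ e ≠ 0 := pow_ne_zero _ (Fact.out : r.Prime).ne_zero
  rw [fr_apply, sc_coe, sc_coe, Matrix.smul_apply, Matrix.smul_apply]
  by_cases h : i = j
  · subst h; simp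
  · rw [Matrix.one_apply_ne h, smul_zero, smul_zero, zero_pow hq]

theorem it_fr (g : GL (Fin n) k) : it (fr r e g) = fr r e (it g) := by
  apply Units.ext
  rw [it_coe, ← map_inv]
  rfl

theorem fr_fr (e' : ℕ) (g : GL (Fin n) k) : fr r e (fr r e' g) = fr r (e' + e) g := by
  apply Units.ext
  ext i j
  rw [fr_apply, fr_apply, fr_apply, pow_add, pow_mul]

theorem fr_SL {g : GL (Fin n) k} (hg : g ∈ specialLinear (Fin n) k) : fr r e g ∈ specialLinear (Fin n) k := by
  rw [mem_SL_iff] at hg ⊢
  have : (fr r e g : Matrix (Fin n) (Fin n) k) = (iterateFrobenius k r e).mapMatrix (g : Matrix (Fin n) (Fin n) k) := rfl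
  rw [this, ← RingHom.map_det, hg, map_one]

/-- The fixed points of `fr` are defined over `Fk`. -/
theorem exists_ex {g : GL (Fin n) k} (hg : fr r e g = g) : ∃ g₀ : GL (Fin n) (Fk r e : Subfield k),
    ex n (Fk r e) g₀ = g := by
  have h1 : ∀ {h : GL (Fin n) k}, fr r e h = h → ∀ i j, (h : Matrix (Fin n) (Fin n) k) i j ∈ (Fk r e : Subfield k) := by
    intro h hh i j
    rw [mem_Fk, ← fr_apply, hh]
  have hg' : fr r e g⁻¹ = g⁻¹ := by rw [map_inv, hg]
  have hmul : ∀ {a b : GL (Fin n) k} (ha : ∀ i j, (a : Matrix (Fin n) (Fin n) k) i j ∈ (Fk r e : Subfield k))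
      (hb : ∀ i j, (b : Matrix (Fin n) (Fin n) k) i j ∈ (Fk r e : Subfield k)), a * b = 1 →
      (Matrix.of fun i j => (⟨_, ha i j⟩ : (Fk r e : Subfield k))) *
        (Matrix.of fun i j => (⟨_, hb i j⟩ : (Fk r e : Subfield k))) = 1 := by
    intro a b ha hb hab
    ext i j
    have h2 : ((a * b : GL (Fin n) k) : Matrix (Fin n) (Fin n) k) i j = ((1 : GL (Fin n) k) : Matrix (Fin n) (Fin n) k) i j := by
      rw [hab]
    rw [Units.val_mul, Matrix.mul_apply, Units.val_one] at h2
    rw [Matrix.mul_apply]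
    push_cast
    simp only [Matrix.of_apply]
    rw [h2]
    by_cases hij : i = j
    · subst hij; simp
    · rw [Matrix.one_apply_ne hij, Matrix.one_apply_ne hij]; simp
  refine ⟨⟨Matrix.of fun i j => ⟨_, h1 hg i j⟩, Matrix.of fun i j => ⟨_, h1 hg' i j⟩,
    hmul _ _ (mul_inv_cancel g), hmul _ _ (inv_mul_cancel g)⟩, ?_⟩
  apply Units.ext
  ext i j
  rfl

theorem fr_ex (g₀ : GL (Fin n) (Fk r e : Subfield k)) : fr r e (ex n (Fk r e) g₀) = ex n (Fk r e) g₀ := by
  apply Units.ext
  ext i j
  rw [fr_apply, ex_apply]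
  exact mem_Fk.1 ((g₀ : Matrix (Fin n) (Fin n) (Fk r e : Subfield k)) i j).2

theorem ex_inj {F₀ : Subfield k} : Function.Injective (ex n F₀) := by
  intro a b h
  apply Units.ext
  ext i j
  have h1 : (ex n F₀ a : Matrix (Fin n) (Fin n) k) i j = (ex n F₀ b : Matrix (Fin n) (Fin n) k) i j := by rw [h]
  rw [ex_apply, ex_apply] at h1
  exact h1

theorem finite_Fk (he : 0 < e) : Finite (Fk r e : Subfield k) := by
  have hq : 1 < r ^ e := Nat.one_lt_pow he.ne' (Fact.out : r.Prime).one_lt
  have h1 : ((Fk r e : Subfield k) : Set k) ⊆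
      {x | (Polynomial.X ^ r ^ e - Polynomial.X : Polynomial k).IsRoot x} := by
    intro x hx
    simp only [Set.mem_ofPred_eq, Polynomial.IsRoot.def, Polynomial.eval_sub, Polynomial.eval_pow, Polynomial.eval_X]
    rw [sub_eq_zero]
    exact mem_Fk.1 hx
  exact (Polynomial.finite_setOfPred_isRoot (FiniteField.X_pow_card_sub_X_ne_zero k hq)).subset h1

theorem card_Fk_alg [IsAlgClosed k] (he : 0 < e) : Nat.card (Fk r e : Subfield k) = r ^ e := by
  classical
  have hq : 1 < r ^ e := Nat.one_lt_pow he.ne' (Fact.out : r.Prime).one_lt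
  have hfin := finite_Fk (k := k) (r := r) he
  apply le_antisymm
  · have hne := FiniteField.X_pow_card_sub_X_ne_zero k hq
    have h1 : ((Fk r e : Subfield k) : Set k) ⊆
        ((Polynomial.X ^ r ^ e - Polynomial.X : Polynomial k).roots.toFinset : Set k) := by
      intro x hx
      rw [Finset.mem_coe, Multiset.mem_toFinset, Polynomial.mem_roots hne, Polynomial.IsRoot.def, Polynomial.eval_sub,
        Polynomial.eval_pow, Polynomial.eval_X, sub_eq_zero]
      exact mem_Fk.1 hx
    have h2 : Nat.card (Fk r e : Subfield k) ≤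
        (Polynomial.X ^ r ^ e - Polynomial.X : Polynomial k).roots.toFinset.card := by
      rw [← Set.ncard_coe_finset]
      exact Set.ncard_le_ncard h1 (Finset.finite_toSet _)
    refine h2.trans ((Multiset.toFinset_card_le _).trans ((Polynomial.card_roots' _).trans ?_))
    rw [FiniteField.X_pow_card_sub_X_natDegree_eq k hq]
  · let _ : Algebra (ZMod r) k := ZMod.algebra k r
    let f : GaloisField r e →ₐ[ZMod r] k := IsAlgClosed.lift
    have h1 : Nat.card (GaloisField r e) = r ^ e := GaloisField.card r e he.ne'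
    rw [← h1]
    refine Nat.card_le_card_of_injective (fun x => (⟨f x, ?_⟩ : (Fk r e : Subfield k))) ?_
    · rw [mem_Fk, ← map_pow]
      congr 1
      have : Fintype (GaloisField r e) := Fintype.ofFinite _
      rw [← h1, Nat.card_eq_fintype_card]
      exact FiniteField.pow_card x
    · intro x y hxy
      exact f.injective (congrArg Subtype.val hxy)

end Basic

section Lang

variable {n : ℕ} [NeZero n] {k : Type*} [Field k] [IsAlgClosed k] {r e : ℕ} [Fact r.Prime] [CharP k r]

theorem lang_fr (he : 0 < e) (D : GL (Fin n) k) : ∃ x : GL (Fin n) k, D = x * (fr r e x)⁻¹ :=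
  Cfsg.Agent.H192.lang_gl r e he D

/-- The matrix equation of a Hermitian matrix over a finite field: `D = z (z^σ)ᵀ`. -/
theorem herm_std {F : Type*} [Field F] [Fintype F] {q : ℕ} (hF : Fintype.card F = q ^ 2)
    {D : GL (Fin n) F} (hD : ∀ i j, (D : Matrix (Fin n) (Fin n) F) i j ^ q = (D : Matrix (Fin n) (Fin n) F) j i) :
    ∃ W : GL (Fin n) F, (W : Matrix (Fin n) (Fin n) F)ᵀ * (D : Matrix (Fin n) (Fin n) F) *
      (W : Matrix (Fin n) (Fin n) F).map (· ^ q) = 1 := by
  classical
  obtain ⟨σ, hσ⟩ := Cfsg.Agent.ClassicalGeometry.GUBasic.exists_powHom hF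
  have hσσ : ∀ a, σ (σ a) = a := by
    intro a
    rw [hσ, hσ, ← pow_mul, ← sq, ← hF, FiniteField.pow_card]
  have hq := Cfsg.Agent.ClassicalGeometry.GUBasic.two_le hF
  have hσ1 : σ ≠ RingHom.id F := by
    intro h
    have h1 : ∀ x : F, x ^ q = x := fun x => by rw [← hσ, h]; rfl
    have hne := FiniteField.X_pow_card_sub_X_ne_zero F (show 1 < q by omega)
    have h2 : Fintype.card F ≤ (Polynomial.X ^ q - Polynomial.X : Polynomial F).roots.toFinset.card := by
      rw [← Finset.card_univ]
      refine Finset.card_le_card fun x _ => ?_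
      rw [Multiset.mem_toFinset, Polynomial.mem_roots hne, Polynomial.IsRoot.def, Polynomial.eval_sub,
        Polynomial.eval_pow, Polynomial.eval_X, sub_eq_zero]
      exact h1 x
    have h3 := h2.trans ((Multiset.toFinset_card_le _).trans (Polynomial.card_roots' _))
    rw [FiniteField.X_pow_card_sub_X_natDegree_eq F (show 1 < q by omega), hF] at h3
    nlinarith
  let B : (Fin n → F) →ₛₗ[σ] (Fin n → F) →ₗ[F] F :=
    LinearMap.mk₂'ₛₗ σ (RingHom.id F) (fun v u => ∑ i, ∑ j, u i * (D : Matrix (Fin n) (Fin n) F) i j * v j ^ q)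
      (by
        intro v v' u
        rw [← Finset.sum_add_distrib]
        refine Finset.sum_congr rfl fun i _ => ?_
        rw [← Finset.sum_add_distrib]
        refine Finset.sum_congr rfl fun j _ => ?_
        rw [Pi.add_apply, ← hσ, ← hσ, ← hσ, map_add]
        ring)
      (by
        intro c v u
        rw [smul_eq_mul, Finset.mul_sum]
        refine Finset.sum_congr rfl fun i _ => ?_
        rw [Finset.mul_sum]
        refine Finset.sum_congr rfl fun j _ => ?_
        rw [Pi.smul_apply, smul_eq_mul, mul_pow, ← hσ c]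
        ring)
      (by
        intro v u u'
        rw [← Finset.sum_add_distrib]
        refine Finset.sum_congr rfl fun i _ => ?_
        rw [← Finset.sum_add_distrib]
        refine Finset.sum_congr rfl fun j _ => ?_
        rw [Pi.add_apply]
        ring)
      (by
        intro c v u
        rw [RingHom.id_apply, smul_eq_mul, Finset.mul_sum]
        refine Finset.sum_congr rfl fun i _ => ?_
        rw [Finset.mul_sum]
        refine Finset.sum_congr rfl fun j _ => ?_
        rw [Pi.smul_apply, smul_eq_mul]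
        ring)
  have hB : ∀ v u, B v u = ∑ i, ∑ j, u i * (D : Matrix (Fin n) (Fin n) F) i j * v j ^ q := fun v u => rfl
  have hS : B.IsSymm := ⟨fun v u => by
    rw [hB, hB, map_sum]
    simp only [map_sum, map_mul]
    rw [Finset.sum_comm]
    refine Finset.sum_congr rfl fun i _ => Finset.sum_congr rfl fun j _ => ?_
    rw [← hσ (v i), hσσ, hσ, hσ, hD]
    ring⟩
  have hsep : B.SeparatingLeft := by
    intro v hv
    have h1 : (D : Matrix (Fin n) (Fin n) F) *ᵥ (fun j => v j ^ q) = 0 := by
      funext i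
      have := hv (Pi.single i 1)
      rw [hB, Finset.sum_eq_single i] at this
      · simp only [Pi.single_eq_same, one_mul] at this
        exact this
      · intro b _ hb
        simp [Pi.single_eq_of_ne hb]
      · simp
    have h2 : (fun j => v j ^ q) = 0 := by
      have h3 := congrArg (((D⁻¹ : GL (Fin n) F) : Matrix (Fin n) (Fin n) F) *ᵥ ·) h1
      simp only [Matrix.mulVec_mulVec, Matrix.mulVec_zero] at h3
      rwa [← Units.val_mul, inv_mul_cancel, Units.val_one, Matrix.one_mulVec] at h3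
    funext j
    exact pow_eq_zero_iff (show q ≠ 0 by omega) |>.1 (congrFun h2 j)
  obtain ⟨w, hw⟩ := Cfsg.Agent.ClassicalGeometry.HermOrthonormal.exists_orthonormal_family hσ1 hσσ B hS hsep n (by simp)
  have hW : (Matrix.of fun i a => w a i)ᵀ * (D : Matrix (Fin n) (Fin n) F) *
      (Matrix.of fun i a => w a i).map (· ^ q) = 1 := by
    ext a c
    rw [Matrix.mul_assoc, Matrix.mul_apply]
    have h1 := hw c a
    rw [hB] at h1
    have h2 : ∀ i, (Matrix.of fun i a => w a i)ᵀ a i * ((D : Matrix (Fin n) (Fin n) F) *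
        (Matrix.of fun i a => w a i).map (· ^ q)) i c =
        ∑ j, w a i * (D : Matrix (Fin n) (Fin n) F) i j * w c j ^ q := by
      intro i
      rw [Matrix.transpose_apply, Matrix.of_apply, Matrix.mul_apply, Finset.mul_sum]
      refine Finset.sum_congr rfl fun j _ => ?_
      rw [Matrix.map_apply, Matrix.of_apply, mul_assoc]
    rw [Finset.sum_congr rfl fun i _ => h2 i, h1, Matrix.one_apply]
    simp only [eq_comm]
  have hdet : IsUnit (Matrix.of fun i a => w a i : Matrix (Fin n) (Fin n) F).det := by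
    rw [isUnit_iff_ne_zero]
    intro h
    have h3 := congrArg Matrix.det hW
    rw [Matrix.det_mul, Matrix.det_mul, Matrix.det_transpose, h, zero_mul, zero_mul, Matrix.det_one] at h3
    exact zero_ne_one h3
  exact ⟨Matrix.GeneralLinearGroup.mk'' _ hdet, hW⟩

/-- **Lang's theorem** for `it ∘ fr`. -/
theorem lang_it (he : 0 < e) (D : GL (Fin n) k) : ∃ x : GL (Fin n) k, D = x * (it (fr r e x))⁻¹ := by
  have he2 : 0 < e + e := by omega
  set ct : GL (Fin n) k →* GL (Fin n) k := it.comp (fr r e) with hct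
  have hctct : ∀ g, ct (ct g) = fr r (e + e) g := by
    intro g
    show it (fr r e (it (fr r e g))) = _
    rw [← it_fr, it_it, fr_fr]
  obtain ⟨y, hy⟩ := lang_fr (r := r) he2 (D * ct D)
  set D' := y⁻¹ * D * ct y with hD'
  have h1 : D' * ct D' = 1 := by
    rw [hD', map_mul, map_mul, hctct, map_inv]
    calc y⁻¹ * D * ct y * ((ct y)⁻¹ * ct D * fr r (e + e) y) = y⁻¹ * (D * ct D) * fr r (e + e) y := by group
      _ = 1 := by rw [hy]; group
  have h2 : ct D' = D'⁻¹ := (inv_eq_of_mul_eq_one_right h1).symm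
  have h3 : fr r (e + e) D' = D' := by rw [← hctct, h2, map_inv, h2, inv_inv]
  obtain ⟨D₀, hD₀⟩ := exists_ex h3
  -- `D'` is Hermitian
  have h4 : ∀ i j, (D' : Matrix (Fin n) (Fin n) k) i j ^ r ^ e = (D' : Matrix (Fin n) (Fin n) k) j i := by
    intro i j
    have h5 : (ct D')⁻¹ = D' := by rw [h2, inv_inv]
    have h6 : ((ct D')⁻¹ : GL (Fin n) k).1 = (fr r e D' : Matrix (Fin n) (Fin n) k)ᵀ := it_inv_coe _
    rw [h5] at h6
    have h8 := congrFun (congrFun h6 j) i
    rw [Matrix.transpose_apply, fr_apply] at h8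
    exact h8.symm
  have := finite_Fk (k := k) (r := r) he2
  let _ : Fintype (Fk r (e + e) : Subfield k) := Fintype.ofFinite _
  have hcard : Fintype.card (Fk r (e + e) : Subfield k) = (r ^ e) ^ 2 := by
    rw [← Nat.card_eq_fintype_card, card_Fk_alg he2, ← pow_mul, mul_two]
  obtain ⟨W, hW⟩ := herm_std hcard (D := D₀) (by
    intro i j
    apply Subtype.ext
    have := h4 i j
    rw [← hD₀, ex_apply, ex_apply] at this
    exact this)
  set w := ex n (Fk r (e + e)) W with hw
  have h7 : (it w)⁻¹ * D' * fr r e w = 1 := by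
    apply Units.ext
    ext i j
    have h8 := congrArg Subtype.val (congrFun (congrFun hW i) j)
    rw [← hD₀, Units.val_mul, Units.val_mul, it_inv_coe]
    rw [Matrix.mul_apply] at h8 ⊢
    push_cast at h8
    rw [Units.val_one]
    have h9 : (((1 : Matrix (Fin n) (Fin n) (Fk r (e + e) : Subfield k)) i j : (Fk r (e + e) : Subfield k)) : k) =
        (1 : Matrix (Fin n) (Fin n) k) i j := by
      by_cases hij : i = j
      · subst hij; simp
      · rw [Matrix.one_apply_ne hij, Matrix.one_apply_ne hij]; rfl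
    rw [← h9, ← h8]
    refine Finset.sum_congr rfl fun a _ => ?_
    congr 1
    rw [Matrix.mul_apply, Matrix.mul_apply]
    push_cast
    rfl
  refine ⟨y * it w, ?_⟩
  have h10 : it (fr r e (it w)) = fr r e w := by rw [← it_fr, it_it]
  have h11 : it (fr r e (y * it w)) = ct y * fr r e w := by rw [map_mul, map_mul, h10]; rfl
  rw [h11]
  have h12 : D' = it w * (fr r e w)⁻¹ := by
    have := h7
    calc D' = it w * ((it w)⁻¹ * D' * fr r e w) * (fr r e w)⁻¹ := by group
      _ = _ := by rw [h7, mul_one]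
  calc D = y * D' * (ct y)⁻¹ := by rw [hD']; group
    _ = _ := by rw [h12]; group

/-- The fixed points of `it ∘ fr` are unitary. -/
theorem mem_GU_of_it {F₀ : Subfield k} {g₀ : GL (Fin n) F₀} (hg : it (fr r e (ex n F₀ g₀)) = ex n F₀ g₀) :
    g₀ ∈ GU n F₀ (r ^ e) := by
  have h1 : (ex n F₀ g₀ : Matrix (Fin n) (Fin n) k)ᵀ * (fr r e (ex n F₀ g₀) : Matrix (Fin n) (Fin n) k) = 1 := by
    have h2 : it (ex n F₀ g₀) = fr r e (ex n F₀ g₀) := by
      conv_lhs => rw [← hg]
      rw [it_it]
    rw [← h2, ← it_inv_coe, ← Units.val_mul, inv_mul_cancel, Units.val_one]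
  have h2 : (g₀ : Matrix (Fin n) (Fin n) F₀)ᵀ * (g₀ : Matrix (Fin n) (Fin n) F₀).map (· ^ r ^ e) = 1 := by
    ext i j
    have h3 := congrFun (congrFun h1 i) j
    rw [Matrix.mul_apply] at h3
    rw [Matrix.mul_apply]
    push_cast
    have h4 : (((1 : Matrix (Fin n) (Fin n) F₀) i j : F₀) : k) = (1 : Matrix (Fin n) (Fin n) k) i j := by
      by_cases hij : i = j
      · subst hij; simp
      · rw [Matrix.one_apply_ne hij, Matrix.one_apply_ne hij]; rfl
    rw [h4, ← h3]
    rfl
  have : CharP F₀ r := by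
    refine ⟨fun x => ?_⟩
    rw [← CharP.cast_eq_zero_iff k r x]
    constructor
    · intro h
      have := congrArg (fun z : F₀ => (z : k)) h
      simpa using this
    · intro h
      apply Subtype.ext
      simpa using h
  rw [mem_GU_iff]
  intro u v
  have h5 : ∀ (A : Matrix (Fin n) (Fin n) F₀) (v : Fin n → F₀),
      (fun i => (A *ᵥ v) i ^ r ^ e) = (A.map (· ^ r ^ e)) *ᵥ (fun i => v i ^ r ^ e) := by
    intro A v
    funext i
    have h6 : ∀ x : F₀, x ^ r ^ e = iterateFrobenius F₀ r e x := fun x => rfl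
    rw [h6, Matrix.mulVec, dotProduct, map_sum, Matrix.mulVec, dotProduct]
    refine Finset.sum_congr rfl fun j _ => ?_
    rw [map_mul]
    rfl
  have h7 : ∀ u v : Fin n → F₀, hermForm n F₀ (r ^ e) u v = u ⬝ᵥ (fun i => v i ^ r ^ e) := fun u v => rfl
  rw [h7, h7, h5, Matrix.dotProduct_mulVec, Matrix.vecMul_mulVec, ← Matrix.dotProduct_mulVec] at *
  rw [h2, Matrix.one_mulVec]

/-- Unitary matrices are fixed by `it ∘ fr`. -/
theorem it_of_mem_GU {F₀ : Subfield k} {g₀ : GL (Fin n) F₀} (hg : g₀ ∈ GU n F₀ (r ^ e)) :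
    it (fr r e (ex n F₀ g₀)) = ex n F₀ g₀ := by
  have hq : r ^ e ≠ 0 := pow_ne_zero _ (Fact.out : r.Prime).ne_zero
  have h1 := Cfsg.Agent.ClassicalGeometry.GUBasic.transpose_mul_map hq ((mem_GU_iff g₀).1 hg)
  have h2 : (it (ex n F₀ g₀))⁻¹ * fr r e (ex n F₀ g₀) = 1 := by
    apply Units.ext
    ext i j
    have h3 := congrArg Subtype.val (congrFun (congrFun h1 i) j)
    rw [Units.val_mul, it_inv_coe]
    rw [Matrix.mul_apply] at h3 ⊢
    push_cast at h3
    have h4 : (((1 : Matrix (Fin n) (Fin n) F₀) i j : F₀) : k) = (1 : Matrix (Fin n) (Fin n) k) i j := by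
      by_cases hij : i = j
      · subst hij; simp
      · rw [Matrix.one_apply_ne hij, Matrix.one_apply_ne hij]; rfl
    rw [Units.val_one, ← h4, ← h3]
    rfl
  have h3 : fr r e (ex n F₀ g₀) = it (ex n F₀ g₀) := (inv_mul_eq_one.1 h2).symm
  rw [h3, it_it]

end Lang

end Cfsg.Agent.H321.Ker
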