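import Cfsg.Agent.H321.Ker.Symp
import Cfsg.Agent.LieClassical.SLGen
import Cfsg.Agent.H918.UBase

/-!
# S2187, kernel row: passing from a subfield to the field
-/

set_option autoImplicit false
set_option linter.unusedSectionVars false

namespace Cfsg.Agent.H321.Ker

open Cfsg Cfsg.Geo
open scoped MatrixGroups Matrix

variable {n : ℕ} [NeZero n] {F : Type*} [Field F]

/-- Extension of scalars. -/
def ex (n : ℕ) (F₀ : Subfield F) : GL (Fin n) F₀ →* GL (Fin n) F := Matrix.GeneralLinearGroup.map (F₀.subtype : F₀ →+* F)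

theorem ex_apply (F₀ : Subfield F) (g : GL (Fin n) F₀) (i j : Fin n) :
    (ex n F₀ g : Matrix (Fin n) (Fin n) F) i j = ((g : Matrix (Fin n) (Fin n) F₀) i j : F) := rfl

theorem ex_coe (F₀ : Subfield F) (g : GL (Fin n) F₀) :
    (ex n F₀ g : Matrix (Fin n) (Fin n) F) = (g : Matrix (Fin n) (Fin n) F₀).map (F₀.subtype : F₀ →+* F) := rfl

theorem ex_not_scalar {F₀ : Subfield F} {g : GL (Fin n) F₀} (h : g ∉ scalars (Fin n) F₀) :
    ex n F₀ g ∉ scalars (Fin n) F := by
  intro hs
  apply h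
  obtain ⟨c, hc⟩ := (mem_scalars_iff _).1 hs
  have h0 : ((g : Matrix (Fin n) (Fin n) F₀) 0 0 : F) = c := by
    have := congrFun (congrFun hc 0) 0
    rw [ex_apply, Matrix.smul_apply, Matrix.one_apply_eq, smul_eq_mul, mul_one] at this
    exact this
  have h1 : (g : Matrix (Fin n) (Fin n) F₀) 0 0 ≠ 0 := by
    intro h1
    rw [h1] at h0
    exact c.ne_zero h0.symm
  rw [mem_scalars_iff]
  refine ⟨Units.mk0 _ h1, ?_⟩
  ext i j
  have := congrFun (congrFun hc i) j
  rw [ex_apply, Matrix.smul_apply, ← h0] at this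
  rw [this, Matrix.smul_apply]
  by_cases hij : i = j
  · subst hij; simp
  · simp [Matrix.one_apply_ne hij]

theorem ex_scalars {F₀ : Subfield F} {g : GL (Fin n) F₀} (h : g ∈ scalars (Fin n) F₀) :
    ex n F₀ g ∈ scalars (Fin n) F := by
  obtain ⟨c, hc⟩ := (mem_scalars_iff _).1 h
  rw [mem_scalars_iff]
  refine ⟨Units.map (F₀.subtype : F₀ →* F) c, ?_⟩
  rw [ex_coe, hc]
  ext i j
  by_cases hij : i = j
  · subst hij; simp
  · simp [Matrix.one_apply_ne hij]

theorem ex_Dm {F₀ : Subfield F} {ζ₀ : F₀ˣ} {ζ : Fˣ} (h : ((ζ₀ : F₀) : F) = ζ) : ex n F₀ (Dm n ζ₀) = Dm n ζ := by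
  apply Units.ext
  rw [ex_coe, Dm_coe, Dm_coe, Matrix.diagonal_map (map_zero _)]
  congr 1
  funext i
  simp [h]

theorem ex_Bm (F₀ : Subfield F) : ex n F₀ (Bm n 1) = Bm n 1 := by
  apply Units.ext
  ext i j
  rw [ex_apply, Bm_apply, Bm_apply]
  split_ifs <;> simp

theorem ex_Hs {F₀ : Subfield F} {ζ₀ : F₀ˣ} {ζ : Fˣ} (h : ((ζ₀ : F₀) : F) = ζ) {g : GL (Fin n) F₀}
    (hg : g ∈ Hs n ζ₀ 1) : ex n F₀ g ∈ Hs n ζ 1 := by
  have h1 : Hs n ζ₀ 1 ≤ (Hs n ζ 1).comap (ex n F₀) := by
    unfold Hs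
    refine sup_le ((Subgroup.closure_le _).2 ?_) ?_
    · rintro x (rfl | rfl)
      · rw [SetLike.mem_coe, Subgroup.mem_comap, ex_Dm h]; exact Dm_mem ζ 1
      · rw [SetLike.mem_coe, Subgroup.mem_comap, ex_Bm]; exact Bm_mem ζ 1
    · intro x hx
      rw [Subgroup.mem_comap]
      exact scalars_le_Hs ζ 1 (ex_scalars hx)
  exact h1 hg

theorem ex_Mc {F₀ : Subfield F} {ζ₀ : F₀ˣ} {ζ : Fˣ} (h : ((ζ₀ : F₀) : F) = ζ) {G₀ : Subgroup (GL (Fin n) F₀)}
    {G : Subgroup (GL (Fin n) F)} (hG : ∀ g ∈ G₀, ex n F₀ g ∈ G) {g : GL (Fin n) F₀} (hg : g ∈ Mc G₀ (Hs n ζ₀ 1)) :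
    ex n F₀ g ∈ Mc G (Hs n ζ 1) := by
  have h1 : Mc G₀ (Hs n ζ₀ 1) ≤ (Mc G (Hs n ζ 1)).comap (ex n F₀) := by
    refine (Subgroup.closure_le _).2 ?_
    rintro y ⟨hy, f, hf, hs, hc⟩
    refine mem_Mc (f := ex n F₀ f) (hG y hy) (ex_Hs h hf) (ex_not_scalar hs) ?_
    rw [← map_mul, hc, map_mul]
  exact h1 hg

theorem mem_SL_iff {g : GL (Fin n) F} : g ∈ specialLinear (Fin n) F ↔ (g : Matrix (Fin n) (Fin n) F).det = 1 :=
  Cfsg.Agent.H918.mem_specialLinear

theorem ex_SL {F₀ : Subfield F} {g : GL (Fin n) F₀} (hg : g ∈ specialLinear (Fin n) F₀) :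
    ex n F₀ g ∈ specialLinear (Fin n) F := by
  rw [mem_SL_iff] at hg ⊢
  rw [ex_coe, ← RingHom.mapMatrix_apply, ← RingHom.map_det, hg, map_one]

theorem toGL_transvection {i j : Fin n} (hij : i ≠ j) (c : F) :
    ((Matrix.SpecialLinearGroup.toGL (Matrix.SpecialLinearGroup.transvection hij c) : GL (Fin n) F) :
      Matrix (Fin n) (Fin n) F) = Matrix.transvection i j c := rfl

/-- A subgroup of `SL_n(F)`, `n ≥ 3`, containing the diagonal group and `SL_n(F₀)` is `SL_n(F)`. -/
theorem eq_SL_of_subfield (hn : 3 ≤ n) (F₀ : Subfield F) {M : Subgroup (GL (Fin n) F)}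
    (hM : M ≤ specialLinear (Fin n) F)
    (hT : ∀ g ∈ specialLinear (Fin n) F, (∃ d : Fin n → F, (g : Matrix (Fin n) (Fin n) F) = Matrix.diagonal d) → g ∈ M)
    (h₀ : ∀ g ∈ specialLinear (Fin n) F₀, ex n F₀ g ∈ M) : M = specialLinear (Fin n) F := by
  refine le_antisymm hM ?_
  have key : ∀ (i j : Fin n) (hij : i ≠ j) (c : F),
      Matrix.SpecialLinearGroup.toGL (Matrix.SpecialLinearGroup.transvection hij c) ∈ M := by
    intro i j hij c
    by_cases hc : c = 0
    · subst hc
      have : Matrix.SpecialLinearGroup.toGL (Matrix.SpecialLinearGroup.transvection hij (0 : F)) = 1 := by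
        apply Units.ext
        rw [toGL_transvection, Matrix.transvection_zero, Units.val_one]
      rw [this]; exact one_mem _
    obtain ⟨k, hki, hkj⟩ : ∃ k : Fin n, k ≠ i ∧ k ≠ j := by
      have : ((Finset.univ.erase i).erase j : Finset (Fin n)).Nonempty := by
        rw [← Finset.card_pos, Finset.card_erase_of_mem (by simp [hij.symm]), Finset.card_erase_of_mem (by simp)]
        simp; omega
      obtain ⟨k, hk⟩ := this
      exact ⟨k, by simp at hk; exact hk.2, by simp at hk; exact hk.1⟩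
    have h1 : Matrix.SpecialLinearGroup.toGL (Matrix.SpecialLinearGroup.transvection hij (1 : F)) ∈ M := by
      have := h₀ (Matrix.SpecialLinearGroup.toGL (Matrix.SpecialLinearGroup.transvection hij (1 : F₀)))
        (mem_SL_iff.2 (Matrix.SpecialLinearGroup.det_coe _))
      have h2 : ex n F₀ (Matrix.SpecialLinearGroup.toGL (Matrix.SpecialLinearGroup.transvection hij (1 : F₀))) =
          Matrix.SpecialLinearGroup.toGL (Matrix.SpecialLinearGroup.transvection hij (1 : F)) := by
        apply Units.ext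
        ext a b
        rw [ex_apply, toGL_transvection, toGL_transvection, Matrix.transvection, Matrix.transvection,
          Matrix.add_apply, Matrix.add_apply, Matrix.single_apply, Matrix.single_apply, Matrix.one_apply,
          Matrix.one_apply]
        push_cast
        split_ifs <;> simp
      rw [← h2]; exact this
    -- the diagonal matrix with `c` at `i` and `c⁻¹` at `k`
    let d : Fin n → F := fun a => if a = i then c else if a = k then c⁻¹ else 1
    let d' : Fin n → F := fun a => if a = i then c⁻¹ else if a = k then c else 1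
    have hdd : ∀ a, d a * d' a = 1 := by
      intro a
      simp only [d, d']
      split_ifs <;> simp [hc]
    have hdd' : ∀ a, d' a * d a = 1 := fun a => by rw [mul_comm, hdd]
    let g : GL (Fin n) F := ⟨Matrix.diagonal d, Matrix.diagonal d', by
      rw [Matrix.diagonal_mul_diagonal, ← Matrix.diagonal_one]; congr 1; funext a; exact hdd a, by
      rw [Matrix.diagonal_mul_diagonal, ← Matrix.diagonal_one]; congr 1; funext a; exact hdd' a⟩
    have hg : (g : Matrix (Fin n) (Fin n) F) = Matrix.diagonal d := rfl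
    have hg' : ((g⁻¹ : GL (Fin n) F) : Matrix (Fin n) (Fin n) F) = Matrix.diagonal d' := rfl
    have hgM : g ∈ M := by
      refine hT g ?_ ⟨d, hg⟩
      rw [mem_SL_iff, hg, Matrix.det_diagonal, ← Finset.mul_prod_erase _ _ (Finset.mem_univ i),
        ← Finset.mul_prod_erase _ _ (Finset.mem_erase.2 ⟨hki, Finset.mem_univ k⟩), Finset.prod_eq_one, mul_one]
      · simp [d, hki, hc]
      · intro a ha
        rw [Finset.mem_erase, Finset.mem_erase] at ha
        simp [d, ha.1, ha.2.1]
    have h3 : g * Matrix.SpecialLinearGroup.toGL (Matrix.SpecialLinearGroup.transvection hij (1 : F)) * g⁻¹ =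
        Matrix.SpecialLinearGroup.toGL (Matrix.SpecialLinearGroup.transvection hij c) := by
      apply Units.ext
      rw [Units.val_mul, Units.val_mul, hg, hg', toGL_transvection, toGL_transvection]
      ext a b
      rw [Matrix.mul_diagonal, Matrix.diagonal_mul, Matrix.transvection, Matrix.transvection,
        Matrix.add_apply, Matrix.add_apply, Matrix.single_apply, Matrix.single_apply, Matrix.one_apply]
      by_cases hab : a = b
      · subst hab
        have h4 : ¬ (i = a ∧ j = a) := by rintro ⟨rfl, h⟩; exact hij h.symm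
        rw [if_pos rfl, if_neg h4, if_neg h4, add_zero, mul_one, hdd]
      · rw [if_neg hab, zero_add, zero_add]
        by_cases h4 : i = a ∧ j = b
        · obtain ⟨rfl, rfl⟩ := h4
          simp [d, d', hkj.symm, hij.symm]
        · rw [if_neg h4, if_neg h4]; simp
    rw [← h3]
    exact M.mul_mem (M.mul_mem hgM h1) (M.inv_mem hgM)
  intro g hg
  have h5 : g ∈ (Matrix.SpecialLinearGroup.toGL (n := Fin n) (R := F)).range := by
    exact ⟨⟨g, mem_SL_iff.1 hg⟩, Units.ext rfl⟩
  rw [MonoidHom.range_eq_map, ← Cfsg.Agent.LieClassical.SLGen.closure_transvections, MonoidHom.map_closure] at h5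
  refine (Subgroup.closure_le M).2 ?_ h5
  rintro _ ⟨_, ⟨i, j, hij, c, rfl⟩, rfl⟩
  exact key i j hij c

end Cfsg.Agent.H321.Ker
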