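import Cfsg.Agent.H321.Ker.Unit
import Cfsg.Agent.H321.Ker.Tower

/-!
# S2187, kernel row: the induction over the subfields

The inputs (maximality of some subgroups of `SL_p(q)`, `SU_p(q)`, the extraspecial group, `SU_3(5)`) are collected in
structures; they are proved elsewhere.
-/

set_option autoImplicit false
set_option linter.unusedSectionVars false

universe u

namespace Cfsg.Agent.H321.Ker

open Cfsg Cfsg.Geo
open scoped MatrixGroups Matrix
open Cfsg.Agent.LieClassical.HermBasic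

/-- Maximality facts for `SL_p(q)`. -/
structure LinFacts (p : ℕ) : Prop where
  field : ∀ {F : Type u} [Field F] [Fintype F], (p = 3 → Fintype.card F ≠ 4) →
    ∀ K : Subalgebra F (Matrix (Fin p) (Fin p) F), IsFieldSubalgebra p K →
      IsMaximalIn (specialLinear (Fin p) F) (subalgebraNormalizer K ⊓ specialLinear (Fin p) F)
  symp : ∀ {F : Type u} [Field F] [Fintype F], ∀ R : Subgroup (GL (Fin p) F), IsLinearSymplecticTypeData p R →
      IsMaximalIn (specialLinear (Fin p) F) (subgroupNormalizer R ⊓ specialLinear (Fin p) F)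
  herm : ∀ {F : Type u} [Field F] [Fintype F], ∀ (σ : F ≃+* F) (f : (Fin p → F) → (Fin p → F) → F),
    IsUnitaryForm σ f → IsMaximalIn (specialLinear (Fin p) F) (similarityGroup f ⊓ specialLinear (Fin p) F)

/-- Maximality facts for `SU_p(q)`. -/
structure UniFacts (p : ℕ) : Prop where
  field : ∀ {F : Type u} [Field F] [Fintype F] (q : ℕ), Fintype.card F = q ^ 2 → (p = 3 → q ≠ 3 ∧ q ≠ 5) → 3 ≤ q →
    ∀ K : Subalgebra F (Matrix (Fin p) (Fin p) F), IsFieldSubalgebra p K → IsAdjointClosedFor (hermForm p F q) K →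
      IsMaximalIn (GU p F q ⊓ specialLinear (Fin p) F)
        (subalgebraNormalizer K ⊓ (GU p F q ⊓ specialLinear (Fin p) F))
  subf : ∀ {F : Type u} [Field F] [Fintype F] (q : ℕ), Fintype.card F = q ^ 2 → 3 ≤ q →
    ∀ (F₀ : Subfield F) (s : ℕ), s.Prime → Odd s → Fintype.card F = Nat.card F₀ ^ s →
      IsFormRationalStructure (hermForm p F q) F₀ 1 1 →
      IsMaximalIn (GU p F q ⊓ specialLinear (Fin p) F)
        (subfieldSubgroup F₀ 1 ⊓ (GU p F q ⊓ specialLinear (Fin p) F))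
  symp : ∀ {F : Type u} [Field F] [Fintype F] (q : ℕ), Fintype.card F = q ^ 2 → (p = 3 → q ≠ 2 ∧ q ≠ 5) →
    ∀ (R : Subgroup (GL (Fin p) F)) (r e : ℕ), IsSymplecticTypeGroup p R → ActsAbsolutelyIrreducibly (matrixSet R) →
      R ≤ GU p F q → p ≠ r → IsMinimalFieldFor p r e F → Nat.card R = p ^ 3 → Nat.card (Subgroup.center R) = p →
      IsMaximalIn (GU p F q ⊓ specialLinear (Fin p) F)
        (subgroupNormalizer R ⊓ (GU p F q ⊓ specialLinear (Fin p) F))

/-- The group `⟨diag(ζ^i), shift⟩`. -/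
def Rz (p : ℕ) [NeZero p] {F : Type*} [Field F] (ζ : Fˣ) : Subgroup (GL (Fin p) F) :=
  Subgroup.closure {Dm p ζ, Bm p 1}

/-- The facts on the extraspecial group `⟨diag(ζ^i), shift⟩`. -/
def HeisFacts (p : ℕ) [NeZero p] : Prop :=
  ∀ {F : Type u} [Field F] [Fintype F] (ζ : Fˣ), ζ ^ p = 1 → ζ ≠ 1 →
    IsSymplecticTypeGroup p (Rz p ζ) ∧ ActsAbsolutelyIrreducibly (matrixSet (Rz p ζ)) ∧
      Nat.card (Rz p ζ) = p ^ 3 ∧ Nat.card (Subgroup.center (Rz p ζ)) = p

/-- `SU_3(5)`. -/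
def SUThreeFive : Prop :=
  ∀ {F : Type u} [Field F] [Fintype F], Fintype.card F = 5 ^ 2 → ∀ (ζ β : Fˣ), ζ ^ 3 = 1 → ζ ≠ 1 → β ^ 6 = 1 →
    Mc (GU 3 F 5 ⊓ specialLinear (Fin 3) F) (Hs 3 ζ β) = GU 3 F 5 ⊓ specialLinear (Fin 3) F

end Cfsg.Agent.H321.Ker
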