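import Cfsg.Agent.H321.Ker.MainU
import Cfsg.Agent.S2540

/-!
# S2187, kernel row: `SL_p(q)`
-/

set_option autoImplicit false
set_option linter.unusedSectionVars false

universe u

namespace Cfsg.Agent.H321.Ker

open Cfsg Cfsg.Geo
open scoped MatrixGroups Matrix
open Cfsg.Agent.LieClassical.HermBasic
open Cfsg.Agent.H918 (SUg)

theorem SL_normal {F : Type*} [Field F] [Fintype F] {n : ℕ} (hn : 3 ≤ n) {N : Subgroup (GL (Fin n) F)}
    (hN : N ≤ specialLinear (Fin n) F) (hnorm : ∀ g ∈ specialLinear (Fin n) F, ∀ x ∈ N, g * x * g⁻¹ ∈ N) :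
    N ≤ scalars (Fin n) F ∨ N = specialLinear (Fin n) F := by
  rcases Cfsg.Agent.S2540.result n (by omega) (by omega) N (fun s g hg => hnorm _ (Cfsg.Agent.H918.mem_specialLinear.2 s.2) g hg) with h | h
  · left
    intro g hg
    obtain ⟨c, hc⟩ := h g hg
    rw [mem_scalars_iff]
    have hc0 : c ≠ 0 := by
      rintro rfl
      have h1 := Cfsg.Agent.H918.mem_specialLinear.1 (hN hg)
      have : Nonempty (Fin n) := ⟨⟨0, by omega⟩⟩
      rw [hc, zero_smul, Matrix.det_zero] at h1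
      exact zero_ne_one h1
    exact ⟨Units.mk0 c hc0, hc⟩
  · right
    refine le_antisymm hN fun g hg => h ⟨⟨g, Cfsg.Agent.H918.mem_specialLinear.1 hg⟩, Units.ext rfl⟩

theorem isUnitaryForm {F : Type*} [Field F] [Fintype F] {n q : ℕ} (hF : Fintype.card F = q ^ 2) :
    IsUnitaryForm (conj hF) (hermForm n F q) where
  ne_refl := by
    intro h
    obtain ⟨x, hx⟩ := exists_not_fixed hF
    apply hx
    have := congrArg (fun s : F ≃+* F => s x) h
    simpa [conj_apply] using this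
  involutive := fun a => by rw [conj_apply, conj_apply, pow_q_pow_q hF]
  add_left := fun x y v => herm_add_left x y v
  smul_left := fun c x v => herm_smul_left c x v
  herm := fun v w => by rw [conj_apply, ← herm_swap hF]
  nondegenerate := by
    intro v hv
    obtain ⟨x, hx⟩ := exists_herm_ne_zero hF hv
    refine ⟨⟨x, fun h => hx ?_⟩, ⟨x, hx⟩⟩
    exact herm_eq_zero_swap hF h

variable {p : ℕ} [Fact p.Prime] [NeZero p]

theorem four_lt_card {F : Type*} [Field F] [Fintype F] (hp2 : p ≠ 2) {ζ : Fˣ} (hζ : ζ ^ p = 1) (hζ1 : ζ ≠ 1)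
    (h7 : 7 ≤ p ∨ (2 : F) ≠ 0) : 4 < Fintype.card F := by
  have hp : p.Prime := Fact.out
  have hp3 : 3 ≤ p := by have := hp.two_le; omega
  have h1 := dvd_card_sub_one hζ hζ1
  have h2 : 1 < Fintype.card F := Fintype.one_lt_card
  have h3 := Nat.le_of_dvd (by omega) h1
  by_contra hlt
  have h4 : Fintype.card F = 4 := by omega
  have h5 : p = 3 := by omega
  rcases h7 with h7 | h7
  · omega
  · apply h7
    have h4' : ((Fintype.card F : ℕ) : F) = 0 := FiniteField.cast_card_eq_zero F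
    rw [h4] at h4'
    have h5 : (2 : F) ^ 2 = 0 := by
      have : (2 : F) ^ 2 = ((4 : ℕ) : F) := by norm_num
      rw [this, h4']
    exact pow_eq_zero_iff (by norm_num) |>.1 h5

theorem prime_ne_char {F : Type*} [Field F] [Fintype F] {ζ : Fˣ} (hζ : ζ ^ p = 1) (hζ1 : ζ ≠ 1) {r m : ℕ}
    (hm : Fintype.card F = r ^ m) : p ≠ r := by
  have hp : p.Prime := Fact.out
  rintro rfl
  have h5 := dvd_card_sub_one hζ hζ1
  rw [hm] at h5
  have hm0 : m ≠ 0 := by
    rintro rfl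
    rw [pow_zero] at hm
    have := Fintype.one_lt_card (α := F)
    omega
  have h6 : p ∣ p ^ m := dvd_pow_self p hm0
  have h7 : 0 < p ^ m := pow_pos hp.pos m
  have h8 := Nat.dvd_sub h6 h5
  rw [Nat.sub_sub_self h7] at h8
  exact hp.one_lt.ne' (Nat.dvd_one.1 h8)

/-- The case of the minimal field. -/
theorem SL_base (hp2 : p ≠ 2) (L : LinFacts.{u} p) (U : UniFacts.{u} p) (Hf : HeisFacts.{u} p)
    (S5 : p = 3 → SUThreeFive.{u})
    {F : Type u} [Field F] [Fintype F] {ζ : Fˣ} (hζ : ζ ^ p = 1) (hζ1 : ζ ≠ 1)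
    (h7 : 7 ≤ p ∨ (2 : F) ≠ 0) {r m : ℕ} [Fact r.Prime] [CharP F r]
    (hm : Fintype.card F = r ^ m) (hmin : orderOf (r : ZMod p) = m) :
    Mc (specialLinear (Fin p) F) (Hs p ζ 1) = specialLinear (Fin p) F := by
  have hp : p.Prime := Fact.out
  have hp3 : 3 ≤ p := by have := hp.two_le; omega
  have hodd : Odd p := hp.odd_of_ne_two hp2
  have hm0 : 0 < m := by
    rcases Nat.eq_zero_or_pos m with h | h
    · subst h
      rw [pow_zero] at hm
      have := Fintype.one_lt_card (α := F)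
      omega
    · exact h
  have hT : ∀ g ∈ specialLinear (Fin p) F, (∃ d : Fin p → F, (g : Matrix (Fin p) (Fin p) F) = Matrix.diagonal d) →
      g ∈ Mc (specialLinear (Fin p) F) (Hs p ζ 1) := by
    rintro g hg ⟨d, hd⟩
    exact mem_Mc_diag (by omega) hζ1 hg d hd
  rcases Nat.even_or_odd m with he | ho
  · obtain ⟨k, hk⟩ := he
    set q := r ^ k with hq
    have hF : Fintype.card F = q ^ 2 := by rw [hm, hk, hq, ← pow_mul]; congr 1; ring
    have hζq : ζ ^ (q + 1) = 1 := by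
      have h1 : p ∣ (q + 1) * (q - 1) := by
        classical
        rw [← card_units_eq hF, Nat.card_eq_fintype_card, Fintype.card_units]
        exact dvd_card_sub_one hζ hζ1
      rcases (hp.dvd_mul).1 h1 with h | h
      · exact orderOf_dvd_iff_pow_eq_one.1 (by rw [orderOf_zeta hζ hζ1]; exact h)
      · exfalso
        have h2 := Nat.le_of_dvd (by omega) ((dvd_pow_sub_one_iff k).1 h)
        omega
    have h1 := SU_split hp2 U Hf S5 _ hF hζ hζ1 hζq h7 rfl
    refine eq_SL_of_herm hF hp3 (three_le_q hF hζ hζ1 hζq h7) (L.herm _ _ (isUnitaryForm hF)) (Mc_le _ _) hT ?_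
    calc GU p F q ⊓ specialLinear (Fin p) F = Mc (SUg p F q) (Hs p ζ 1) := h1.symm
      _ ≤ _ := Mc_mono inf_le_right le_rfl
  · obtain ⟨h1, h2, h3, h4⟩ := Hf ζ hζ hζ1
    obtain ⟨c, hc3⟩ := exists_cube_ne_one (four_lt_card hp2 hζ hζ1 h7)
    have hdata : IsLinearSymplecticTypeData p (Rz p ζ) := by
      refine ⟨h1, h2, r, m, prime_ne_char hζ hζ1 hm, ?_, Or.inl ⟨hodd, ho, h4, 1, le_rfl, h3⟩⟩
      rw [h4]
      exact isMinimalFieldFor hm hmin
    exact Mc_eq_of_symp hp3 hodd hζ hζ1 (L.symp _ hdata) (fun N hN hnorm => SL_normal hp3 hN hnorm) hc3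
      (tor_mem_SL (by omega) c)

/-- **Split case**: `Mc = SL_p(q)` if `β = 1`. -/
theorem SL_split (hp2 : p ≠ 2) (L : LinFacts.{u} p) (U : UniFacts.{u} p) (Hf : HeisFacts.{u} p)
    (S5 : p = 3 → SUThreeFive.{u})
    {F : Type u} [Field F] [Fintype F] {ζ : Fˣ} (hζ : ζ ^ p = 1) (hζ1 : ζ ≠ 1) (h7 : 7 ≤ p ∨ (2 : F) ≠ 0) :
    Mc (specialLinear (Fin p) F) (Hs p ζ 1) = specialLinear (Fin p) F := by
  have hp : p.Prime := Fact.out
  have hp3 : 3 ≤ p := by have := hp.two_le; omega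
  obtain ⟨r, hchar⟩ := CharP.exists F
  have hr : Fact r.Prime := ⟨CharP.char_is_prime F r⟩
  obtain ⟨m, hm0, hm⟩ := card_eq_pow (F := F) (r := r)
  set e := orderOf (r : ZMod p) with he
  have hem : e ∣ m := (dvd_pow_sub_one_iff m).1 (hm ▸ dvd_card_sub_one hζ hζ1)
  have he0 : 0 < e := Nat.pos_of_ne_zero (by rintro h; rw [h, zero_dvd_iff] at hem; omega)
  set F₀ : Subfield F := Fk r e with hF₀def
  have : Fintype F₀ := Fintype.ofFinite _
  have hcard : Fintype.card F₀ = r ^ e := by rw [← Nat.card_eq_fintype_card]; exact card_Fk hm hem he0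
  have hζF₀ : (ζ : F) ∈ F₀ := by
    refine mem_Fk_of_dvd (p := p) (by rw [← Units.val_pow_eq_pow_val, hζ, Units.val_one]) ?_
    exact (dvd_pow_sub_one_iff e).2 dvd_rfl
  let ζ₀ : F₀ˣ := Units.mk0 ⟨(ζ : F), hζF₀⟩ (fun h => ζ.ne_zero (congrArg (fun z : F₀ => (z : F)) h))
  have hζ₀c : ((ζ₀ : F₀) : F) = ζ := rfl
  have hζ₀ : ζ₀ ^ p = 1 := by
    apply Units.ext
    apply Subtype.ext
    push_cast
    rw [hζ₀c, ← Units.val_pow_eq_pow_val, hζ, Units.val_one]
  have hζ₀1 : ζ₀ ≠ 1 := by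
    intro h
    apply hζ1
    apply Units.ext
    rw [← hζ₀c, h]
    simp
  have h7' : 7 ≤ p ∨ (2 : F₀) ≠ 0 := by
    rcases h7 with h | h
    · exact Or.inl h
    · refine Or.inr fun h2 => h ?_
      have := congrArg (fun z : F₀ => (z : F)) h2
      push_cast at this
      exact this
  have hM₀ := SL_base hp2 L U Hf S5 hζ₀ hζ₀1 h7' hcard he.symm
  refine eq_SL_of_subfield hp3 F₀ (Mc_le _ _) ?_ ?_
  · rintro g hg ⟨d, hd⟩
    exact mem_Mc_diag (by omega) hζ1 hg d hd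
  · intro g hg
    exact ex_Mc (ζ₀ := ζ₀) hζ₀c (G₀ := specialLinear (Fin p) F₀) (fun x hx => ex_SL hx) (by rw [hM₀]; exact hg)

/-- **Nonsplit case**: `Mc = SL_p(q)` if `β` is not a `p`-th power. -/
theorem SL_nonsplit (hp2 : p ≠ 2) (L : LinFacts.{u} p)
    {F : Type u} [Field F] [Fintype F] {ζ β : Fˣ} (hζ : ζ ^ p = 1) (hζ1 : ζ ≠ 1)
    (hβp : ∀ x : Fˣ, x ^ p ≠ β) (h7 : 7 ≤ p ∨ (2 : F) ≠ 0) :
    Mc (specialLinear (Fin p) F) (Hs p ζ β) = specialLinear (Fin p) F := by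
  have hp : p.Prime := Fact.out
  have hp3 : 3 ≤ p := by have := hp.two_le; omega
  have hodd : Odd p := hp.odd_of_ne_two hp2
  have h4 := four_lt_card hp2 hζ hζ1 h7
  have hβ' : ∀ x : F, x ^ p ≠ β := by
    intro x hx
    have hx0 : x ≠ 0 := by
      rintro rfl
      rw [zero_pow hp.ne_zero] at hx
      exact β.ne_zero hx.symm
    exact hβp (Units.mk0 x hx0) (Units.ext (by rw [Units.val_pow_eq_pow_val, Units.val_mk0, hx]))
  obtain ⟨c, hc3⟩ := exists_cube_ne_one h4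
  exact Mc_eq_of_field hp hp3 hodd hζ hζ1 hβ' (Dm_mem_SL hodd hζ)
    (L.field (fun _ => by omega) (Kf p β) (isField_Kf hp hβ')) (fun N hN hnorm => SL_normal hp3 hN hnorm) hc3
    (tor_mem_SL (by omega) c)

end Cfsg.Agent.H321.Ker
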