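import Cfsg.Agent.H321.Ker.Main

/-!
# S2187, kernel row: `SU_p(q)`
-/

set_option autoImplicit false
set_option linter.unusedSectionVars false

universe u

namespace Cfsg.Agent.H321.Ker

open Cfsg Cfsg.Geo
open scoped MatrixGroups Matrix
open Cfsg.Agent.LieClassical.HermBasic
open Cfsg.Agent.H918 (SUg)

section Small

variable {F : Type*} [Field F] [Fintype F] {q : ℕ}

theorem exists_orderOf_eq {d : ℕ} (hd : d ∣ Nat.card Fˣ) : ∃ c : Fˣ, orderOf c = d := by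
  obtain ⟨g, hg⟩ := IsCyclic.exists_generator (α := Fˣ)
  have h1 : orderOf g = Nat.card Fˣ := orderOf_eq_card_of_forall_mem_zpowers hg
  obtain ⟨k, hk⟩ := hd
  have hpos : 0 < Nat.card Fˣ := Nat.card_pos
  refine ⟨g ^ k, ?_⟩
  rw [orderOf_pow' _ (by rintro rfl; rw [mul_zero] at hk; omega), h1, hk, Nat.gcd_mul_left_left, Nat.mul_div_cancel]
  exact Nat.pos_of_ne_zero (by rintro rfl; rw [mul_zero] at hk; omega)

theorem exists_norm_one_cube (hF : Fintype.card F = q ^ 2) (hq : 3 ≤ q) : ∃ c : Fˣ, c ^ (q + 1) = 1 ∧ c ^ 3 ≠ 1 := by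
  obtain ⟨c, hc⟩ := exists_orderOf_eq (F := F) (d := q + 1) ⟨q - 1, card_units_eq hF⟩
  refine ⟨c, by rw [← hc, pow_orderOf_eq_one], fun h => ?_⟩
  have := Nat.le_of_dvd (by norm_num) (hc ▸ orderOf_dvd_of_pow_eq_one h)
  omega

theorem exists_cube_ne_one (h : 4 < Fintype.card F) : ∃ c : Fˣ, c ^ 3 ≠ 1 := by
  obtain ⟨c, hc⟩ := exists_orderOf_eq (F := F) (d := Nat.card Fˣ) dvd_rfl
  refine ⟨c, fun h3 => ?_⟩
  classical
  have := Nat.le_of_dvd (by norm_num) (hc ▸ orderOf_dvd_of_pow_eq_one h3)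
  rw [Nat.card_eq_fintype_card, Fintype.card_units] at this
  omega

variable {p : ℕ} [Fact p.Prime]

theorem orderOf_zeta {ζ : Fˣ} (hζ : ζ ^ p = 1) (hζ1 : ζ ≠ 1) : orderOf ζ = p := orderOf_eq_prime hζ hζ1

theorem dvd_card_sub_one {ζ : Fˣ} (hζ : ζ ^ p = 1) (hζ1 : ζ ≠ 1) : p ∣ Fintype.card F - 1 := by
  classical
  rw [← orderOf_zeta hζ hζ1, ← Fintype.card_units]
  exact orderOf_dvd_card

theorem three_le_q (hF : Fintype.card F = q ^ 2) {ζ : Fˣ} (hζ : ζ ^ p = 1) (hζ1 : ζ ≠ 1)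
    (hq : ζ ^ (q + 1) = 1) (h7 : 7 ≤ p ∨ (2 : F) ≠ 0) : 3 ≤ q := by
  have h2 := two_le hF
  by_contra hlt
  obtain rfl : q = 2 := by omega
  have h1 : p ∣ 3 := by rw [← orderOf_zeta hζ hζ1]; exact orderOf_dvd_of_pow_eq_one hq
  have h3 : p = 3 := (Nat.prime_dvd_prime_iff_eq Fact.out Nat.prime_three).1 h1
  rcases h7 with h7 | h7
  · omega
  · apply h7
    have h4 : ((Fintype.card F : ℕ) : F) = 0 := FiniteField.cast_card_eq_zero F
    rw [hF] at h4
    have h5 : (2 : F) ^ 2 = 0 := by exact_mod_cast h4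
    exact pow_eq_zero_iff (by norm_num) |>.1 h5

end Small

/-- Extension of scalars maps `GU_n(q₀)` into `GU_n(q)`. -/
theorem ex_GU {n : ℕ} [NeZero n] {F : Type*} [Field F] [Fintype F] {q : ℕ} (hF : Fintype.card F = q ^ 2)
    (F₀ : Subfield F) [Fintype F₀] {q₀ : ℕ} (hF₀ : Fintype.card F₀ = q₀ ^ 2)
    (hpow : ∀ x : F₀, (x : F) ^ q = ((x ^ q₀ : F₀) : F)) {g : GL (Fin n) F₀} (hg : g ∈ GU n F₀ q₀) :
    ex n F₀ g ∈ GU n F q := by
  rw [mem_GU_iff] at hg ⊢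
  have key : ∀ i j : Fin n, hermForm n F q ((ex n F₀ g : Matrix (Fin n) (Fin n) F) *ᵥ Pi.single i 1)
      ((ex n F₀ g : Matrix (Fin n) (Fin n) F) *ᵥ Pi.single j 1) = if i = j then 1 else 0 := by
    intro i j
    have h1 := hg (Pi.single i 1) (Pi.single j 1)
    rw [herm_single_right hF₀, one_pow, mul_one, Pi.single_apply, Matrix.mulVec_single_one,
      Matrix.mulVec_single_one, herm_def] at h1
    rw [Matrix.mulVec_single_one, Matrix.mulVec_single_one, herm_def]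
    have h2 := congrArg (fun z : F₀ => (z : F)) h1
    push_cast at h2
    calc _ = ∑ x, (((g : Matrix (Fin n) (Fin n) F₀).col i x : F₀) : F) *
        (((g : Matrix (Fin n) (Fin n) F₀).col j x : F₀) : F) ^ q₀ := by
          refine Finset.sum_congr rfl fun x _ => ?_
          rw [Matrix.col_apply, Matrix.col_apply, ex_apply, ex_apply, hpow]
          push_cast
          rfl
      _ = _ := by
        rw [h2]
        by_cases hij : i = j
        · subst hij; simp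
        · rw [if_neg (Ne.symm hij), if_neg hij]; simp
  intro u v
  have hu : (ex n F₀ g : Matrix (Fin n) (Fin n) F) *ᵥ u = ∑ i, u i • ((ex n F₀ g : Matrix (Fin n) (Fin n) F) *ᵥ Pi.single i 1) := by
    conv_lhs => rw [pi_eq_sum_univ' u]
    rw [Matrix.mulVec_sum]
    refine Finset.sum_congr rfl fun i _ => ?_
    rw [Matrix.mulVec_smul]
  have hv : (ex n F₀ g : Matrix (Fin n) (Fin n) F) *ᵥ v = ∑ i, v i • ((ex n F₀ g : Matrix (Fin n) (Fin n) F) *ᵥ Pi.single i 1) := by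
    conv_lhs => rw [pi_eq_sum_univ' v]
    rw [Matrix.mulVec_sum]
    refine Finset.sum_congr rfl fun i _ => ?_
    rw [Matrix.mulVec_smul]
  rw [hu, hv, herm_sum_left, herm_def]
  refine Finset.sum_congr rfl fun i _ => ?_
  rw [herm_smul_left, herm_sum_right hF, Finset.sum_eq_single i]
  · rw [herm_smul_right, key, if_pos rfl, mul_one]
  · intro j _ hj
    rw [herm_smul_right, key, if_neg (Ne.symm hj), mul_zero]
  · intro h; exact absurd (Finset.mem_univ i) h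

variable {p : ℕ} [Fact p.Prime] [NeZero p]

theorem Rz_le_GU {F : Type*} [Field F] {q : ℕ} {ζ : Fˣ} (hq : ζ ^ (q + 1) = 1) : Rz p ζ ≤ GU p F q := by
  unfold Rz
  refine (Subgroup.closure_le _).2 ?_
  rintro x (rfl | rfl)
  · exact Dm_mem_GU hq
  · exact Bm_mem_GU (by simp)

theorem isMinimalFieldFor {F : Type*} [Field F] [Fintype F] {r m : ℕ} [Fact r.Prime] [CharP F r]
    (hm : Fintype.card F = r ^ m) (hmin : orderOf (r : ZMod p) = m) : IsMinimalFieldFor p r m F := by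
  refine ⟨Fact.out, inferInstance, hm, (dvd_pow_sub_one_iff m).2 hmin.dvd, fun d hd hdm h => ?_⟩
  have := Nat.le_of_dvd hd (hmin ▸ (dvd_pow_sub_one_iff d).1 h)
  omega

/-- The case of the minimal field. -/
theorem SU_base (hp2 : p ≠ 2) (U : UniFacts.{u} p) (Hf : HeisFacts.{u} p) (S5 : p = 3 → SUThreeFive.{u})
    {F : Type u} [Field F] [Fintype F] {q : ℕ} (hF : Fintype.card F = q ^ 2) {ζ : Fˣ} (hζ : ζ ^ p = 1) (hζ1 : ζ ≠ 1)
    (hq : ζ ^ (q + 1) = 1) (h7 : 7 ≤ p ∨ (2 : F) ≠ 0) {r m : ℕ} [Fact r.Prime] [CharP F r]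
    (hm : Fintype.card F = r ^ m) (hmin : orderOf (r : ZMod p) = m) : Mc (SUg p F q) (Hs p ζ 1) = SUg p F q := by
  have hp : p.Prime := Fact.out
  have hp3 : 3 ≤ p := by have := hp.two_le; omega
  have hodd : Odd p := hp.odd_of_ne_two hp2
  have hq3 := three_le_q hF hζ hζ1 hq h7
  by_cases h35 : p = 3 ∧ q = 5
  · obtain ⟨rfl, rfl⟩ := h35
    exact S5 rfl hF ζ 1 hζ hζ1 (one_pow _)
  · obtain ⟨h1, h2, h3, h4⟩ := Hf ζ hζ hζ1
    obtain ⟨c, hc, hc3⟩ := exists_norm_one_cube hF hq3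
    have hpr : p ≠ r := by
      rintro rfl
      have h5 := dvd_card_sub_one hζ hζ1
      rw [hm] at h5
      have hm0 : m ≠ 0 := by
        rintro rfl
        rw [pow_zero] at hm
        have := Fintype.one_lt_card (α := F)
        omega
      have h6 : p ∣ p ^ m := dvd_pow_self p hm0
      have h7 : 0 < p ^ m := pow_pos hp.pos m
      have h8 := Nat.dvd_sub h6 h5
      rw [Nat.sub_sub_self h7] at h8
      exact hp.one_lt.ne' (Nat.dvd_one.1 h8)
    have hmax := U.symp q hF (fun h => ⟨by omega, fun h' => h35 ⟨h, h'⟩⟩) (Rz p ζ) r m h1 h2 (Rz_le_GU hq) hpr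
      (isMinimalFieldFor hm hmin) h3 h4
    refine Mc_eq_of_symp hp3 hodd hζ hζ1 hmax ?_ hc3 ⟨tor_mem_GU hc, tor_mem_SL (by omega) c⟩
    intro N hN hnorm
    exact Cfsg.Agent.H918.SUg_normal hF hp3 (fun h => by omega) hN hnorm

/-- `x ↦ x^q` on the subfield of index `s`, `s` odd. -/
theorem pow_q_of_odd {F : Type*} [Field F] {x : F} {q q₀ s : ℕ} (hs : Odd s) (hq : q = q₀ ^ s) (hx : x ^ (q₀ ^ 2) = x) :
    x ^ q = x ^ q₀ := by
  obtain ⟨t, rfl⟩ := hs
  have h1 : ∀ t : ℕ, x ^ ((q₀ ^ 2) ^ t) = x := by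
    intro t
    induction t with
    | zero => simp
    | succ t ih => rw [pow_succ, pow_mul, ih, hx]
  rw [hq, pow_succ, pow_mul q₀, pow_mul, h1]

/-- **Split case**: `Mc = SU_p(q)` if `β = 1`. -/
theorem SU_split (hp2 : p ≠ 2) (U : UniFacts.{u} p) (Hf : HeisFacts.{u} p) (S5 : p = 3 → SUThreeFive.{u}) (N : ℕ) :
    ∀ {F : Type u} [Field F] [Fintype F] {q : ℕ} (_ : Fintype.card F = q ^ 2) {ζ : Fˣ} (_ : ζ ^ p = 1) (_ : ζ ≠ 1)
    (_ : ζ ^ (q + 1) = 1) (_ : 7 ≤ p ∨ (2 : F) ≠ 0) (_ : Fintype.card F = N),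
    Mc (SUg p F q) (Hs p ζ 1) = SUg p F q := by
  induction N using Nat.strong_induction_on with
  | _ N ih =>
  intro F _ _ q hF ζ hζ hζ1 hq h7 hN
  have hp : p.Prime := Fact.out
  have hp3 : 3 ≤ p := by have := hp.two_le; omega
  have hq3 := three_le_q hF hζ hζ1 hq h7
  obtain ⟨r, hchar⟩ := CharP.exists F
  have hr : Fact r.Prime := ⟨CharP.char_is_prime F r⟩
  obtain ⟨m, hm0, hm⟩ := card_eq_pow (F := F) (r := r)
  set e := orderOf (r : ZMod p) with he
  have hem : e ∣ m := (dvd_pow_sub_one_iff m).1 (hm ▸ dvd_card_sub_one hζ hζ1)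
  by_cases heq : e = m
  · exact SU_base hp2 U Hf S5 hF hζ hζ1 hq h7 hm heq
  -- a subfield of prime index
  obtain ⟨t, ht⟩ := hem
  have ht1 : t ≠ 1 := by rintro rfl; exact heq (by rw [ht, mul_one])
  have ht0 : 0 < t := Nat.pos_of_ne_zero (by rintro rfl; rw [mul_zero] at ht; omega)
  have he0 : 0 < e := Nat.pos_of_ne_zero (by rintro h; rw [h, zero_mul] at ht; omega)
  set s := t.minFac with hs
  have hsp : s.Prime := Nat.minFac_prime ht1
  obtain ⟨t', ht'⟩ := Nat.minFac_dvd t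
  rw [← hs] at ht'
  -- `q = r^f`, `m = 2 f`
  have hqr : ∃ f, q = r ^ f := by
    have h1 : q ∣ r ^ m := by rw [← hm, hF]; exact Dvd.intro_left q (by ring)
    obtain ⟨f, -, hf⟩ := (Nat.dvd_prime_pow hr.out).1 h1
    exact ⟨f, hf⟩
  obtain ⟨f, hf⟩ := hqr
  have hmf : m = 2 * f := by
    have : r ^ m = r ^ (2 * f) := by rw [← hm, hF, hf, ← pow_mul, mul_comm]
    exact Nat.pow_right_injective hr.out.two_le this
  -- `e` does not divide `f`
  have hef : ¬ e ∣ f := by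
    intro h
    have h1 : p ∣ q - 1 := by rw [hf]; exact (dvd_pow_sub_one_iff f).2 h
    have h2 : p ∣ q + 1 := by rw [← orderOf_zeta hζ hζ1]; exact orderOf_dvd_of_pow_eq_one hq
    have h3 := Nat.dvd_sub h2 h1
    have h4 : q + 1 - (q - 1) = 2 := by omega
    rw [h4] at h3
    have := Nat.le_of_dvd (by norm_num) h3
    omega
  have htodd : Odd t := by
    rw [← Nat.not_even_iff_odd]
    rintro ⟨a, ha⟩
    apply hef
    refine ⟨a, ?_⟩
    have : 2 * f = 2 * (e * a) := by rw [← hmf, ht, ha]; ring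
    omega
  have hsodd : Odd s := htodd.of_dvd_nat (Nat.minFac_dvd t)
  set k := e * t' with hk
  have hmk : m = k * s := by rw [ht, ht', hk]; ring
  have hk0 : 0 < k := Nat.pos_of_ne_zero (by rintro h; rw [h, zero_mul] at hmk; omega)
  have hkm : k ∣ m := ⟨s, hmk⟩
  have hkeven : Even k := by
    have h1 : Even (k * s) := by rw [← hmk, hmf]; exact even_two_mul f
    rcases Nat.even_mul.1 h1 with h | h
    · exact h
    · exact absurd h (Nat.not_even_iff_odd.2 hsodd)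
  obtain ⟨k', hk'⟩ := hkeven
  set q₀ := r ^ k' with hq₀
  have hqq : q = q₀ ^ s := by
    rw [hf, hq₀, ← pow_mul]
    congr 1
    have : 2 * f = 2 * (k' * s) := by rw [← hmf, hmk, hk']; ring
    omega
  have hq₀1 : 1 < q₀ := Nat.one_lt_pow (by omega) hr.out.one_lt
  have hs3 : 3 ≤ s := by
    have := hsp.two_le
    rcases hsodd with ⟨a, ha⟩
    omega
  have hrk : r ^ k = q₀ ^ 2 := by rw [hk', hq₀, ← pow_mul]; congr 1; ring
  -- the subfield
  set F₀ : Subfield F := Fk r k with hF₀def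
  have : Fintype F₀ := Fintype.ofFinite _
  have hcardN : Nat.card F₀ = r ^ k := card_Fk hm hkm hk0
  have hF₀ : Fintype.card F₀ = q₀ ^ 2 := by rw [← Nat.card_eq_fintype_card, hcardN, hrk]
  have hpow : ∀ x : F₀, (x : F) ^ q = ((x ^ q₀ : F₀) : F) := by
    intro x
    rw [pow_q_of_odd hsodd hqq (by rw [← hrk]; exact mem_Fk.1 x.2)]
    push_cast
    rfl
  have hζF₀ : (ζ : F) ∈ F₀ := by
    refine mem_Fk_of_dvd (p := p) (by rw [← Units.val_pow_eq_pow_val, hζ, Units.val_one]) ?_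
    exact (dvd_pow_sub_one_iff k).2 ⟨t', hk⟩
  let ζ₀ : F₀ˣ := Units.mk0 ⟨(ζ : F), hζF₀⟩ (fun h => ζ.ne_zero (congrArg (fun z : F₀ => (z : F)) h))
  have hζ₀c : ((ζ₀ : F₀) : F) = ζ := rfl
  have hinj : ∀ {x y : F₀ˣ}, ((x : F₀) : F) = ((y : F₀) : F) → x = y := fun h => Units.ext (Subtype.ext h)
  have hζ₀ : ζ₀ ^ p = 1 := by
    apply hinj
    push_cast
    rw [hζ₀c, ← Units.val_pow_eq_pow_val, hζ, Units.val_one]
  have hζ₀1 : ζ₀ ≠ 1 := by
    intro h
    apply hζ1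
    apply Units.ext
    rw [← hζ₀c, h]
    simp
  have hζ₀q : ζ₀ ^ (q₀ + 1) = 1 := by
    apply hinj
    push_cast
    rw [pow_succ]
    have := hpow ζ₀
    push_cast at this
    rw [← this, hζ₀c, ← pow_succ, ← Units.val_pow_eq_pow_val, hq, Units.val_one]
  have h7' : 7 ≤ p ∨ (2 : F₀) ≠ 0 := by
    rcases h7 with h | h
    · exact Or.inl h
    · refine Or.inr fun h2 => h ?_
      have := congrArg (fun z : F₀ => (z : F)) h2
      push_cast at this
      exact this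
  have hlt : Fintype.card F₀ < N := by
    rw [← hN, hF₀, hF, hqq]
    have : q₀ < q₀ ^ s := by
      calc q₀ = q₀ ^ 1 := (pow_one _).symm
        _ < q₀ ^ s := Nat.pow_lt_pow_right hq₀1 (by omega)
    nlinarith
  have hM₀ := ih _ hlt hF₀ hζ₀ hζ₀1 hζ₀q h7' rfl
  have hcardpow : Fintype.card F = Nat.card F₀ ^ s := by rw [hcardN, ← pow_mul, ← hmk, hm]
  have hherm : ∀ u v : Fin p → F, (∀ i, u i ∈ F₀) → (∀ i, v i ∈ F₀) → hermForm p F q u v ∈ F₀ := by
    intro u v hu hv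
    rw [herm_def]
    exact sum_mem fun i _ => mul_mem (hu i) (pow_mem (hv i) _)
  have hmax := U.subf q hF hq3 F₀ s hsp hsodd hcardpow (fun u v hu hv => by
    rw [Units.val_one, Matrix.one_mulVec, Matrix.one_mulVec, one_mul]
    exact hherm u v hu hv)
  have hqle : q₀ ^ 2 ≤ q := by
    rw [hqq]
    exact Nat.pow_le_pow_right (by omega) (by omega)
  refine eq_SU_of_subfield hF hp3 F₀ hF₀ hqle hpow hmax (Mc_le _ _) ?_ ?_
  · rintro g hg ⟨d, hd⟩
    exact mem_Mc_diag (by omega) hζ1 hg d hd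
  · intro g hg
    refine ex_Mc (ζ₀ := ζ₀) hζ₀c (G₀ := SUg p F₀ q₀) ?_ (by rw [hM₀]; exact hg)
    intro x hx
    exact ⟨ex_GU hF F₀ hF₀ hpow hx.1, ex_SL hx.2⟩

/-- The algebra `F[B]` is closed under adjoints if `B` is unitary. -/
theorem adjointClosed {F : Type*} [Field F] [Fintype F] {n q : ℕ} [NeZero n] (hF : Fintype.card F = q ^ 2) {β : Fˣ}
    (hβ : β ^ (q + 1) = 1) : IsAdjointClosedFor (hermForm n F q) (Kf n β) := by
  have hn : 0 < n := Nat.pos_of_ne_zero (NeZero.ne n)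
  intro k hk
  unfold Kf at hk
  refine Algebra.adjoin_induction (p := fun k _ => ∃ k' ∈ Kf n β, ∀ u v : Fin n → F,
    hermForm n F q (k *ᵥ u) v = hermForm n F q u (k' *ᵥ v)) ?_ ?_ ?_ ?_ hk
  · rintro x rfl
    refine ⟨((β⁻¹ : Fˣ) : F) • (Bm n β : Matrix (Fin n) (Fin n) F) ^ (n - 1),
      Subalgebra.smul_mem _ (Subalgebra.pow_mem _ (Bm_mem_Kf β) _) _, fun u v => ?_⟩
    have hB := (mem_GU_iff _).1 (Bm_mem_GU (n := n) (norm_iff.2 hβ))
      u ((((β⁻¹ : Fˣ) : F) • (Bm n β : Matrix (Fin n) (Fin n) F) ^ (n - 1)) *ᵥ v)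
    rw [← hB, Matrix.mulVec_mulVec, Matrix.mul_smul, ← pow_succ', Nat.sub_add_cancel hn, Bm_pow_n, smul_smul,
      Units.inv_mul, one_smul, Matrix.one_mulVec]
  · intro c
    refine ⟨algebraMap F _ (c ^ q), Subalgebra.algebraMap_mem _ _, fun u v => ?_⟩
    rw [Algebra.algebraMap_eq_smul_one, Algebra.algebraMap_eq_smul_one, Matrix.smul_mulVec, Matrix.one_mulVec,
      Matrix.smul_mulVec, Matrix.one_mulVec, herm_smul_left, herm_smul_right, pow_q_pow_q hF]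
  · rintro x y - - ⟨x', hx', hx⟩ ⟨y', hy', hy⟩
    refine ⟨x' + y', Subalgebra.add_mem _ hx' hy', fun u v => ?_⟩
    rw [Matrix.add_mulVec, Matrix.add_mulVec, herm_add_left, herm_add_right hF, hx, hy]
  · rintro x y - - ⟨x', hx', hx⟩ ⟨y', hy', hy⟩
    refine ⟨y' * x', Subalgebra.mul_mem _ hy' hx', fun u v => ?_⟩
    rw [← Matrix.mulVec_mulVec, ← Matrix.mulVec_mulVec, hx, hy]

/-- **Nonsplit case**: `Mc = SU_p(q)` if `β` is not a `p`-th power. -/
theorem SU_nonsplit (hp2 : p ≠ 2) (U : UniFacts.{u} p) (S5 : p = 3 → SUThreeFive.{u})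
    {F : Type u} [Field F] [Fintype F] {q : ℕ} (hF : Fintype.card F = q ^ 2) {ζ β : Fˣ} (hζ : ζ ^ p = 1) (hζ1 : ζ ≠ 1)
    (hq : ζ ^ (q + 1) = 1) (hβ : β ^ (q + 1) = 1) (hβp : ∀ x : Fˣ, x ^ p ≠ β) (h7 : 7 ≤ p ∨ (2 : F) ≠ 0) :
    Mc (SUg p F q) (Hs p ζ β) = SUg p F q := by
  have hp : p.Prime := Fact.out
  have hp3 : 3 ≤ p := by have := hp.two_le; omega
  have hodd : Odd p := hp.odd_of_ne_two hp2
  have hq3 := three_le_q hF hζ hζ1 hq h7
  by_cases h35 : p = 3 ∧ q = 5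
  · obtain ⟨rfl, rfl⟩ := h35
    exact S5 rfl hF ζ β hζ hζ1 hβ
  · have hβ' : ∀ x : F, x ^ p ≠ β := by
      intro x hx
      have hx0 : x ≠ 0 := by
        rintro rfl
        rw [zero_pow hp.ne_zero] at hx
        exact β.ne_zero hx.symm
      exact hβp (Units.mk0 x hx0) (Units.ext (by rw [Units.val_pow_eq_pow_val, Units.val_mk0, hx]))
    obtain ⟨c, hc, hc3⟩ := exists_norm_one_cube hF hq3
    have h3 : p = 3 → q ≠ 3 ∧ q ≠ 5 := by
      rintro rfl
      refine ⟨?_, fun h => h35 ⟨rfl, h⟩⟩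
      rintro rfl
      have h1 : 3 ∣ 4 := by
        have := orderOf_dvd_of_pow_eq_one hq
        rwa [orderOf_zeta hζ hζ1] at this
      omega
    have hmax := U.field q hF h3 hq3 (Kf p β) (isField_Kf hp hβ') (adjointClosed hF hβ)
    refine Mc_eq_of_field hp hp3 hodd hζ hζ1 hβ' ⟨Dm_mem_GU hq, Dm_mem_SL hodd hζ⟩ hmax ?_ hc3
      ⟨tor_mem_GU hc, tor_mem_SL (by omega) c⟩
    intro N hN hnorm
    exact Cfsg.Agent.H918.SUg_normal hF hp3 (fun h => by omega) hN hnorm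

end Cfsg.Agent.H321.Ker
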