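import Cfsg.Agent.H321.Ker.Field

/-!
# S2187, kernel row: the symplectic type case
-/

set_option autoImplicit false
set_option linter.unusedSectionVars false

namespace Cfsg.Agent.H321.Ker

open Cfsg Cfsg.Geo
open scoped MatrixGroups Matrix

section Comm

variable {G : Type*} [Group G]

theorem mul_zpow_of_central {z x : G} (hz : ∀ g, z * g = g * z) (j : ℤ) : (z * x) ^ j = z ^ j * x ^ j :=
  (show Commute z x from hz x).mul_zpow j

theorem conj_zpow' {x y : G} (j : ℤ) : x * y ^ j * x⁻¹ = (x * y * x⁻¹) ^ j := by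
  have := map_zpow (MulAut.conj x).toMonoidHom y j
  simp only [MulEquiv.toMonoidHom_eq_coe, MonoidHom.coe_coe, MulAut.conj_apply] at this
  exact this

/-- If `a b = z b a` with `z` central then `b^j a^i = z^(-i j) a^i b^j`. -/
theorem zpow_comm {z a b : G} (hz : ∀ g, z * g = g * z) (h : a * b = z * (b * a)) (i j : ℤ) :
    b ^ j * a ^ i = z ^ (-(i * j)) * (a ^ i * b ^ j) := by
  have hzz : ∀ (k : ℤ) (g : G), z ^ k * g = g * z ^ k := fun k g => (show Commute z g from hz g).zpow_left k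
  have h1 : a * b * a⁻¹ = z * b := by rw [h]; group
  have h2 : a * b ^ j * a⁻¹ = z ^ j * b ^ j := by rw [conj_zpow', h1, mul_zpow_of_central hz]
  have h3 : b ^ j * a * (b ^ j)⁻¹ = z ^ (-j) * a := by
    have : a * b ^ j = z ^ j * b ^ j * a := by rw [← h2]; group
    have h4 : b ^ j * a = z ^ (-j) * (a * b ^ j) := by rw [this, ← mul_assoc, ← mul_assoc, zpow_neg]; group
    rw [h4]; group
  have h5 : b ^ j * a ^ i * (b ^ j)⁻¹ = z ^ (-(i * j)) * a ^ i := by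
    rw [conj_zpow', h3, mul_zpow_of_central (hzz _), ← zpow_mul]
    congr 2; ring
  rw [← mul_assoc, ← h5]; group

end Comm

variable {n : ℕ} [NeZero n] {F : Type*} [Field F]

/-- The scalar matrix as an element of `GL`. -/
def sc (n : ℕ) (z : Fˣ) : GL (Fin n) F := Units.map (Matrix.scalar (Fin n) : F →+* Matrix (Fin n) (Fin n) F).toMonoidHom z

theorem sc_coe (z : Fˣ) : (sc n z : Matrix (Fin n) (Fin n) F) = (z : F) • 1 := by
  simp [sc, Matrix.smul_one_eq_diagonal]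

theorem sc_mem (z : Fˣ) : sc n z ∈ scalars (Fin n) F := (mem_scalars_iff _).2 ⟨z, sc_coe z⟩

theorem mem_scalars_iff_sc {g : GL (Fin n) F} : g ∈ scalars (Fin n) F ↔ ∃ z, g = sc n z := by
  rw [mem_scalars_iff]
  constructor
  · rintro ⟨c, hc⟩; exact ⟨c, Units.ext (by rw [hc, sc_coe])⟩
  · rintro ⟨c, rfl⟩; exact ⟨c, sc_coe c⟩

theorem sc_comm (z : Fˣ) (g : GL (Fin n) F) : sc n z * g = g * sc n z := by
  apply Units.ext
  rw [Units.val_mul, Units.val_mul, sc_coe, Matrix.smul_mul, one_mul, Matrix.mul_smul, mul_one]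

theorem sc_mul (z w : Fˣ) : sc n (z * w) = sc n z * sc n w := map_mul _ _ _

theorem sc_one : sc n (1 : Fˣ) = 1 := map_one _

theorem sc_inv (z : Fˣ) : sc n z⁻¹ = (sc n z)⁻¹ := map_inv _ _

theorem sc_zpow (z : Fˣ) (k : ℤ) : sc n (z ^ k) = sc n z ^ k := map_zpow _ _ _

theorem sc_pow (z : Fˣ) (k : ℕ) : sc n (z ^ k) = sc n z ^ k := map_pow _ _ _

theorem Dm_Bm {ζ β : Fˣ} (hζ : ζ ^ n = 1) : Dm n ζ * Bm n β = sc n ζ * (Bm n β * Dm n ζ) := by
  apply Units.ext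
  rw [Units.val_mul, Units.val_mul, Units.val_mul, sc_coe, Matrix.smul_mul, one_mul, Dm_coe]
  ext i j
  rw [Matrix.diagonal_mul, Matrix.smul_apply, Matrix.mul_diagonal, Bm_apply, smul_eq_mul]
  by_cases h : i = j + 1
  · subst h
    rw [if_pos rfl]
    have h1 : ζ ^ ((j + 1 : Fin n) : ℕ) = ζ * ζ ^ (j : ℕ) := by
      rw [val_succ, ← pow_succ', ← pow_mod_orderOf, Nat.mod_mod_of_dvd _ (orderOf_dvd_of_pow_eq_one hζ), pow_mod_orderOf]
    rw [h1, Units.val_mul]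
    ring
  · rw [if_neg h, mul_zero, zero_mul, mul_zero]

theorem Bm_pow_eq (β : Fˣ) : Bm n β ^ n = sc n β := by
  apply Units.ext
  rw [Units.val_pow_eq_pow_val, Bm_pow_n, sc_coe]

theorem Dm_pow_eq {ζ : Fˣ} (hζ : ζ ^ n = 1) : Dm n ζ ^ n = 1 := by
  apply Units.ext
  rw [Units.val_pow_eq_pow_val, Dm_coe, Matrix.diagonal_pow, Units.val_one, ← Matrix.diagonal_one]
  congr 1
  funext i
  rw [Pi.pow_apply, ← Units.val_pow_eq_pow_val, ← pow_mul, mul_comm, pow_mul, hζ, one_pow, Units.val_one]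

/-- The form of the elements of `Hs`. -/
theorem mem_Hs_form {ζ β : Fˣ} (hζ : ζ ^ n = 1) {g : GL (Fin n) F} (hg : g ∈ Hs n ζ β) :
    ∃ (z : Fˣ) (i j : ℤ), g = sc n z * (Dm n ζ ^ i * Bm n β ^ j) := by
  have hzz : ∀ (w : Fˣ) (g : GL (Fin n) F), sc n w * g = g * sc n w := sc_comm
  have hswap := zpow_comm (hzz ζ) (Dm_Bm (β := β) hζ)
  unfold Hs at hg
  rw [← Subgroup.closure_eq (scalars (Fin n) F), ← Subgroup.closure_union] at hg
  refine Subgroup.closure_induction (p := fun g _ => ∃ (z : Fˣ) (i j : ℤ), g = sc n z * (Dm n ζ ^ i * Bm n β ^ j))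
    ?_ ?_ ?_ ?_ hg
  · rintro x ((rfl | rfl) | hx)
    · exact ⟨1, 1, 0, by rw [sc_one]; simp⟩
    · exact ⟨1, 0, 1, by rw [sc_one]; simp⟩
    · obtain ⟨z, rfl⟩ := mem_scalars_iff_sc.1 hx
      exact ⟨z, 0, 0, by simp⟩
  · exact ⟨1, 0, 0, by rw [sc_one]; simp⟩
  · rintro x y - - ⟨z, i, j, rfl⟩ ⟨w, k, l, rfl⟩
    refine ⟨z * w * ζ ^ (-(k * j)), i + k, j + l, ?_⟩
    calc sc n z * (Dm n ζ ^ i * Bm n β ^ j) * (sc n w * (Dm n ζ ^ k * Bm n β ^ l))
        = sc n z * (Dm n ζ ^ i * Bm n β ^ j * sc n w) * (Dm n ζ ^ k * Bm n β ^ l) := by simp only [mul_assoc]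
      _ = sc n z * sc n w * (Dm n ζ ^ i * (Bm n β ^ j * Dm n ζ ^ k) * Bm n β ^ l) := by
          rw [← hzz w]; simp only [mul_assoc]
      _ = sc n z * sc n w * (Dm n ζ ^ i * (sc n (ζ ^ (-(k * j))) * (Dm n ζ ^ k * Bm n β ^ j)) * Bm n β ^ l) := by
          rw [hswap, sc_zpow]
      _ = sc n z * sc n w * sc n (ζ ^ (-(k * j))) * (Dm n ζ ^ i * Dm n ζ ^ k * (Bm n β ^ j * Bm n β ^ l)) := by
          have := hzz (ζ ^ (-(k * j))) (Dm n ζ ^ i)
          rw [← mul_assoc (Dm n ζ ^ i) (sc n (ζ ^ (-(k * j)))), ← this]; simp only [mul_assoc]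
      _ = _ := by rw [← zpow_add, ← zpow_add, sc_mul, sc_mul]
  · rintro x - ⟨z, i, j, rfl⟩
    refine ⟨z⁻¹ * ζ ^ (-((-i) * (-j))), -i, -j, ?_⟩
    rw [mul_inv_rev, mul_inv_rev, ← zpow_neg, ← zpow_neg, hswap, ← sc_zpow, ← sc_inv, sc_mul, ← hzz z⁻¹]
    simp only [mul_assoc]

theorem mem_Hs_form' {ζ β : Fˣ} (hζ : ζ ^ n = 1) {g : GL (Fin n) F} (hg : g ∈ Hs n ζ β) :
    ∃ (z : Fˣ) (i j : ℕ), j < n ∧ g = sc n z * (Dm n ζ ^ i * Bm n β ^ j) := by
  have hn : (0 : ℤ) < n := by exact_mod_cast Nat.pos_of_ne_zero (NeZero.ne n)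
  obtain ⟨z, i, j, rfl⟩ := mem_Hs_form hζ hg
  refine ⟨z * β ^ (j / n), (i % n).toNat, (j % n).toNat, ?_, ?_⟩
  · have := Int.emod_lt_of_pos j hn
    have h2 := Int.emod_nonneg j hn.ne'
    omega
  · have h1 : Dm n ζ ^ i = Dm n ζ ^ (i % n).toNat := by
      rw [← zpow_natCast (Dm n ζ) (i % n).toNat, Int.toNat_of_nonneg (Int.emod_nonneg i hn.ne')]
      conv_lhs => rw [← Int.mul_ediv_add_emod i n, zpow_add, zpow_mul, zpow_natCast, Dm_pow_eq hζ, one_zpow, one_mul]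
    have h2 : Bm n β ^ j = sc n (β ^ (j / n)) * Bm n β ^ (j % n).toNat := by
      rw [← zpow_natCast (Bm n β) (j % n).toNat, Int.toNat_of_nonneg (Int.emod_nonneg j hn.ne')]
      conv_lhs => rw [← Int.mul_ediv_add_emod j n, zpow_add, zpow_mul, zpow_natCast, Bm_pow_eq, ← sc_zpow]
    rw [h1, h2, sc_mul, mul_assoc, ← mul_assoc (Dm n ζ ^ _) (sc n _), ← sc_comm]
    simp only [mul_assoc]

theorem Dm_pow_coe (ζ : Fˣ) (k : ℕ) :
    ((Dm n ζ ^ k : GL (Fin n) F) : Matrix (Fin n) (Fin n) F) =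
      Matrix.diagonal fun i : Fin n => ((ζ ^ ((i : ℕ) * k) : Fˣ) : F) := by
  rw [Units.val_pow_eq_pow_val, Dm_coe, Matrix.diagonal_pow]
  congr 1
  funext i
  rw [Pi.pow_apply, ← Units.val_pow_eq_pow_val, ← pow_mul]

/-- If `tor c` conjugates the shift into `Hs` then `c³ = 1`. -/
theorem tor_conj_mem_Hs (hn : 3 ≤ n) (hodd : Odd n) {c ζ β : Fˣ} (hζ : ζ ^ n = 1)
    (h : tor n c * Bm n β * (tor n c)⁻¹ ∈ Hs n ζ β) : c ^ 3 = 1 := by
  obtain ⟨z, i, j, hj, h⟩ := mem_Hs_form' hζ h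
  have h' : tor n c * Bm n β = sc n z * (Dm n ζ ^ i * Bm n β ^ j) * tor n c := by rw [← h]; group
  have h0 := congrArg Units.val h'
  simp only [Units.val_mul] at h0
  rw [tor_coe, sc_coe, Dm_pow_coe, Matrix.smul_mul, one_mul] at h0
  -- `j = 1`
  have hj1 : j = 1 := by
    by_contra hne
    have h1 := congrArg (fun M : Matrix (Fin n) (Fin n) F => (M *ᵥ Pi.single ⟨0, by omega⟩ 1) ⟨1, by omega⟩) h0
    simp only [Matrix.mulVec_single_one, Matrix.col_apply] at h1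
    rw [Matrix.diagonal_mul, Bm_succ β 0 (by omega), Matrix.mul_diagonal, Matrix.smul_apply, Matrix.diagonal_mul] at h1
    have h2 : ((Bm n β ^ j : GL (Fin n) F) : Matrix (Fin n) (Fin n) F) ⟨1, by omega⟩ ⟨0, by omega⟩ = 0 := by
      have := congrFun (Bm_pow_mulVec β j hj) ⟨1, by omega⟩
      rw [Matrix.mulVec_single_one, Matrix.col_apply, Pi.single_apply, if_neg] at this
      · exact this
      · intro h3
        exact hne (congrArg Fin.val h3).symm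
    rw [h2] at h1
    simp at h1
  subst hj1
  rw [pow_one] at h0
  have h1 := congrFun (congrFun h0 ⟨1, by omega⟩) ⟨0, by omega⟩
  have h2 := congrFun (congrFun h0 ⟨2, by omega⟩) ⟨1, by omega⟩
  have h3 := congrFun (congrFun h0 ⟨0, by omega⟩) ⟨n - 1, by omega⟩
  rw [Matrix.diagonal_mul, Matrix.mul_diagonal, Matrix.smul_apply, Matrix.diagonal_mul, Bm_succ β 0 (by omega)] at h1
  rw [Matrix.diagonal_mul, Matrix.mul_diagonal, Matrix.smul_apply, Matrix.diagonal_mul, Bm_succ β 1 (by omega)] at h2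
  rw [Matrix.diagonal_mul, Matrix.mul_diagonal, Matrix.smul_apply, Matrix.diagonal_mul] at h3
  have hb : (Bm n β : Matrix (Fin n) (Fin n) F) ⟨0, by omega⟩ ⟨n - 1, by omega⟩ = β := by
    rw [Bm_apply, if_pos, if_pos]
    · rfl
    · apply Fin.ext
      rw [val_succ]
      simp only
      rw [Nat.sub_add_cancel (by omega), Nat.mod_self]
  rw [hb] at h3
  have hn1 : ¬ (n - 1 = 0) := by omega
  have hn2 : ¬ (n - 1 = 1) := by omega
  simp only [one_ne_zero, if_false, if_true, mul_one, one_mul, smul_eq_mul, OfNat.ofNat_ne_zero,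
    OfNat.ofNat_ne_one, hn1, hn2, zero_mul, pow_zero, Units.val_one, ← Units.val_mul, Units.val_inj] at h1 h2 h3
  have hz : c = z := mul_right_cancel h3
  subst hz
  have h4 : (ζ ^ i) ^ 2 = 1 := by
    rw [← pow_mul, mul_comm i 2]
    have : (1 : Fˣ) = c * ζ ^ (2 * i) * c⁻¹ := by
      apply Units.ext
      rw [Units.val_one, h2]
    rw [mul_comm c, mul_assoc, mul_inv_cancel, mul_one] at this
    exact this.symm
  have h5 : ζ ^ i = 1 := by
    have h6 : (ζ ^ i) ^ n = 1 := by rw [← pow_mul, mul_comm, pow_mul, hζ, one_pow]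
    have h7 := Nat.dvd_gcd (orderOf_dvd_of_pow_eq_one h4) (orderOf_dvd_of_pow_eq_one h6)
    rw [(Nat.coprime_two_left.2 hodd).gcd_eq_one, Nat.dvd_one] at h7
    exact orderOf_eq_one_iff.1 h7
  rw [h5, mul_one] at h1
  rw [pow_succ, pow_two, ← h1, inv_mul_cancel]

theorem tor_not_scalar (hn : 3 ≤ n) (hodd : Odd n) {c ζ : Fˣ} (hζ : ζ ^ n = 1) (hc : c ^ 3 ≠ 1) :
    tor n c ∉ scalars (Fin n) F := by
  intro h
  obtain ⟨z, hz⟩ := mem_scalars_iff_sc.1 h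
  apply hc
  have h2 : tor n c * Bm n 1 * (tor n c)⁻¹ ∈ Hs n ζ 1 := by
    rw [hz, sc_comm, mul_inv_cancel_right]
    exact Bm_mem ζ 1
  exact tor_conj_mem_Hs hn hodd hζ h2

/-- **The symplectic type case.** -/
theorem Mc_eq_of_symp (hn : 3 ≤ n) (hodd : Odd n) {G : Subgroup (GL (Fin n) F)} {ζ : Fˣ} (hζ : ζ ^ n = 1)
    (hζ1 : ζ ≠ 1)
    (hmax : IsMaximalIn G (subgroupNormalizer (Subgroup.closure {Dm n ζ, Bm n 1} : Subgroup (GL (Fin n) F)) ⊓ G))
    (hqs : ∀ N : Subgroup (GL (Fin n) F), N ≤ G → (∀ g ∈ G, ∀ x ∈ N, g * x * g⁻¹ ∈ N) →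
      N ≤ scalars (Fin n) F ∨ N = G)
    {c : Fˣ} (hc : c ^ 3 ≠ 1) (hcG : tor n c ∈ G) : Mc G (Hs n ζ 1) = G := by
  refine Mc_eq_of_max hmax ?_ hqs (mem_Mc_diag (by omega) hζ1 hcG _ (tor_coe c)) ?_ (tor_not_scalar hn hodd hζ hc)
  · intro g hg x hx
    refine conj_Mc (fun y hy => G.mul_mem (G.mul_mem hg.2 hy) (G.inv_mem hg.2)) ?_ hx
    intro y hy
    have h1 : Hs n ζ 1 ≤ (Hs n ζ 1).comap (MulAut.conj g).toMonoidHom := by
      unfold Hs
      refine sup_le ?_ ?_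
      · intro w hw
        rw [Subgroup.mem_comap]
        exact Subgroup.mem_sup_left ((Subgroup.mem_normalizer_iff.1 hg.1 w).1 hw)
      · intro w hw
        rw [Subgroup.mem_comap]
        exact Subgroup.mem_sup_right (conj_mem_scalars hw)
    exact h1 hy
  · intro h1
    have h2 := (Subgroup.mem_normalizer_iff.1 h1.1 (Bm n 1)).1 (Subgroup.subset_closure (by simp))
    exact hc (tor_conj_mem_Hs hn hodd hζ (Subgroup.mem_sup_left h2))

theorem det_Dm (hodd : Odd n) {ζ : Fˣ} (hζ : ζ ^ n = 1) : (Dm n ζ : Matrix (Fin n) (Fin n) F).det = 1 := by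
  rw [Dm_coe, Matrix.det_diagonal]
  have h1 : ∏ i : Fin n, ((ζ ^ (i : ℕ) : Fˣ) : F) = ((ζ ^ (∑ i ∈ Finset.range n, i) : Fˣ) : F) := by
    rw [← Finset.prod_pow_eq_pow_sum, Units.coe_prod, Finset.prod_range]
  rw [h1]
  obtain ⟨m, rfl⟩ := hodd
  have h2 : ∑ i ∈ Finset.range (2 * m + 1), i = (2 * m + 1) * m := by
    rw [Finset.sum_range_id]
    have : (2 * m + 1) * (2 * m + 1 - 1) = 2 * ((2 * m + 1) * m) := by
      rw [Nat.add_sub_cancel]; ring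
    rw [this, Nat.mul_div_cancel_left _ (by norm_num)]
  rw [h2, pow_mul, hζ, one_pow, Units.val_one]

theorem Dm_mem_SL (hodd : Odd n) {ζ : Fˣ} (hζ : ζ ^ n = 1) : Dm n ζ ∈ specialLinear (Fin n) F := by
  unfold specialLinear
  rw [MonoidHom.mem_ker]
  apply Units.ext
  rw [Matrix.GeneralLinearGroup.val_det_apply, det_Dm hodd hζ, Units.val_one]

/-- Elements of `Hs ∩ G` normalise `Mc G Hs`. -/
theorem conj_Mc_of_mem {G H : Subgroup (GL (Fin n) F)} {g : GL (Fin n) F} (hg : g ∈ G) (hgH : g ∈ H)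
    {x : GL (Fin n) F} (hx : x ∈ Mc G H) : g * x * g⁻¹ ∈ Mc G H :=
  conj_Mc (fun _ hy => G.mul_mem (G.mul_mem hg hy) (G.inv_mem hg))
    (fun _ hy => H.mul_mem (H.mul_mem hgH hy) (H.inv_mem hgH)) hx

/-- **The field case.** -/
theorem Mc_eq_of_field (hp : n.Prime) (hn : 3 ≤ n) (hodd : Odd n) {G : Subgroup (GL (Fin n) F)} {ζ β : Fˣ}
    (hζ : ζ ^ n = 1) (hζ1 : ζ ≠ 1) (hβ : ∀ x : F, x ^ n ≠ β) (hDG : Dm n ζ ∈ G)
    (hmax : IsMaximalIn G (subalgebraNormalizer (Kf n β) ⊓ G))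
    (hqs : ∀ N : Subgroup (GL (Fin n) F), N ≤ G → (∀ g ∈ G, ∀ x ∈ N, g * x * g⁻¹ ∈ N) →
      N ≤ scalars (Fin n) F ∨ N = G)
    {c : Fˣ} (hc : c ^ 3 ≠ 1) (hcG : tor n c ∈ G) : Mc G (Hs n ζ β) = G := by
  refine Mc_eq_of_max hmax ?_ hqs (mem_Mc_diag (by omega) hζ1 hcG _ (tor_coe c)) ?_ (tor_not_scalar hn hodd hζ hc)
  · rintro g ⟨hg, hgG⟩ x hx
    obtain ⟨k, hk⟩ := conj_Bm hp hζ hζ1 hβ hg
    -- `g = D^k y` with `y` commuting with the shift
    set D := Dm n ζ with hD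
    have hgB : g * Bm n β * g⁻¹ = sc n (ζ ^ k) * Bm n β := by
      apply Units.ext
      rw [Units.val_mul, Units.val_mul, hk, Units.val_mul, sc_coe, Matrix.smul_mul, one_mul]
    have hDB : D ^ k * Bm n β * (D ^ k)⁻¹ = sc n (ζ ^ k) * Bm n β := by
      have h1 : D * Bm n β = sc n ζ * (Bm n β * D) := Dm_Bm hζ
      have h2 := zpow_comm (z := sc n ζ) (fun g => sc_comm ζ g) h1 k 1
      rw [zpow_one, zpow_natCast, mul_one, zpow_neg, zpow_natCast, ← sc_pow] at h2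
      have h3 : D ^ k * Bm n β = sc n (ζ ^ k) * (Bm n β * D ^ k) := by rw [h2]; group
      rw [h3]; group
    set y := (D ^ k)⁻¹ * g with hy
    have hDk : D ^ k ∈ G := G.pow_mem hDG k
    have hyG : y ∈ G := G.mul_mem (G.inv_mem hDk) hgG
    have hyB : y * Bm n β = Bm n β * y := by
      have h1 : g * Bm n β = D ^ k * Bm n β * (D ^ k)⁻¹ * g := by rw [hDB, ← hgB]; group
      rw [hy, mul_assoc, h1]; group
    have hyM : y ∈ Mc G (Hs n ζ β) := mem_Mc hyG (Bm_mem ζ β) (Bm_not_scalar (by omega) β) hyB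
    have h1 : y * x * y⁻¹ ∈ Mc G (Hs n ζ β) :=
      (Mc G (Hs n ζ β)).mul_mem ((Mc G (Hs n ζ β)).mul_mem hyM hx) ((Mc G (Hs n ζ β)).inv_mem hyM)
    have h2 := conj_Mc_of_mem hDk ((Hs n ζ β).pow_mem (Dm_mem ζ β) k) h1
    have h3 : g * x * g⁻¹ = D ^ k * (y * x * y⁻¹) * (D ^ k)⁻¹ := by rw [hy]; group
    rw [h3]
    exact h2
  · intro h1
    obtain ⟨k, hk⟩ := conj_Bm hp hζ hζ1 hβ h1.1
    exact hc (tor_conj_Bm hn hk)

end Cfsg.Agent.H321.Ker
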