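import Cfsg.Agent.H321.Ker.Descent
import Cfsg.Agent.ClassicalGeometry.GUBasic

/-!
# S2187, kernel row: unitary groups
-/

set_option autoImplicit false
set_option linter.unusedSectionVars false

namespace Cfsg.Agent.H321.Ker

open Cfsg Cfsg.Geo
open scoped MatrixGroups Matrix
open Cfsg.Agent.LieClassical.HermBasic

variable {n : ℕ} [NeZero n] {F : Type*} [Field F] {q : ℕ}

theorem diag_mem_GU {g : GL (Fin n) F} {d : Fin n → F} (hg : (g : Matrix (Fin n) (Fin n) F) = Matrix.diagonal d)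
    (hd : ∀ i, d i * d i ^ q = 1) : g ∈ GU n F q := by
  rw [mem_GU_iff]
  intro u v
  rw [hg, herm_def, herm_def]
  refine Finset.sum_congr rfl fun i _ => ?_
  rw [Matrix.mulVec_diagonal, Matrix.mulVec_diagonal, mul_pow]
  calc d i * u i * (d i ^ q * v i ^ q) = (d i * d i ^ q) * (u i * v i ^ q) := by ring
    _ = _ := by rw [hd, one_mul]

theorem Bm_mulVec (β : Fˣ) (v : Fin n → F) (i : Fin n) :
    ((Bm n β : Matrix (Fin n) (Fin n) F) *ᵥ v) i = (if i = 0 then (β : F) else 1) * v (i - 1) := by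
  rw [Matrix.mulVec, dotProduct, Finset.sum_eq_single (i - 1)]
  · rw [Bm_apply, if_pos (by simp)]
  · intro j _ hj
    rw [Bm_apply, if_neg, zero_mul]
    rintro rfl
    exact hj (by simp)
  · simp

theorem Bm_mem_GU {β : Fˣ} (hβ : (β : F) * (β : F) ^ q = 1) : Bm n β ∈ GU n F q := by
  rw [mem_GU_iff]
  intro u v
  rw [herm_def, herm_def, ← Equiv.sum_comp (Equiv.addRight (1 : Fin n)) fun i =>
    ((Bm n β : Matrix (Fin n) (Fin n) F) *ᵥ u) i * ((Bm n β : Matrix (Fin n) (Fin n) F) *ᵥ v) i ^ q]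
  refine Finset.sum_congr rfl fun i _ => ?_
  rw [Equiv.coe_addRight, Bm_mulVec, Bm_mulVec, add_sub_cancel_right, mul_pow]
  split_ifs
  · calc (β : F) * u i * ((β : F) ^ q * v i ^ q) = ((β : F) * (β : F) ^ q) * (u i * v i ^ q) := by ring
      _ = _ := by rw [hβ, one_mul]
  · simp

theorem norm_iff {c : Fˣ} : (c : F) * (c : F) ^ q = 1 ↔ c ^ (q + 1) = 1 := by
  rw [← pow_succ', ← Units.val_pow_eq_pow_val, Units.val_eq_one]

theorem Dm_mem_GU {ζ : Fˣ} (hζ : ζ ^ (q + 1) = 1) : Dm n ζ ∈ GU n F q := by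
  refine diag_mem_GU (Dm_coe ζ) fun i => ?_
  rw [norm_iff, ← pow_mul, mul_comm, pow_mul, hζ, one_pow]

theorem tor_mem_GU {c : Fˣ} (hc : c ^ (q + 1) = 1) : tor n c ∈ GU n F q := by
  refine diag_mem_GU (tor_coe c) fun i => ?_
  split_ifs
  · exact norm_iff.2 hc
  · rw [norm_iff, inv_pow, hc, inv_one]
  · simp

/-- `diag(δ, 1, …, 1)`. -/
def dg (n : ℕ) (δ : Fˣ) : GL (Fin n) F :=
  ⟨Matrix.diagonal fun i => if (i : ℕ) = 0 then (δ : F) else 1,
    Matrix.diagonal fun i => if (i : ℕ) = 0 then ((δ⁻¹ : Fˣ) : F) else 1, by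
    rw [Matrix.diagonal_mul_diagonal, ← Matrix.diagonal_one]; congr 1; funext i; split_ifs <;> simp, by
    rw [Matrix.diagonal_mul_diagonal, ← Matrix.diagonal_one]; congr 1; funext i; split_ifs <;> simp⟩

theorem dg_coe (δ : Fˣ) : (dg n δ : Matrix (Fin n) (Fin n) F) =
    Matrix.diagonal fun i : Fin n => if (i : ℕ) = 0 then (δ : F) else 1 := rfl

theorem det_dg (δ : Fˣ) : (dg n δ : Matrix (Fin n) (Fin n) F).det = δ := by
  rw [dg_coe, Matrix.det_diagonal]
  obtain ⟨m, rfl⟩ : ∃ m, n = m + 1 := ⟨n - 1, by have := Nat.pos_of_ne_zero (NeZero.ne n); omega⟩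
  rw [Fin.prod_univ_succ]
  simp

theorem dg_mem_GU {δ : Fˣ} (hδ : δ ^ (q + 1) = 1) : dg n δ ∈ GU n F q := by
  refine diag_mem_GU (dg_coe δ) fun i => ?_
  split_ifs
  · exact norm_iff.2 hδ
  · simp

section Finite

variable [Fintype F] (hF : Fintype.card F = q ^ 2)
include hF

theorem det_GU {g : GL (Fin n) F} (hg : g ∈ GU n F q) :
    (Matrix.GeneralLinearGroup.det g : Fˣ) ^ (q + 1) = 1 := by
  apply Units.ext
  rw [Units.val_pow_eq_pow_val, Matrix.GeneralLinearGroup.val_det_apply, Units.val_one]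
  exact Cfsg.Agent.ClassicalGeometry.GUBasic.det_pow hF ((mem_GU_iff g).1 hg)

/-- A similitude is a scalar times an isometry. -/
theorem exists_sc_of_similitude {g : GL (Fin n) F} {μ : F}
    (hg : ∀ u v, hermForm n F q ((g : Matrix (Fin n) (Fin n) F) *ᵥ u) ((g : Matrix (Fin n) (Fin n) F) *ᵥ v) =
      μ * hermForm n F q u v) (hμ : μ ≠ 0) : ∃ (l : Fˣ) (g' : GL (Fin n) F), g' ∈ GU n F q ∧ g = sc n l * g' := by
  have h1 : μ ^ q = μ := by
    have := herm_self_pow hF ((g : Matrix (Fin n) (Fin n) F) *ᵥ Pi.single 0 1)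
    rw [hg, herm_single_right hF, Pi.single_eq_same, one_pow, mul_one, mul_one] at this
    exact this
  obtain ⟨x, hx0, hx⟩ := exists_norm_eq_ne hF h1 hμ
  refine ⟨Units.mk0 x hx0, sc n (Units.mk0 x hx0)⁻¹ * g, ?_, by rw [sc_inv, mul_inv_cancel_left]⟩
  rw [mem_GU_iff]
  intro u v
  rw [Units.val_mul, sc_coe, Matrix.smul_mul, one_mul, Matrix.smul_mulVec, Matrix.smul_mulVec, herm_smul_left,
    herm_smul_right, hg, ← hx]
  rw [Units.val_inv_eq_inv_val, Units.val_mk0, inv_pow]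
  have : x ^ q ≠ 0 := pow_ne_zero _ hx0
  field_simp

/-- A unitary matrix is `dg` times one of determinant one. -/
theorem exists_dg {g : GL (Fin n) F} (hg : g ∈ GU n F q) : ∃ (δ : Fˣ) (g' : GL (Fin n) F), δ ^ (q + 1) = 1 ∧
    g' ∈ GU n F q ⊓ specialLinear (Fin n) F ∧ g = dg n δ * g' := by
  refine ⟨Matrix.GeneralLinearGroup.det g, (dg n (Matrix.GeneralLinearGroup.det g))⁻¹ * g, det_GU hF hg, ⟨?_, ?_⟩,
    by rw [mul_inv_cancel_left]⟩
  · exact (GU n F q).mul_mem ((GU n F q).inv_mem (dg_mem_GU (det_GU hF hg))) hg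
  · change _ ∈ (Matrix.GeneralLinearGroup.det : GL (Fin n) F →* Fˣ).ker
    rw [MonoidHom.mem_ker, map_mul, map_inv]
    have : Matrix.GeneralLinearGroup.det (dg n (Matrix.GeneralLinearGroup.det g)) = Matrix.GeneralLinearGroup.det g := by
      apply Units.ext
      rw [Matrix.GeneralLinearGroup.val_det_apply, det_dg]
    rw [this, inv_mul_cancel]

/-- Similitudes of determinant one are products of a diagonal matrix and an isometry of determinant one. -/
theorem similitude_decomp {g : GL (Fin n) F} {μ : F}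
    (hg : ∀ u v, hermForm n F q ((g : Matrix (Fin n) (Fin n) F) *ᵥ u) ((g : Matrix (Fin n) (Fin n) F) *ᵥ v) =
      μ * hermForm n F q u v) (hμ : μ ≠ 0) :
    ∃ (l δ : Fˣ) (g' : GL (Fin n) F), δ ^ (q + 1) = 1 ∧ g' ∈ GU n F q ⊓ specialLinear (Fin n) F ∧
      g = sc n l * dg n δ * g' := by
  obtain ⟨l, h, hh, rfl⟩ := exists_sc_of_similitude hF hg hμ
  obtain ⟨δ, g', hδ, hg', rfl⟩ := exists_dg hF hh
  exact ⟨l, δ, g', hδ, hg', by rw [mul_assoc]⟩

theorem exists_norm_ne_one (hq : 3 ≤ q) : ∃ c : Fˣ, c ^ (q + 1) ≠ 1 := by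
  by_contra hcon
  push Not at hcon
  have h1 := card_norm_eq_one hF
  have h2 := card_units_eq hF
  have h3 : Nat.card {x : F // x * x ^ q = 1} = Nat.card Fˣ := by
    apply Nat.card_congr
    refine
      { toFun := fun x => Units.mk0 x.1 (fun h => by
          have := x.2; rw [h, zero_mul] at this; exact zero_ne_one this)
        invFun := fun x => ⟨(x : F), norm_iff.2 (hcon x)⟩
        left_inv := fun x => rfl
        right_inv := fun x => Units.ext rfl }
  rw [h1, h2] at h3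
  have : 2 ≤ q - 1 := by omega
  nlinarith

/-- A subgroup of `SL_n(F)` containing the diagonal group and `SU_n(q)` is `SL_n(F)`. -/
theorem eq_SL_of_herm (hn : 3 ≤ n) (hq : 3 ≤ q)
    (hmax : IsMaximalIn (specialLinear (Fin n) F) (similarityGroup (hermForm n F q) ⊓ specialLinear (Fin n) F))
    {M : Subgroup (GL (Fin n) F)} (hM : M ≤ specialLinear (Fin n) F)
    (hT : ∀ g ∈ specialLinear (Fin n) F, (∃ d : Fin n → F, (g : Matrix (Fin n) (Fin n) F) = Matrix.diagonal d) → g ∈ M)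
    (h₀ : GU n F q ⊓ specialLinear (Fin n) F ≤ M) : M = specialLinear (Fin n) F := by
  have hle : similarityGroup (hermForm n F q) ⊓ specialLinear (Fin n) F ≤ M := by
    rintro g ⟨⟨μ, hμ⟩, hgS⟩
    obtain ⟨l, δ, g', -, hg', rfl⟩ := similitude_decomp hF hμ μ.ne_zero
    refine M.mul_mem (hT _ ?_ ?_) (h₀ hg')
    · have := (specialLinear (Fin n) F).mul_mem hgS ((specialLinear (Fin n) F).inv_mem hg'.2)
      rwa [mul_inv_cancel_right] at this
    · refine ⟨(l : F) • fun i : Fin n => if (i : ℕ) = 0 then (δ : F) else 1, ?_⟩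
      rw [Units.val_mul, sc_coe, dg_coe, Matrix.smul_mul, one_mul, ← Matrix.diagonal_smul]
  rcases hmax.2 M hle hM with h | h
  · exfalso
    obtain ⟨c, hc⟩ := exists_norm_ne_one hF hq
    have h1 : tor n c ∈ M := hT _ (tor_mem_SL (by omega) c) ⟨_, tor_coe c⟩
    rw [h] at h1
    obtain ⟨μ, hμ⟩ := h1.1
    have e1 := hμ (Pi.single ⟨0, by omega⟩ 1) (Pi.single ⟨0, by omega⟩ 1)
    have e2 := hμ (Pi.single ⟨2, by omega⟩ 1) (Pi.single ⟨2, by omega⟩ 1)
    rw [tor_coe, Matrix.diagonal_mulVec_single, herm_single_right hF, herm_single_right hF, Pi.single_eq_same,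
      Pi.single_eq_same, one_pow, mul_one, mul_one, mul_one] at e1 e2
    simp only [if_true, OfNat.ofNat_ne_zero, OfNat.ofNat_ne_one, if_false, one_pow, mul_one] at e1 e2
    rw [← e2] at e1
    exact hc (norm_iff.1 e1)
  · exact h

end Finite

theorem exists_norm_one_notin [Fintype F] (hF : Fintype.card F = q ^ 2) (F₀ : Subfield F) {q₀ : ℕ}
    (h₀ : Nat.card F₀ = q₀ ^ 2) (hq : q₀ ^ 2 ≤ q) : ∃ c : Fˣ, c ^ (q + 1) = 1 ∧ (c : F) ∉ F₀ := by
  by_contra hcon
  push Not at hcon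
  have h1 := card_norm_eq_one hF
  have h3 : Nat.card {x : F // x * x ^ q = 1} ≤ Nat.card F₀ := by
    refine Nat.card_le_card_of_injective (fun x => ⟨x.1, ?_⟩) ?_
    · have hx0 : x.1 ≠ 0 := by
        intro h
        have := x.2
        rw [h, zero_mul] at this
        exact zero_ne_one this
      exact hcon (Units.mk0 x.1 hx0) (norm_iff.1 x.2)
    · intro x y hxy
      exact Subtype.ext (congrArg (fun z : F₀ => (z : F)) hxy)
  rw [h1, h₀] at h3
  omega

/-- A subgroup of `SU_n(q)` containing the diagonal group and `SU_n(q₀)`, `q = q₀^s`, `s` an odd prime, is `SU_n(q)`. -/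
theorem eq_SU_of_subfield [Fintype F] (hF : Fintype.card F = q ^ 2) (hn : 3 ≤ n) (F₀ : Subfield F) [Fintype F₀]
    {q₀ : ℕ} (hF₀ : Fintype.card F₀ = q₀ ^ 2) (hq : q₀ ^ 2 ≤ q) (hpow : ∀ x : F₀, (x : F) ^ q = ((x ^ q₀ : F₀) : F))
    (hmax : IsMaximalIn (GU n F q ⊓ specialLinear (Fin n) F)
      (subfieldSubgroup F₀ (1 : GL (Fin n) F) ⊓ (GU n F q ⊓ specialLinear (Fin n) F)))
    {M : Subgroup (GL (Fin n) F)} (hM : M ≤ GU n F q ⊓ specialLinear (Fin n) F)
    (hT : ∀ g ∈ GU n F q ⊓ specialLinear (Fin n) F,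
      (∃ d : Fin n → F, (g : Matrix (Fin n) (Fin n) F) = Matrix.diagonal d) → g ∈ M)
    (h₀ : ∀ g ∈ GU n F₀ q₀ ⊓ specialLinear (Fin n) F₀, ex n F₀ g ∈ M) :
    M = GU n F q ⊓ specialLinear (Fin n) F := by
  have hmem : ∀ g ∈ subfieldSubgroup F₀ (1 : GL (Fin n) F), ∃ (h : GL (Fin n) F₀) (l : Fˣ), g = sc n l * ex n F₀ h := by
    intro g hg
    unfold subfieldSubgroup at hg
    rw [Subgroup.mem_map] at hg
    obtain ⟨x, hx, rfl⟩ := hg
    obtain ⟨y, ⟨h, rfl⟩, z, hz, rfl⟩ := Subgroup.mem_sup_of_normal_right.1 hx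
    obtain ⟨l, rfl⟩ := mem_scalars_iff_sc.1 hz
    refine ⟨h, l, ?_⟩
    rw [sc_comm]
    simp [ex]
  have hherm : ∀ u v : Fin n → F₀, hermForm n F q (fun i => (u i : F)) (fun i => (v i : F)) =
      ((hermForm n F₀ q₀ u v : F₀) : F) := by
    intro u v
    rw [herm_def, herm_def]
    push_cast
    refine Finset.sum_congr rfl fun i _ => ?_
    rw [hpow]
    push_cast
    rfl
  have hexv : ∀ (h : GL (Fin n) F₀) (u : Fin n → F₀), (ex n F₀ h : Matrix (Fin n) (Fin n) F) *ᵥ (fun i => (u i : F)) =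
      fun i => ((((h : Matrix (Fin n) (Fin n) F₀) *ᵥ u) i : F₀) : F) := by
    intro h u
    funext i
    rw [Matrix.mulVec, dotProduct, Matrix.mulVec, dotProduct]
    push_cast
    rfl
  have hle : subfieldSubgroup F₀ (1 : GL (Fin n) F) ⊓ (GU n F q ⊓ specialLinear (Fin n) F) ≤ M := by
    rintro g ⟨hg, hgS⟩
    obtain ⟨h, l, rfl⟩ := hmem g hg
    -- `h` is a similitude
    set ν : F := ((l : F) * (l : F) ^ q)⁻¹ with hν
    have hl0 : (l : F) * (l : F) ^ q ≠ 0 := mul_ne_zero l.ne_zero (pow_ne_zero _ l.ne_zero)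
    have h1 : ∀ u v : Fin n → F₀, ((hermForm n F₀ q₀ ((h : Matrix (Fin n) (Fin n) F₀) *ᵥ u)
        ((h : Matrix (Fin n) (Fin n) F₀) *ᵥ v) : F₀) : F) = ν * ((hermForm n F₀ q₀ u v : F₀) : F) := by
      intro u v
      have h2 := (mem_GU_iff _).1 hgS.1 (fun i => (u i : F)) (fun i => (v i : F))
      rw [Units.val_mul, sc_coe, Matrix.smul_mul, one_mul, Matrix.smul_mulVec, Matrix.smul_mulVec, herm_smul_left,
        herm_smul_right, hexv, hexv, hherm, hherm] at h2
      rw [hν, ← h2]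
      field_simp
    set μ : F₀ := hermForm n F₀ q₀ ((h : Matrix (Fin n) (Fin n) F₀) *ᵥ Pi.single 0 1)
        ((h : Matrix (Fin n) (Fin n) F₀) *ᵥ Pi.single 0 1) with hμ
    have hμν : (μ : F) = ν := by
      rw [hμ, h1, herm_single_right hF₀, Pi.single_eq_same, one_pow, mul_one]
      simp
    have hμ0 : μ ≠ 0 := by
      intro h3
      rw [h3] at hμν
      exact inv_ne_zero hl0 (by rw [← hν, ← hμν]; simp)
    have h4 : ∀ u v, hermForm n F₀ q₀ ((h : Matrix (Fin n) (Fin n) F₀) *ᵥ u) ((h : Matrix (Fin n) (Fin n) F₀) *ᵥ v) =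
        μ * hermForm n F₀ q₀ u v := by
      intro u v
      apply Subtype.ext
      have := h1 u v
      rw [← hμν] at this
      rw [this]
      push_cast
      rfl
    obtain ⟨m, δ, h', hδ, hh', rfl⟩ := similitude_decomp hF₀ h4 hμ0
    have h5 : ex n F₀ h' ∈ M := h₀ h' hh'
    have h6 : sc n l * ex n F₀ (sc n m * dg n δ * h') = sc n l * ex n F₀ (sc n m * dg n δ) * ex n F₀ h' := by
      rw [map_mul _ _ h', mul_assoc]
    rw [h6] at hgS ⊢
    refine M.mul_mem (hT _ ?_ ?_) h5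
    · have := (GU n F q ⊓ specialLinear (Fin n) F).mul_mem hgS
        ((GU n F q ⊓ specialLinear (Fin n) F).inv_mem (hM h5))
      rwa [mul_inv_cancel_right] at this
    · refine ⟨fun i => (l : F) * (((m : F₀) * (if (i : ℕ) = 0 then (δ : F₀) else 1) : F₀) : F), ?_⟩
      rw [Units.val_mul, sc_coe, Matrix.smul_mul, one_mul, ex_coe, Units.val_mul, sc_coe, dg_coe, Matrix.smul_mul,
        one_mul, ← Matrix.diagonal_smul, Matrix.diagonal_map (map_zero _), ← Matrix.diagonal_smul]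
      rfl
  rcases hmax.2 M hle hM with h | h
  · exfalso
    obtain ⟨c, hc, hcF⟩ := exists_norm_one_notin hF F₀ (by rw [Nat.card_eq_fintype_card]; exact hF₀) hq
    have h1 : tor n c ∈ M := hT _ ⟨tor_mem_GU hc, tor_mem_SL (by omega) c⟩ ⟨_, tor_coe c⟩
    rw [h] at h1
    obtain ⟨g, l, hgl⟩ := hmem _ h1.1
    have hv : (tor n c : Matrix (Fin n) (Fin n) F) = ((sc n l * ex n F₀ g : GL (Fin n) F) : Matrix (Fin n) (Fin n) F) :=
      congrArg Units.val hgl
    have e0 := congrFun (congrFun hv ⟨0, by omega⟩) ⟨0, by omega⟩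
    have e2 := congrFun (congrFun hv ⟨2, by omega⟩) ⟨2, by omega⟩
    rw [tor_coe, Matrix.diagonal_apply_eq, Units.val_mul, sc_coe, Matrix.smul_mul, one_mul, Matrix.smul_apply,
      ex_apply] at e0 e2
    simp only [if_true, OfNat.ofNat_ne_zero, OfNat.ofNat_ne_one, if_false, smul_eq_mul] at e0 e2
    apply hcF
    set x : F₀ := (g : Matrix (Fin n) (Fin n) F₀) ⟨0, by omega⟩ ⟨0, by omega⟩ with hx
    set y : F₀ := (g : Matrix (Fin n) (Fin n) F₀) ⟨2, by omega⟩ ⟨2, by omega⟩ with hy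
    have hy0 : (y : F) ≠ 0 := by
      intro h2
      rw [h2, mul_zero] at e2
      exact one_ne_zero e2
    have : (c : F) = ((x / y : F₀) : F) := by
      push_cast
      rw [e0, eq_div_iff hy0]
      calc (l : F) * (x : F) * (y : F) = ((l : F) * (y : F)) * (x : F) := by ring
        _ = _ := by rw [← e2, one_mul]
    rw [this]
    exact (x / y).2
  · exact h

end Cfsg.Agent.H321.Ker
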